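import Groth.Agent.AbDual.K732.Dual

/-!
# Transposes

`hA : IsDualAV fppf A At φA`, `hB : IsDualAV fppf B Bt φB`, `ξ` a Poincaré class for `B`, `f : A ⟶ B`.

* `isTranspose_iff_forall` : the transpose condition on `Pic` groups;
* `isTranspose_iff` : `IsTranspose f φA φB ft ↔ ft = cm φA (pull (bcMap f Bt) ξ)`;
* `exists_isTranspose`, `IsTranspose.unique`, `IsTranspose.isMonHom`;
* `IsTranspose.comp`, `IsTranspose.id`.
-/

set_option autoImplicit false
universe u

open CategoryTheory CategoryTheory.Limits MonoidalCategory CartesianMonoidalCategory MonObj GrpObj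
  AlgebraicGeometry

namespace K732.Transp

open Groth.Agent.Grpsch.PicGrp Groth.Agent.Fga.RigGrp K732.Cov K732.PicZero K732.RigSheaf K732.Dual

variable {S : Scheme.{u}}

section bcMap

variable {A B C : Over S}

theorem bcMap_id (T : Over S) : AbDual.bcMap (𝟙 A) T = 𝟙 _ := by
  apply pullback.hom_ext
  · rw [bcMap_fst, Category.id_comp]
    exact Category.comp_id _
  · rw [Category.id_comp]
    exact bcMap_XTproj _ _

theorem bcMap_comp (f : A ⟶ B) (g : B ⟶ C) (T : Over S) :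
    AbDual.bcMap (f ≫ g) T = AbDual.bcMap f T ≫ AbDual.bcMap g T := by
  apply pullback.hom_ext
  · rw [bcMap_fst, Category.assoc, bcMap_fst, bcMap_fst_assoc, Over.comp_left]
  · exact (bcMap_XTproj _ _).trans ((bcMap_XTproj f T).symm.trans
      ((congrArg (AbDual.bcMap f T ≫ ·) (bcMap_XTproj g T).symm).trans (Category.assoc _ _ _).symm))

theorem bcMap_XTmap (f : A ⟶ B) {T T' : Over S} (g : T' ⟶ T) :
    AbDual.bcMap f T' ≫ PicF.XTmap B.hom g = PicF.XTmap A.hom g ≫ AbDual.bcMap f T := by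
  apply pullback.hom_ext
  · rw [Category.assoc, XTmap_fst, bcMap_fst, Category.assoc, bcMap_fst, XTmap_fst_assoc]
  · have h1 := XTmap_XTproj B.hom g
    have h2 := XTmap_XTproj A.hom g
    have h3 := bcMap_XTproj f T
    have h4 := bcMap_XTproj f T'
    rw [Category.assoc, Category.assoc]
    erw [h1, h3, h2, ← h4, Category.assoc]

theorem pull_bcMap_XTmap (f : A ⟶ B) {T T' : Over S} (g : T' ⟶ T) (c : Pic (PicF.XT B.hom T)) :
    pull (AbDual.bcMap f T') (pull (PicF.XTmap B.hom g) c) =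
      pull (PicF.XTmap A.hom g) (pull (AbDual.bcMap f T) c) := by
  rw [← pull_comp, ← pull_comp, bcMap_XTmap]

theorem pull_bcMap_XTproj (f : A ⟶ B) {T : Over S} (n : Pic T.left) :
    pull (AbDual.bcMap f T) (pull (PicF.XTproj B.hom T) n) = pull (PicF.XTproj A.hom T) n := by
  rw [← pull_comp, bcMap_XTproj]

end bcMap

variable {A B C At Bt Ct : Over S}
  {φA : ∀ T : Over S, PicF.Cl (PicF.XT A.hom T) → (T ⟶ At)}
  {φB : ∀ T : Over S, PicF.Cl (PicF.XT B.hom T) → (T ⟶ Bt)}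
  {φC : ∀ T : Over S, PicF.Cl (PicF.XT C.hom T) → (T ⟶ Ct)}

/-- The transpose condition on Picard groups. -/
theorem isTranspose_iff_forall {f : A ⟶ B} {ft : Bt ⟶ At} : AbDual.IsTranspose f φA φB ft ↔
    ∀ (T : Over S) (c : Pic (PicF.XT B.hom T)), c ∈ pz B.hom T →
      cm φA (pull (AbDual.bcMap f T) c) = cm φB c ≫ ft := by
  constructor
  · intro h T c hc
    rw [cm, toCl_pull]
    exact h T _ (isPicZeroCl_iff.2 hc)
  · intro h T c hc
    obtain ⟨d, hd, rfl⟩ := exists_pz hc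
    rw [← toCl_pull]
    exact h T d hd

theorem _root_.AbDual.IsTranspose.cm {f : A ⟶ B} {ft : Bt ⟶ At}
    (h : AbDual.IsTranspose f φA φB ft) {T : Over S} {c : Pic (PicF.XT B.hom T)}
    (hc : c ∈ pz B.hom T) : K732.Dual.cm φA (pull (AbDual.bcMap f T) c) = K732.Dual.cm φB c ≫ ft :=
  isTranspose_iff_forall.1 h T c hc

/-- Transposes compose. -/
theorem isTranspose_comp {f : A ⟶ B} {g : B ⟶ C} {ft : Bt ⟶ At} {gt : Ct ⟶ Bt}
    (hf : AbDual.IsTranspose f φA φB ft) (hg : AbDual.IsTranspose g φB φC gt) :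
    AbDual.IsTranspose (f ≫ g) φA φC (gt ≫ ft) := by
  rw [isTranspose_iff_forall]
  intro T c hc
  rw [bcMap_comp, pull_comp, hf.cm (pull_bcMap_mem g hc), hg.cm hc, Category.assoc]

theorem isTranspose_id : AbDual.IsTranspose (𝟙 A) φA φA (𝟙 At) := by
  rw [isTranspose_iff_forall]
  intro T c hc
  rw [bcMap_id, pull_id, Category.comp_id]

variable [GrpObj B] [GrpObj At] [GrpObj Bt]

/-- The candidate for the transpose is the transpose. -/
theorem isTranspose_of_poinc (hA : AbDual.IsDualAV Scheme.fppfPrecoverage A At φA)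
    (hB : AbDual.IsDualAV Scheme.fppfPrecoverage B Bt φB)
    (hF : ∀ T : Over S, Function.Bijective (PicF.XTproj B.hom T).appTop)
    {ξ : Pic (PicF.XT B.hom Bt)} (h1 : ξ ∈ pz B.hom Bt) (h2 : ξ ∈ rg B Bt) (h3 : cm φB ξ = 𝟙 Bt)
    (f : A ⟶ B) : AbDual.IsTranspose f φA φB (cm φA (pull (AbDual.bcMap f Bt) ξ)) := by
  rw [isTranspose_iff_forall]
  intro T c hc
  have h4 := eq_pull_poinc' hB hF h1 h2 h3 hc
  have h5 : c = pull (PicF.XTmap B.hom (cm φB c)) ξ *
      pull (PicF.XTproj B.hom T) (pull (PicF.secT B.hom η[B].left (Over.w η[B]) T) c) := by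
    rw [← h4, norm_apply, div_mul_cancel]
  have h6 : cm φA (pull (AbDual.bcMap f T) c) =
      cm φA (pull (PicF.XTmap A.hom (cm φB c)) (pull (AbDual.bcMap f Bt) ξ)) := by
    conv_lhs => rw [h5]
    rw [map_mul, pull_bcMap_XTproj, pull_bcMap_XTmap,
      cm_mul hA (pull_XTmap_mem _ (pull_bcMap_mem f h1)) (pull_XTproj_mem _), cm_base hA, _root_.mul_one]
  rw [h6, cm_pull hA _ (pull_bcMap_mem f h1)]

/-- Characterisation of the transpose by the Poincaré class. -/
theorem isTranspose_iff (hA : AbDual.IsDualAV Scheme.fppfPrecoverage A At φA)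
    (hB : AbDual.IsDualAV Scheme.fppfPrecoverage B Bt φB)
    (hF : ∀ T : Over S, Function.Bijective (PicF.XTproj B.hom T).appTop)
    {ξ : Pic (PicF.XT B.hom Bt)} (h1 : ξ ∈ pz B.hom Bt) (h2 : ξ ∈ rg B Bt) (h3 : cm φB ξ = 𝟙 Bt)
    {f : A ⟶ B} {ft : Bt ⟶ At} :
    AbDual.IsTranspose f φA φB ft ↔ ft = cm φA (pull (AbDual.bcMap f Bt) ξ) := by
  constructor
  · intro h
    rw [h.cm h1, h3, Category.id_comp]
  · rintro rfl
    exact isTranspose_of_poinc hA hB hF h1 h2 h3 f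

/-- Transposes exist. -/
theorem exists_isTranspose (hA : AbDual.IsDualAV Scheme.fppfPrecoverage A At φA)
    (hB : AbDual.IsDualAV Scheme.fppfPrecoverage B Bt φB)
    (hF : ∀ T : Over S, Function.Bijective (PicF.XTproj B.hom T).appTop) (f : A ⟶ B) :
    ∃ ft : Bt ⟶ At, AbDual.IsTranspose f φA φB ft := by
  obtain ⟨ξ, h1, h2, h3⟩ := exists_poinc hB hF
  exact ⟨_, isTranspose_of_poinc hA hB hF h1 h2 h3 f⟩

omit [GrpObj At] in
/-- Transposes are unique. -/
theorem isTranspose_unique (hB : AbDual.IsDualAV Scheme.fppfPrecoverage B Bt φB)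
    (hF : ∀ T : Over S, Function.Bijective (PicF.XTproj B.hom T).appTop) {f : A ⟶ B}
    {ft ft' : Bt ⟶ At} (h : AbDual.IsTranspose f φA φB ft) (h' : AbDual.IsTranspose f φA φB ft') :
    ft = ft' := by
  obtain ⟨ξ, h1, h2, h3⟩ := exists_poinc hB hF
  have e1 := h.cm h1
  have e2 := h'.cm h1
  rw [h3, Category.id_comp] at e1 e2
  rw [← e1, e2]

/-- Transposes are homomorphisms. -/
theorem isMonHom_of_isTranspose (hA : AbDual.IsDualAV Scheme.fppfPrecoverage A At φA)
    (hB : AbDual.IsDualAV Scheme.fppfPrecoverage B Bt φB)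
    (hF : ∀ T : Over S, Function.Bijective (PicF.XTproj B.hom T).appTop) {f : A ⟶ B}
    {ft : Bt ⟶ At} (h : AbDual.IsTranspose f φA φB ft) : IsMonHom ft := by
  have key : ∀ (T : Over S) (a b : T ⟶ Bt), (a * b) ≫ ft = (a ≫ ft) * (b ≫ ft) := by
    intro T a b
    obtain ⟨c, hc, -, rfl⟩ := exists_cm hB hF a
    obtain ⟨d, hd, -, rfl⟩ := exists_cm hB hF b
    rw [← cm_mul hB hc hd, ← h.cm (mul_mem hc hd), map_mul,
      cm_mul hA (pull_bcMap_mem f hc) (pull_bcMap_mem f hd), h.cm hc, h.cm hd]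
  have h1 := key (Bt ⊗ Bt) (fst _ _) (snd _ _)
  have h2 := key (𝟙_ _) η[Bt] η[Bt]
  refine ⟨?_, ?_⟩
  · have h3 : (η[Bt] * η[Bt] : 𝟙_ (Over S) ⟶ Bt) = η[Bt] := by
      rw [show (η[Bt] : 𝟙_ (Over S) ⟶ Bt) = 1 from by simp [Hom.one_def], _root_.mul_one]
    rw [h3] at h2
    have h4 := mul_eq_left.1 h2.symm
    rw [h4]
    simp [Hom.one_def]
  · rw [Hom.mul_def, Hom.mul_def] at h1
    simpa using h1

end K732.Transp
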