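import Groth.Agent.AbDual.K732.CubeSec
import Groth.Agent.AbDual.K732.Transp

/-!
# `Pic⁰` classes are primitive

* `ev_mul` : a class `ξ` on `A ⊗ C` trivial on `1 × C` and `A × 1` satisfies `ξ(a b, y) = ξ(a, y) ξ(b, y)`;
* `prim` : the same for rigidified `Pic⁰` classes on `A_T`, any `T`;
* `cm_bcMap_mul` : `cm ((f * g)^* c) = cm (f^* c) * cm (g^* c)`.
-/

set_option autoImplicit false
universe u

open CategoryTheory CategoryTheory.Limits MonoidalCategory CartesianMonoidalCategory MonObj GrpObj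
  AlgebraicGeometry

namespace K732.Prim

open Groth.Agent.Grpsch.PicGrp Groth.Agent.Fga.RigGrp K732.Cov K732.PicZero K732.RigSheaf K732.Dual
open K732.CubeSec K732.Transp

variable {S : Scheme.{u}}

section points

variable {A B T T' W W' : Over S}

/-- The value of a class on `A_T` at a point. -/
noncomputable def ev (a : W ⟶ A) (g : W ⟶ T) : Pic (PicF.XT A.hom T) →* Pic W.left :=
  pull (lift a g).left

theorem ev_def (a : W ⟶ A) (g : W ⟶ T) (c : Pic (PicF.XT A.hom T)) :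
    ev a g c = pull (lift a g).left c := rfl

theorem pull_ev (h : W' ⟶ W) (a : W ⟶ A) (g : W ⟶ T) (c : Pic (PicF.XT A.hom T)) :
    pull h.left (ev a g c) = ev (h ≫ a) (h ≫ g) c := by
  rw [ev_def, ev_def, ← pull_comp, ← Over.comp_left, comp_lift]

theorem lift_XTmap (a : W ⟶ A) (g : W ⟶ T') (h : T' ⟶ T) :
    (lift a g).left ≫ PicF.XTmap A.hom h = (lift a (g ≫ h)).left := by
  apply pullback.hom_ext
  · rw [Category.assoc, XTmap_fst]
    exact (congrArg CommaMorphism.left (lift_fst a g)).trans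
      (congrArg CommaMorphism.left (lift_fst a (g ≫ h))).symm
  · rw [Category.assoc]
    have e3 := XTmap_XTproj A.hom h
    refine (congrArg ((lift a g).left ≫ ·) e3).trans ?_
    rw [← Category.assoc]
    refine (congrArg (· ≫ h.left) (congrArg CommaMorphism.left (lift_snd a g))).trans ?_
    exact (congrArg CommaMorphism.left (lift_snd a (g ≫ h))).symm

theorem ev_XTmap (a : W ⟶ A) (g : W ⟶ T') (h : T' ⟶ T) (c : Pic (PicF.XT A.hom T)) :
    ev a g (pull (PicF.XTmap A.hom h) c) = ev a (g ≫ h) c := by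
  rw [ev_def, ev_def, ← pull_comp]
  exact congrArg (fun t ↦ pull t c) (lift_XTmap a g h)

theorem lift_bcMap (f : A ⟶ B) (a : W ⟶ A) (g : W ⟶ T) :
    (lift a g).left ≫ AbDual.bcMap f T = (lift (a ≫ f) g).left := by
  apply pullback.hom_ext
  · rw [Category.assoc, bcMap_fst]
    rw [← Category.assoc]
    refine (congrArg (· ≫ f.left) (congrArg CommaMorphism.left (lift_fst a g))).trans ?_
    exact (congrArg CommaMorphism.left (lift_fst (a ≫ f) g)).symm
  · rw [Category.assoc]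
    refine (congrArg ((lift a g).left ≫ ·) (bcMap_XTproj f T)).trans ?_
    exact (congrArg CommaMorphism.left (lift_snd a g)).trans
      (congrArg CommaMorphism.left (lift_snd (a ≫ f) g)).symm

theorem ev_bcMap (f : A ⟶ B) (a : W ⟶ A) (g : W ⟶ T) (c : Pic (PicF.XT B.hom T)) :
    ev a g (pull (AbDual.bcMap f T) c) = ev (a ≫ f) g c := by
  rw [ev_def, ev_def, ← pull_comp]
  exact congrArg (fun t ↦ pull t c) (lift_bcMap f a g)

theorem lift_XTproj (a : W ⟶ A) (g : W ⟶ T) :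
    (lift a g).left ≫ PicF.XTproj A.hom T = g.left :=
  congrArg CommaMorphism.left (lift_snd a g)

theorem ev_XTproj (a : W ⟶ A) (g : W ⟶ T) (n : Pic T.left) :
    ev a g (pull (PicF.XTproj A.hom T) n) = pull g.left n := by
  rw [ev_def, ← pull_comp]
  exact congrArg (fun t ↦ pull t n) (lift_XTproj a g)

theorem secT_eq [GrpObj A] (T : Over S) :
    PicF.secT A.hom η[A].left (Over.w η[A]) T = (lift (1 : T ⟶ A) (𝟙 T)).left := by
  apply pullback.hom_ext
  · rw [secT_fst]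
    symm
    exact congrArg CommaMorphism.left (lift_fst (1 : T ⟶ A) (𝟙 T))
  · have e2 := secT_XTproj A.hom η[A].left (Over.w η[A]) T
    refine e2.trans ?_
    symm
    exact congrArg CommaMorphism.left (lift_snd (1 : T ⟶ A) (𝟙 T))

theorem pull_secT [GrpObj A] (c : Pic (PicF.XT A.hom T)) :
    pull (PicF.secT A.hom η[A].left (Over.w η[A]) T) c = ev (1 : T ⟶ A) (𝟙 T) c := by
  rw [secT_eq]
  rfl

theorem ev_one [GrpObj A] {c : Pic (PicF.XT A.hom T)} (g : W ⟶ T) :
    ev (1 : W ⟶ A) g c = pull g.left (pull (PicF.secT A.hom η[A].left (Over.w η[A]) T) c) := by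
  rw [pull_secT, pull_ev, MonObj.comp_one, Category.comp_id]

theorem ev_one_of_mem [GrpObj A] {c : Pic (PicF.XT A.hom T)} (hc : c ∈ rg A T) (g : W ⟶ T) :
    ev (1 : W ⟶ A) g c = 1 := by
  rw [ev_one, (mem_Rg _ _ _).1 hc, map_one]

theorem mem_rg_iff [GrpObj A] {c : Pic (PicF.XT A.hom T)} :
    c ∈ rg A T ↔ ev (1 : T ⟶ A) (𝟙 T) c = 1 := by
  rw [mem_Rg, pull_secT]

/-- The universal point. -/
theorem ev_univ (c : Pic (PicF.XT A.hom T)) : ev (fst A T) (snd A T) c = c := by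
  rw [ev_def, lift_fst_snd, Over.id_left]
  exact pull_id c

theorem ext_ev {c d : Pic (PicF.XT A.hom T)} (h : ∀ (W : Over S) (a : W ⟶ A) (g : W ⟶ T),
    ev a g c = ev a g d) : c = d := by
  rw [← ev_univ c, ← ev_univ d, h]

end points

section mul

variable [IsLocallyNoetherian S] {A C : Over S} [GrpObj A] [GrpObj C]
  [IsProper A.hom] [Flat A.hom] [LocallyOfFinitePresentation A.hom] [GeometricallyIntegral A.hom]
  [LocallyOfFiniteType C.hom] [GeometricallyConnected C.hom]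

/-- **A class on `A ⊗ C` trivial on both axes is additive in the first variable.** -/
theorem ev_mul {ξ : Pic (PicF.XT A.hom C)} (h1 : ∀ (W : Over S) (y : W ⟶ C), ev (1 : W ⟶ A) y ξ = 1)
    (h2 : ∀ (W : Over S) (a : W ⟶ A), ev a (1 : W ⟶ C) ξ = 1) {W : Over S} (a b : W ⟶ A)
    (y : W ⟶ C) : ev (a * b) y ξ = ev a y ξ * ev b y ξ := by
  let u : (A ⊗ A) ⊗ C ⟶ A := fst _ _ ≫ fst _ _
  let v : (A ⊗ A) ⊗ C ⟶ A := fst _ _ ≫ snd _ _
  let w : (A ⊗ A) ⊗ C ⟶ C := snd _ _
  let M : Pic ((A ⊗ A) ⊗ C).left := ev (u * v) w ξ * (ev u w ξ * ev v w ξ)⁻¹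
  have hM : ∀ {W : Over S} (a b : W ⟶ A) (y : W ⟶ C), pull (lift (lift a b) y).left M =
      ev (a * b) y ξ * (ev a y ξ * ev b y ξ)⁻¹ := by
    intro W a b y
    have e1 : lift (lift a b) y ≫ u = a := by simp [u]
    have e2 : lift (lift a b) y ≫ v = b := by simp [v]
    have e3 : lift (lift a b) y ≫ w = y := by simp [w]
    simp only [M, map_mul, map_inv, pull_ev, MonObj.comp_mul, e1, e2, e3]
  have key : M = 1 := by
    refine cube_section A A C M (fun W b y ↦ ?_) (fun W a y ↦ ?_) (fun W a b ↦ ?_)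
    · rw [hM, _root_.one_mul, h1, _root_.one_mul, mul_inv_cancel]
    · rw [hM, _root_.mul_one, h1, _root_.mul_one, mul_inv_cancel]
    · rw [hM, h2, h2, h2, _root_.one_mul, _root_.one_mul, inv_one]
  have h := hM a b y
  rw [key, map_one] at h
  exact (mul_inv_eq_one.1 h.symm)

end mul

section dual

variable [IsLocallyNoetherian S] {A At : Over S} [GrpObj A] [GrpObj At]
  [IsProper A.hom] [Flat A.hom] [LocallyOfFinitePresentation A.hom] [GeometricallyIntegral A.hom]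
  [LocallyOfFiniteType At.hom] [GeometricallyConnected At.hom]
  {φ : ∀ T : Over S, PicF.Cl (PicF.XT A.hom T) → (T ⟶ At)}
  (hD : AbDual.IsDualAV Scheme.fppfPrecoverage A At φ)

include hD

omit [IsLocallyNoetherian S] [LocallyOfFiniteType At.hom] [GeometricallyConnected At.hom] in
/-- The Poincaré class is trivial on `A × 1`. -/
theorem poinc_one {ξ : Pic (PicF.XT A.hom At)} (h1 : ξ ∈ pz A.hom At) (h2 : ξ ∈ rg A At)
    (h3 : cm φ ξ = 𝟙 At) {W : Over S} (a : W ⟶ A) : ev a (1 : W ⟶ At) ξ = 1 := by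
  have e1 : pull (PicF.XTmap A.hom (1 : W ⟶ At)) ξ = 1 := by
    refine cm_inj hD (bijective_XTproj A.hom) (pull_XTmap_mem _ h1) (one_mem _) (pull_mem _ h2)
      (one_mem _) ?_
    rw [cm_pull hD _ h1, h3, Category.comp_id, cm_one hD]
  have e2 := ev_XTmap a (𝟙 W) (1 : W ⟶ At) ξ
  rw [e1, map_one, Category.id_comp] at e2
  exact e2.symm

/-- The Poincaré class is additive in the first variable. -/
theorem poinc_mul {ξ : Pic (PicF.XT A.hom At)} (h1 : ξ ∈ pz A.hom At) (h2 : ξ ∈ rg A At)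
    (h3 : cm φ ξ = 𝟙 At) {W : Over S} (a b : W ⟶ A) (y : W ⟶ At) :
    ev (a * b) y ξ = ev a y ξ * ev b y ξ :=
  ev_mul (fun _ y ↦ ev_one_of_mem h2 y) (fun _ a ↦ poinc_one hD h1 h2 h3 a) a b y

/-- **Rigidified `Pic⁰` classes are primitive.** -/
theorem prim {T : Over S} {c : Pic (PicF.XT A.hom T)} (hc : c ∈ pz A.hom T) (hc' : c ∈ rg A T)
    {W : Over S} (a b : W ⟶ A) (g : W ⟶ T) : ev (a * b) g c = ev a g c * ev b g c := by
  obtain ⟨ξ, h1, h2, h3⟩ := exists_poinc hD (bijective_XTproj A.hom)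
  have e := eq_pull_poinc hD (bijective_XTproj A.hom) h1 h2 h3 hc hc'
  rw [e, ev_XTmap, ev_XTmap, ev_XTmap, poinc_mul hD h1 h2 h3]

theorem prim_inv {T : Over S} {c : Pic (PicF.XT A.hom T)} (hc : c ∈ pz A.hom T) (hc' : c ∈ rg A T)
    {W : Over S} (a : W ⟶ A) (g : W ⟶ T) : ev a⁻¹ g c = (ev a g c)⁻¹ := by
  have h := prim hD hc hc' a a⁻¹ g
  rw [mul_inv_cancel, ev_one_of_mem hc'] at h
  exact eq_inv_of_mul_eq_one_right h.symm

/-- On pull backs of `Pic⁰` classes along morphisms into `A`. -/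
theorem bcMap_mul {X : Over S} {T : Over S} {c : Pic (PicF.XT A.hom T)} (hc : c ∈ pz A.hom T)
    (hc' : c ∈ rg A T) (f g : X ⟶ A) : pull (AbDual.bcMap (f * g) T) c =
      pull (AbDual.bcMap f T) c * pull (AbDual.bcMap g T) c := by
  refine ext_ev fun W a t ↦ ?_
  rw [map_mul, ev_bcMap, ev_bcMap, ev_bcMap, MonObj.comp_mul, prim hD hc hc']

theorem bcMap_inv {X : Over S} {T : Over S} {c : Pic (PicF.XT A.hom T)} (hc : c ∈ pz A.hom T)
    (hc' : c ∈ rg A T) (f : X ⟶ A) : pull (AbDual.bcMap f⁻¹ T) c =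
      (pull (AbDual.bcMap f T) c)⁻¹ := by
  refine ext_ev fun W a t ↦ ?_
  rw [map_inv, ev_bcMap, ev_bcMap, GrpObj.comp_inv, prim_inv hD hc hc']

omit [IsLocallyNoetherian S] [LocallyOfFiniteType At.hom] [GeometricallyConnected At.hom]
  [IsProper A.hom] [Flat A.hom] [LocallyOfFinitePresentation A.hom] [GeometricallyIntegral A.hom]
  hD in
theorem bcMap_one {X : Over S} {T : Over S} {c : Pic (PicF.XT A.hom T)}
    (hc' : c ∈ rg A T) : pull (AbDual.bcMap (1 : X ⟶ A) T) c = 1 := by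
  refine ext_ev fun W a t ↦ ?_
  rw [map_one, ev_bcMap, MonObj.comp_one, ev_one_of_mem hc']

variable {X Xt : Over S} [GrpObj Xt] {φX : ∀ T : Over S, PicF.Cl (PicF.XT X.hom T) → (T ⟶ Xt)}
  (hX : AbDual.IsDualAV Scheme.fppfPrecoverage X Xt φX)

include hX

/-- The transpose of a product is the product of the transposes. -/
theorem isTranspose_mul {f g : X ⟶ A} {ft gt : At ⟶ Xt} (hf : AbDual.IsTranspose f φX φ ft)
    (hg : AbDual.IsTranspose g φX φ gt) : AbDual.IsTranspose (f * g) φX φ (ft * gt) := by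
  obtain ⟨ξ, h1, h2, h3⟩ := exists_poinc hD (bijective_XTproj A.hom)
  rw [isTranspose_iff hX hD (bijective_XTproj A.hom) h1 h2 h3] at hf hg ⊢
  rw [bcMap_mul hD h1 h2, cm_mul hX (pull_bcMap_mem _ h1) (pull_bcMap_mem _ h1), ← hf, ← hg]

theorem isTranspose_inv {f : X ⟶ A} {ft : At ⟶ Xt} (hf : AbDual.IsTranspose f φX φ ft) :
    AbDual.IsTranspose f⁻¹ φX φ ft⁻¹ := by
  obtain ⟨ξ, h1, h2, h3⟩ := exists_poinc hD (bijective_XTproj A.hom)
  rw [isTranspose_iff hX hD (bijective_XTproj A.hom) h1 h2 h3] at hf ⊢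
  rw [bcMap_inv hD h1 h2, cm_inv hX (pull_bcMap_mem _ h1), ← hf]

omit [IsLocallyNoetherian S] [LocallyOfFiniteType At.hom] [GeometricallyConnected At.hom] in
theorem isTranspose_one : AbDual.IsTranspose (1 : X ⟶ A) φX φ (1 : At ⟶ Xt) := by
  obtain ⟨ξ, h1, h2, h3⟩ := exists_poinc hD (bijective_XTproj A.hom)
  rw [isTranspose_iff hX hD (bijective_XTproj A.hom) h1 h2 h3, bcMap_one h2]
  exact (cm_one hX).symm

end dual

end K732.Prim
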