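import Groth.Agent.AbSch.K449.Basic
import Groth.Agent.Flat2B.SmoothGeom
import Groth.Agent.AbDual.K732.Prim

/-!
# Duals of abelian schemes

The results of `K732.Dual`, `K732.Transp`, `K732.Prim` for abelian schemes in the form in which statements give
them: `[GrpObj X] [IsProper X.hom] [Smooth X.hom] [GeometricallyConnected X.hom]`.

* `geomInt` : geometrically integral fibres; `hF` : `Γ(T, O) = Γ(X_T, O)`.
-/

set_option autoImplicit false
universe u

open CategoryTheory CategoryTheory.Limits MonoidalCategory CartesianMonoidalCategory MonObj GrpObj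
  AlgebraicGeometry

namespace K732.AV

open Groth.Agent.Grpsch.PicGrp Groth.Agent.Fga.RigGrp K732.Cov K732.PicZero K732.RigSheaf
  K732.Dual K732.Transp K732.CubeSec K732.Prim

variable {S : Scheme.{u}}

/-- Smooth group schemes with geometrically connected fibres have geometrically integral fibres. -/
theorem geomInt (X : Over S) [GrpObj X] [Smooth X.hom] [GeometricallyConnected X.hom] :
    GeometricallyIntegral X.hom := by
  have : GeometricallyReduced X.hom :=
    Groth.Agent.Flat2B.SmoothGeom.geometricallyReduced_of_smooth X.hom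
  exact K449.Basic.geometricallyIntegral X

/-- `Γ(T, O) = Γ(X_T, O)`. -/
theorem hF (X : Over S) [GrpObj X] [IsProper X.hom] [Smooth X.hom] [GeometricallyConnected X.hom]
    (T : Over S) : Function.Bijective (PicF.XTproj X.hom T).appTop := by
  have := geomInt X
  exact bijective_XTproj X.hom T

/-- A Poincaré class in `PicF.Cl` comes from the Picard group. -/
theorem exists_of_isPoincareCl {A At : Over S} [GrpObj A] [GrpObj At]
    {φ : ∀ T : Over S, PicF.Cl (PicF.XT A.hom T) → (T ⟶ At)} {ξ : PicF.Cl (PicF.XT A.hom At)}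
    (h : AbDual.IsPoincareCl A At φ ξ) : ∃ ζ : Pic (PicF.XT A.hom At), ζ ∈ pz A.hom At ∧
      ζ ∈ rg A At ∧ cm φ ζ = 𝟙 At ∧ toCl ζ = ξ := by
  obtain ⟨h1, h2, h3⟩ := h
  obtain ⟨ζ, hζ, rfl⟩ := exists_pz h1
  refine ⟨ζ, hζ, ?_, h2, rfl⟩
  rw [← toCl_pull] at h3
  exact (mem_Rg _ _ _).2 ((isTrivialCl_toCl_iff _).1 h3)

end K732.AV
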