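import Groth.Agent.AbDual.K732.Isog
import Groth.Agent.AbVar.K512.PhiSurj
import Groth.Agent.AbVar.K528.MumZero
import Groth.Agent.AbVar.K518.Phi

/-!
# Classes killed by an isogeny are algebraically equivalent to zero

* `mem_az_of_inv` : translation invariant classes are algebraically equivalent to zero (`k` algebraically closed);
* `inv_of_pow`, `inv_of_isogeny` : `[n]^* c = 1` (`n ≥ 1`) or `f^* c = 1` (`f` an isogeny) imply `c` translation
  invariant;
* `mem_pz_of_isogeny` : over any base, a class on `Y_T` killed by the isogeny `f_T : X_T ⟶ Y_T` is in `Pic⁰`.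
-/

set_option autoImplicit false
set_option linter.unusedSectionVars false
universe u

open CategoryTheory CategoryTheory.Limits MonoidalCategory CartesianMonoidalCategory MonObj GrpObj
  AlgebraicGeometry

namespace K732.AZ

open Groth.Agent.Grpsch.PicGrp Groth.Agent.Grpsch.Cube K732.PicZero K732.Prim K518.Phi

section closed

variable {k : Type u} [Field k] [IsAlgClosed k] {A B : Over (Spec (CommRingCat.of k))} [GrpObj A]
  [GrpObj B] [IsProper A.hom] [GeometricallyIntegral A.hom] [IsProper B.hom]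
  [GeometricallyIntegral B.hom]

/-- Slices of the Mumford class are algebraically equivalent to zero. -/
theorem phi_mem_az (c : Pic A.left) (x : 𝟙_ (Over (Spec (CommRingCat.of k))) ⟶ A) :
    phi c x ∈ az A.hom := by
  have hc : GeometricallyConnected A.hom := K732.Isog.geomConn_of_geomInt A.hom
  have h1 : K528.MumZero.mumCl A c ∈ gz (PicF.XTproj A.hom A) := K528.MumZero.fibZero_mumCl A c
  have h2 := pull_mem_of_mem h1 (Ω := k) x.left (lift (𝟙 A) (toUnit A ≫ x)).left A.hom (by
    have := lift_XTproj (𝟙 A) (toUnit A ≫ x)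
    exact this)
  have h3 := K528.MumZero.pull_lift_mumCl A c (𝟙 A) (toUnit A ≫ x)
  have h4 : pull (toUnit A ≫ x).left c = 1 := pl_const (T := A) x c
  have h5 : pull (𝟙 A : A ⟶ A).left c = c := pull_id c
  rw [h4, h5, inv_one, _root_.mul_one] at h3
  have h6 : phi c x = pull (𝟙 A * (toUnit A ≫ x)).left c * c⁻¹ := rfl
  rw [h6, ← h3]
  exact h2

/-- Translation invariant classes are algebraically equivalent to zero. -/
theorem mem_az_of_inv {c : Pic A.left} (hc : c ∈ Inv A) : c ∈ az A.hom := by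
  obtain ⟨L, hL⟩ := Groth.Agent.S1841.result k A
  obtain ⟨x, hx⟩ := K512.PhiSurj.exists_eq_of_isAmple L hL c (fun x ↦ mem_Inv_iff.1 hc x)
  rw [← hx]
  exact phi_mem_az (mk L hL.1) x

/-- Classes killed by `[n]` are translation invariant. -/
theorem inv_of_pow {c : Pic A.left} {n : ℕ} (hn : 1 ≤ n) (h : pl ((𝟙 A : A ⟶ A) ^ n) c = 1) :
    c ∈ Inv A := by
  have hcomm : IsCommMonObj A := isCommMonObj_of_isProper_of_geometricallyIntegral A
  intro x
  have hs := (Groth.Agent.Grpsch.MulFinFlat.isFinite_flat_surjective k A (n * n)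
    (Nat.mul_pos hn hn)).2.2
  obtain ⟨y, hy⟩ := K512.Pts.exists_lift ((𝟙 A : A ⟶ A) ^ (n * n)) x
  rw [MonObj.comp_pow, Category.comp_id] at hy
  have h1 : phi c (y ^ n) ∈ Inv A := phi_mem_Inv c _
  have h2 : phi c y ∈ Inv A := phi_mem_Inv c _
  have h3 : y ^ n = y ≫ ((𝟙 A : A ⟶ A) ^ n) := by rw [MonObj.comp_pow, Category.comp_id]
  rw [← hy, phi_pow, pow_mul, ← phi_pow, ← pl_id (phi c (y ^ n)), ← pl_pow_of_inv h1, h3, ← phi_pl,
    h, phi_one_left]

/-- Classes killed by an isogeny are translation invariant. -/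
theorem inv_of_isogeny (f : A ⟶ B) [IsMonHom f] (hf : SGA7.IsIsogenyOver f) {c : Pic B.left}
    (h : pl f c = 1) : c ∈ Inv B := by
  obtain ⟨n, g, hn, hg, h1, h2⟩ := Groth.Agent.Sga7.H756.RevIsog.exists_rev k f hf
  refine inv_of_pow hn ?_
  rw [← h2, pl_comp, h, map_one]

end closed

section general

variable {S : Scheme.{u}} {X Y : Over S} [GrpObj X] [GrpObj Y]
  [IsProper X.hom] [GeometricallyIntegral X.hom] [IsProper Y.hom] [GeometricallyIntegral Y.hom]

/-- The geometric fibre of `Y_T` at `τ` is the fibre of `Y`. -/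
theorem isPullback_geom (Y : Over S) (T : Over S) {Ω : Type u} [Field Ω]
    (τ : Spec (CommRingCat.of Ω) ⟶ T.left) :
    IsPullback (pullback.lift (pullback.fst Y.hom (τ ≫ T.hom)) (pullback.snd Y.hom (τ ≫ T.hom) ≫ τ)
      (by rw [pullback.condition, Category.assoc]) : _ ⟶ PicF.XT Y.hom T)
      (pullback.snd Y.hom (τ ≫ T.hom)) (PicF.XTproj Y.hom T) τ := by
  refine IsPullback.of_right (h₁₂ := pullback.fst Y.hom T.hom) (h₂₂ := T.hom) (v₁₃ := Y.hom) ?_
    (pullback.lift_snd _ _ _) (IsPullback.of_hasPullback Y.hom T.hom)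
  rw [pullback.lift_fst]
  exact IsPullback.of_hasPullback Y.hom (τ ≫ T.hom)

/-- **Classes killed by an isogeny are in `Pic⁰`.** -/
theorem mem_pz_of_isogeny (f : X ⟶ Y) [IsMonHom f] [Surjective f.left] (N : Over S) (i : N ⟶ X)
    (hN : AlgGrp.IsKernel i f) [IsFinite N.hom] {T : Over S} {c : Pic (PicF.XT Y.hom T)}
    (hc : pull (AbDual.bcMap f T) c = 1) : c ∈ pz Y.hom T := by
  intro Ω _ _ τ
  let k : Spec (CommRingCat.of Ω) ⟶ S := τ ≫ T.hom
  have p1 : IsProper (Red.bc k X).hom := inferInstanceAs (IsProper (pullback.snd X.hom k))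
  have p2 : IsProper (Red.bc k Y).hom := inferInstanceAs (IsProper (pullback.snd Y.hom k))
  have q1 : GeometricallyIntegral (Red.bc k X).hom :=
    inferInstanceAs (GeometricallyIntegral (pullback.snd X.hom k))
  have q2 : GeometricallyIntegral (Red.bc k Y).hom :=
    inferInstanceAs (GeometricallyIntegral (pullback.snd Y.hom k))
  let pX : (Red.bc k X).left ⟶ PicF.XT X.hom T := pullback.lift (pullback.fst X.hom k)
    (pullback.snd X.hom k ≫ τ) (by rw [pullback.condition, Category.assoc])
  let pY : (Red.bc k Y).left ⟶ PicF.XT Y.hom T := pullback.lift (pullback.fst Y.hom k)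
    (pullback.snd Y.hom k ≫ τ) (by rw [pullback.condition, Category.assoc])
  have hY : IsPullback pY (Red.bc k Y).hom (PicF.XTproj Y.hom T) τ := isPullback_geom Y T τ
  have w : ((Over.pullback k).map f).left ≫ pY = pX ≫ AbDual.bcMap f T := by
    apply pullback.hom_ext
    · rw [Category.assoc, Category.assoc, bcMap_fst, pullback.lift_fst_assoc, pullback.lift_fst]
      exact pullback.lift_fst _ _ _
    · have h1 := bcMap_XTproj f T
      have h2 : ((Over.pullback k).map f).left ≫ (Red.bc k Y).hom = (Red.bc k X).hom :=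
        Over.w ((Over.pullback k).map f)
      have h3 : pY ≫ PicF.XTproj Y.hom T = (Red.bc k Y).hom ≫ τ := pullback.lift_snd _ _ _
      have h4 : pX ≫ PicF.XTproj X.hom T = (Red.bc k X).hom ≫ τ := pullback.lift_snd _ _ _
      calc (((Over.pullback k).map f).left ≫ pY) ≫ PicF.XTproj Y.hom T
          = ((Over.pullback k).map f).left ≫ (Red.bc k Y).hom ≫ τ := by rw [Category.assoc, h3]
        _ = (Red.bc k X).hom ≫ τ := by rw [← Category.assoc, h2]
        _ = (pX ≫ AbDual.bcMap f T) ≫ PicF.XTproj Y.hom T := by rw [Category.assoc, h1, h4]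
  have h1 : pl ((Over.pullback k).map f) (pull pY c) = 1 := by
    change pull ((Over.pullback k).map f).left (pull pY c) = 1
    rw [← pull_comp, w, pull_comp, hc, map_one]
  have h2 := mem_az_of_inv (inv_of_isogeny ((Over.pullback k).map f)
    (K732.Isog.isIsogenyOver_bc k f N i hN) h1)
  have e1 : hY.lift (pullback.fst (PicF.XTproj Y.hom T) τ) (pullback.snd (PicF.XTproj Y.hom T) τ)
      pullback.condition ≫ pY = pullback.fst (PicF.XTproj Y.hom T) τ := hY.lift_fst _ _ _
  have e2 : hY.lift (pullback.fst (PicF.XTproj Y.hom T) τ) (pullback.snd (PicF.XTproj Y.hom T) τ)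
      pullback.condition ≫ (Red.bc k Y).hom = pullback.snd (PicF.XTproj Y.hom T) τ :=
    hY.lift_snd _ _ _
  have h3 := pull_mem_az _ e2 h2
  rwa [← pull_comp, e1] at h3

end general

end K732.AZ
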