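import Groth.Agent.AbDual.K732.Prim

/-!
# The biduality morphism is a homomorphism and is natural

`ξ` a Poincaré class on `A ×_S At`, `sw ξ` the class on `At ×_S A` obtained by exchanging the factors.

* `ev_sw`;
* `kap hφ ξ : A ⟶ Att`, `isMonHom_kap`;
* `kap_natural`.
-/

set_option autoImplicit false
universe u

open CategoryTheory CategoryTheory.Limits MonoidalCategory CartesianMonoidalCategory MonObj GrpObj
  AlgebraicGeometry

namespace K732.Bidual

open Groth.Agent.Grpsch.PicGrp Groth.Agent.Fga.RigGrp K732.Cov K732.PicZero K732.RigSheaf K732.Dual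
open K732.CubeSec K732.Transp K732.Prim

variable {S : Scheme.{u}}

/-- A morphism of group objects multiplicative on points is a homomorphism. -/
theorem isMonHom_of_mul {G H : Over S} [GrpObj G] [GrpObj H] (f : G ⟶ H)
    (h : ∀ (W : Over S) (a b : W ⟶ G), (a * b) ≫ f = (a ≫ f) * (b ≫ f)) : IsMonHom f := by
  have h1 := h (G ⊗ G) (fst _ _) (snd _ _)
  have h2 := h (𝟙_ _) η[G] η[G]
  refine ⟨?_, ?_⟩
  · have h3 : (η[G] * η[G] : 𝟙_ (Over S) ⟶ G) = η[G] := by
      rw [show (η[G] : 𝟙_ (Over S) ⟶ G) = 1 from by simp [Hom.one_def], _root_.mul_one]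
    rw [h3] at h2
    have h4 := mul_eq_left.1 h2.symm
    rw [h4]
    simp [Hom.one_def]
  · rw [Hom.mul_def, Hom.mul_def] at h1
    simpa using h1

section sw

variable {A T W : Over S}

/-- Exchange of the factors. -/
noncomputable def sw (A T : Over S) : Pic (PicF.XT A.hom T) →* Pic (PicF.XT T.hom A) :=
  pull (pullbackSymmetry T.hom A.hom).hom

theorem toCl_sw (c : Pic (PicF.XT A.hom T)) :
    toCl (sw A T c) = PicF.pullCl (pullbackSymmetry T.hom A.hom).hom (toCl c) := toCl_pull _ _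

theorem lift_symm (a : W ⟶ A) (g : W ⟶ T) :
    (lift g a).left ≫ (pullbackSymmetry T.hom A.hom).hom = (lift a g).left := by
  apply pullback.hom_ext
  · rw [Category.assoc, pullbackSymmetry_hom_comp_fst]
    exact (congrArg CommaMorphism.left (lift_snd g a)).trans
      (congrArg CommaMorphism.left (lift_fst a g)).symm
  · rw [Category.assoc, pullbackSymmetry_hom_comp_snd]
    exact (congrArg CommaMorphism.left (lift_fst g a)).trans
      (congrArg CommaMorphism.left (lift_snd a g)).symm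

theorem ev_sw (a : W ⟶ A) (g : W ⟶ T) (c : Pic (PicF.XT A.hom T)) :
    ev g a (sw A T c) = ev a g c := by
  rw [ev_def, ev_def, sw, ← pull_comp]
  exact congrArg (fun t ↦ pull t c) (lift_symm a g)

theorem sw_sw (c : Pic (PicF.XT A.hom T)) : sw T A (sw A T c) = c :=
  ext_ev fun W a g ↦ by rw [ev_sw, ev_sw]

end sw

section kap

variable {A At Att : Over S} [GrpObj A] [GrpObj At] [GrpObj Att]
  {φ : ∀ T : Over S, PicF.Cl (PicF.XT A.hom T) → (T ⟶ At)}
  {φt : ∀ T : Over S, PicF.Cl (PicF.XT At.hom T) → (T ⟶ Att)}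
  (hD : AbDual.IsDualAV Scheme.fppfPrecoverage A At φ)
  (hDt : AbDual.IsDualAV Scheme.fppfPrecoverage At Att φt)
  [IsLocallyNoetherian S]
  [IsProper A.hom] [Flat A.hom] [LocallyOfFinitePresentation A.hom] [GeometricallyIntegral A.hom]
  [LocallyOfFiniteType At.hom] [GeometricallyConnected At.hom]

include hD hDt

theorem comp_kap_mul {ξ : Pic (PicF.XT A.hom At)} (h1 : ξ ∈ pz A.hom At) (h2 : ξ ∈ rg A At)
    (h3 : cm φ ξ = 𝟙 At) (h4 : sw A At ξ ∈ pz At.hom A) {W : Over S} (a b : W ⟶ A) :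
    (a * b) ≫ cm φt (sw A At ξ) = (a ≫ cm φt (sw A At ξ)) * (b ≫ cm φt (sw A At ξ)) := by
  rw [← cm_pull hDt _ h4, ← cm_pull hDt _ h4, ← cm_pull hDt _ h4,
    ← cm_mul hDt (pull_XTmap_mem _ h4) (pull_XTmap_mem _ h4)]
  congr 1
  refine ext_ev fun W y g ↦ ?_
  rw [map_mul, ev_XTmap, ev_XTmap, ev_XTmap, ev_sw, ev_sw, ev_sw, MonObj.comp_mul,
    poinc_mul hD h1 h2 h3]

/-- The biduality morphism is a homomorphism. -/
theorem isMonHom_kap {ξ : Pic (PicF.XT A.hom At)} (h1 : ξ ∈ pz A.hom At) (h2 : ξ ∈ rg A At)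
    (h3 : cm φ ξ = 𝟙 At) (h4 : sw A At ξ ∈ pz At.hom A) : IsMonHom (cm φt (sw A At ξ)) :=
  isMonHom_of_mul _ fun _ a b ↦ comp_kap_mul hD hDt h1 h2 h3 h4 a b

end kap

section natural

variable {A At Att A' A't A'tt : Over S} [GrpObj A] [GrpObj Att] [GrpObj A'] [GrpObj A't]
  {φ : ∀ T : Over S, PicF.Cl (PicF.XT A.hom T) → (T ⟶ At)}
  {φt : ∀ T : Over S, PicF.Cl (PicF.XT At.hom T) → (T ⟶ Att)}
  {φ' : ∀ T : Over S, PicF.Cl (PicF.XT A'.hom T) → (T ⟶ A't)}
  {φt' : ∀ T : Over S, PicF.Cl (PicF.XT A't.hom T) → (T ⟶ A'tt)}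
  (hDt : AbDual.IsDualAV Scheme.fppfPrecoverage At Att φt)
  (hD' : AbDual.IsDualAV Scheme.fppfPrecoverage A' A't φ')
  (hF' : ∀ T : Over S, Function.Bijective (PicF.XTproj A'.hom T).appTop)

include hDt hD' hF'

/-- The biduality morphism is natural. -/
theorem kap_natural {ξ : Pic (PicF.XT A.hom At)} (h1 : ξ ∈ pz A.hom At) (h2 : ξ ∈ rg A At)
    (h3 : cm φ ξ = 𝟙 At) (h4 : sw A At ξ ∈ pz At.hom A)
    {ξ' : Pic (PicF.XT A'.hom A't)} (h1' : ξ' ∈ pz A'.hom A't) (h2' : ξ' ∈ rg A' A't)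
    (h3' : cm φ' ξ' = 𝟙 A't) (h4' : sw A' A't ξ' ∈ pz A't.hom A')
    (f : A' ⟶ A) [IsMonHom f] (ft : At ⟶ A't) (hft : AbDual.IsTranspose f φ' φ ft)
    (ftt : A'tt ⟶ Att) (hftt : AbDual.IsTranspose ft φt φt' ftt) :
    f ≫ cm φt (sw A At ξ) = cm φt' (sw A' A't ξ') ≫ ftt := by
  have key : pull (AbDual.bcMap f At) ξ = pull (PicF.XTmap A'.hom ft) ξ' := by
    refine cm_inj hD' hF' (pull_bcMap_mem f h1) (pull_XTmap_mem _ h1') ?_ (pull_mem _ h2') ?_
    · rw [mem_rg_iff, ev_bcMap, MonObj.one_comp, ev_one_of_mem h2]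
    · rw [hft.cm h1, cm_pull hD' _ h1', h3, h3', Category.id_comp, Category.comp_id]
  rw [← cm_pull hDt _ h4, ← hftt.cm h4']
  congr 1
  refine ext_ev fun W y g ↦ ?_
  have h5 := congrArg (ev g y) key
  rw [ev_bcMap, ev_XTmap] at h5
  rw [ev_XTmap, ev_sw, ev_bcMap, ev_sw, h5]

end natural

end K732.Bidual
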