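import Groth.Prelude.Def_AgPol
import Groth.Agent.AbDual.K732.Bidual

/-!
# Base change of duals

`k : S' ⟶ S`, `U : Over S'`, `dn k U : Over S` (the same scheme over `S`).

* `up : (dn k U ⟶ A) → (U ⟶ Red.bc k A)` : a natural multiplicative bijection (`comp_up`, `up_mul`, `up_inj`,
  `exists_up`, `up_comp_map`);
* `bcE k A U : Pic (XT A.hom (dn k U)) →* Pic (XT (Red.bc k A).hom U)` : transport of classes, bijective;
  `mem_pz_bcE`, `mem_rg_bcE`, `ev_bcE`, `cm_bcE`;
* `isDualAV_bc` : base change of `IsDualAV` (with the frozen `AgPol.bcDual`);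
* `isTranspose_bc`, `poinc_bc`, `kap_bc`.
-/

set_option autoImplicit false
universe u

open CategoryTheory CategoryTheory.Limits MonoidalCategory CartesianMonoidalCategory MonObj GrpObj
  AlgebraicGeometry

namespace K732.BC

open Groth.Agent.Grpsch.PicGrp Groth.Agent.Fga.RigGrp K732.Cov K732.PicZero K732.RigSheaf K732.Dual
open K732.CubeSec K732.Transp K732.Prim K732.Bidual

variable {S S' : Scheme.{u}} (k : S' ⟶ S)

/-- An `S'`-scheme regarded over `S`. -/
abbrev dn (U : Over S') : Over S := Over.mk (U.hom ≫ k)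

/-- A morphism of `S'`-schemes regarded over `S`. -/
abbrev dnMap {U U' : Over S'} (g : U' ⟶ U) : dn k U' ⟶ dn k U :=
  Over.homMk g.left (by
    change g.left ≫ U.hom ≫ k = U'.hom ≫ k
    rw [← Category.assoc, Over.w g])

section up

variable {k} {U U' : Over S'} {A B : Over S}

/-- The unit. -/
noncomputable def unit (k : S' ⟶ S) (U : Over S') : U ⟶ Red.bc k (dn k U) :=
  Over.homMk (pullback.lift (𝟙 _) U.hom (Category.id_comp _)) (pullback.lift_snd _ _ _)

/-- Points of the base change. -/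
noncomputable def up (h : dn k U ⟶ A) : U ⟶ Red.bc k A :=
  Over.homMk (pullback.lift h.left U.hom (Over.w h)) (pullback.lift_snd _ _ _)

lemma up_left_fst (h : dn k U ⟶ A) : (up h).left ≫ pullback.fst A.hom k = h.left :=
  pullback.lift_fst _ _ _

lemma up_left_snd (h : dn k U ⟶ A) : (up h).left ≫ pullback.snd A.hom k = U.hom :=
  pullback.lift_snd _ _ _

lemma hom_ext_bc {a b : U ⟶ Red.bc k A}
    (h : a.left ≫ pullback.fst A.hom k = b.left ≫ pullback.fst A.hom k) : a = b := by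
  ext1
  apply pullback.hom_ext h
  have h1 : a.left ≫ pullback.snd A.hom k = U.hom := Over.w a
  have h2 : b.left ≫ pullback.snd A.hom k = U.hom := Over.w b
  exact h1.trans h2.symm

lemma up_inj {a b : dn k U ⟶ A} (h : up a = up b) : a = b := by
  ext1
  rw [← up_left_fst a, h, up_left_fst]

lemma exists_up (x : U ⟶ Red.bc k A) : ∃ a : dn k U ⟶ A, up a = x := by
  have hw : x.left ≫ pullback.snd A.hom k = U.hom := Over.w x
  refine ⟨Over.homMk (x.left ≫ pullback.fst A.hom k) ?_, hom_ext_bc (up_left_fst _)⟩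
  change (x.left ≫ pullback.fst A.hom k) ≫ A.hom = U.hom ≫ k
  rw [Category.assoc, pullback.condition, ← Category.assoc, hw]

lemma comp_up (g : U' ⟶ U) (a : dn k U ⟶ A) : g ≫ up a = up (dnMap k g ≫ a) := by
  apply hom_ext_bc
  rw [Over.comp_left, Category.assoc, up_left_fst, up_left_fst]
  rfl

lemma up_eq (a : dn k U ⟶ A) : up a = unit k U ≫ (Over.pullback k).map a := by
  apply hom_ext_bc
  rw [up_left_fst, Over.comp_left, Category.assoc]
  have h1 : ((Over.pullback k).map a).left ≫ pullback.fst A.hom k =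
      pullback.fst (dn k U).hom k ≫ a.left := pullback.lift_fst _ _ _
  rw [h1]
  have h2 : (unit k U).left ≫ pullback.fst (dn k U).hom k = 𝟙 _ := pullback.lift_fst _ _ _
  rw [← Category.assoc, h2, Category.id_comp]

lemma up_comp (a : dn k U ⟶ A) (f : A ⟶ B) : up (a ≫ f) = up a ≫ (Over.pullback k).map f := by
  rw [up_eq, up_eq, Functor.map_comp, Category.assoc]

lemma up_mul [GrpObj A] (a b : dn k U ⟶ A) : up (a * b) = up a * up b := by
  rw [up_eq, up_eq, up_eq, ← MonObj.comp_mul]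
  congr 1
  exact Functor.map_mul _ _ _

lemma up_one [GrpObj A] : up (1 : dn k U ⟶ A) = 1 := by
  have h := up_mul (1 : dn k U ⟶ A) 1
  rw [_root_.one_mul] at h
  exact mul_eq_left.1 h.symm

end up

section cls

variable {k} {U U' : Over S'} {A B : Over S}

/-- The comparison isomorphism. -/
noncomputable abbrev iso (k : S' ⟶ S) (A : Over S) (U : Over S') :
    PicF.XT (Red.bc k A).hom U ≅ PicF.XT A.hom (dn k U) := AgPol.bcXTIso k A U

lemma iso_hom_fst : (iso k A U).hom ≫ pullback.fst A.hom (dn k U).hom =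
    pullback.fst (Red.bc k A).hom U.hom ≫ pullback.fst A.hom k :=
  pullbackLeftPullbackSndIso_hom_fst _ _ _

lemma iso_hom_snd : (iso k A U).hom ≫ PicF.XTproj A.hom (dn k U) =
    PicF.XTproj (Red.bc k A).hom U :=
  pullbackLeftPullbackSndIso_hom_snd _ _ _

lemma iso_XTmap (g : U' ⟶ U) : (iso k A U').hom ≫ PicF.XTmap A.hom (dnMap k g) =
    PicF.XTmap (Red.bc k A).hom g ≫ (iso k A U).hom := by
  apply pullback.hom_ext
  · rw [Category.assoc, XTmap_fst, Category.assoc, iso_hom_fst, iso_hom_fst, XTmap_fst_assoc]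
  · have h1 := XTmap_XTproj A.hom (dnMap k g)
    have h2 := XTmap_XTproj (Red.bc k A).hom g
    have h3 := iso_hom_snd (k := k) (A := A) (U := U)
    have h4 := iso_hom_snd (k := k) (A := A) (U := U')
    rw [Category.assoc, Category.assoc]
    refine (congrArg (_ ≫ ·) h1).trans ?_
    refine Eq.trans ?_ (congrArg (_ ≫ ·) h3).symm
    rw [h2, ← Category.assoc, h4]
    rfl

/-- Transport of classes. -/
noncomputable def bcE (k : S' ⟶ S) (A : Over S) (U : Over S') :
    Pic (PicF.XT A.hom (dn k U)) →* Pic (PicF.XT (Red.bc k A).hom U) := pull (iso k A U).hom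

lemma pull_inv_bcE (c : Pic (PicF.XT A.hom (dn k U))) :
    pull (iso k A U).inv (bcE k A U c) = c := by
  rw [bcE, ← pull_comp, Iso.inv_hom_id, pull_id]

lemma bcE_pull_inv (c : Pic (PicF.XT (Red.bc k A).hom U)) :
    bcE k A U (pull (iso k A U).inv c) = c := by
  rw [bcE, ← pull_comp, Iso.hom_inv_id, pull_id]

lemma exists_bcE (c : Pic (PicF.XT (Red.bc k A).hom U)) : ∃ d, bcE k A U d = c :=
  ⟨_, bcE_pull_inv c⟩

lemma bcE_inj {c d : Pic (PicF.XT A.hom (dn k U))} (h : bcE k A U c = bcE k A U d) : c = d := by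
  rw [← pull_inv_bcE c, h, pull_inv_bcE]

lemma mem_pz_bcE {c : Pic (PicF.XT A.hom (dn k U))} :
    bcE k A U c ∈ pz (Red.bc k A).hom U ↔ c ∈ pz A.hom (dn k U) := by
  constructor
  · intro h
    rw [← pull_inv_bcE c]
    refine pull_mem_of_comm (iso k A U).inv (𝟙 _) ?_ h
    rw [← iso_hom_snd, Iso.inv_hom_id_assoc]
    exact (Category.comp_id _).symm
  · intro h
    refine pull_mem_of_comm (iso k A U).hom (𝟙 _) ?_ h
    rw [iso_hom_snd]
    exact (Category.comp_id _).symm

lemma pull_XTmap_bcE (g : U' ⟶ U) (c : Pic (PicF.XT A.hom (dn k U))) :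
    pull (PicF.XTmap (Red.bc k A).hom g) (bcE k A U c) =
      bcE k A U' (pull (PicF.XTmap A.hom (dnMap k g)) c) := by
  rw [bcE, bcE, ← pull_comp, ← pull_comp, iso_XTmap]

lemma lift_iso {W : Over S'} (a : dn k W ⟶ A) (g : W ⟶ U) :
    (lift (up a) g).left ≫ (iso k A U).hom = (lift a (dnMap k g)).left := by
  apply pullback.hom_ext
  · rw [Category.assoc, iso_hom_fst]
    have h1 : (lift (up a) g).left ≫ pullback.fst (Red.bc k A).hom U.hom = (up a).left :=
      congrArg CommaMorphism.left (lift_fst (up a) g)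
    rw [← Category.assoc, h1, up_left_fst]
    exact (congrArg CommaMorphism.left (lift_fst a (dnMap k g))).symm
  · rw [Category.assoc]
    refine (congrArg (_ ≫ ·) (iso_hom_snd (k := k) (A := A) (U := U))).trans ?_
    refine (congrArg CommaMorphism.left (lift_snd (up a) g)).trans ?_
    exact (congrArg CommaMorphism.left (lift_snd a (dnMap k g))).symm

lemma ev_bcE {W : Over S'} (a : dn k W ⟶ A) (g : W ⟶ U) (c : Pic (PicF.XT A.hom (dn k U))) :
    ev (up a) g (bcE k A U c) = ev a (dnMap k g) c := by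
  rw [ev_def, ev_def, bcE, ← pull_comp]
  exact congrArg (fun t ↦ pull t c) (lift_iso a g)

lemma mem_rg_bcE [GrpObj A] {c : Pic (PicF.XT A.hom (dn k U))} :
    bcE k A U c ∈ rg (Red.bc k A) U ↔ c ∈ rg A (dn k U) := by
  rw [mem_rg_iff, mem_rg_iff, ← up_one, ev_bcE]
  rfl

lemma bcMap_bcE (f : A ⟶ B) (c : Pic (PicF.XT B.hom (dn k U))) :
    pull (AbDual.bcMap ((Over.pullback k).map f) U) (bcE k B U c) =
      bcE k A U (pull (AbDual.bcMap f (dn k U)) c) := by
  refine ext_ev fun W a g ↦ ?_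
  obtain ⟨a, rfl⟩ := exists_up a
  rw [ev_bcMap, ← up_comp, ev_bcE, ev_bcE, ev_bcMap]

end cls

section dual

variable {k} {A At : Over S} {φ : ∀ T : Over S, PicF.Cl (PicF.XT A.hom T) → (T ⟶ At)}

/-- The point attached to a class after base change. -/
lemma cm_bcDual {U : Over S'} (c : Pic (PicF.XT (Red.bc k A).hom U)) :
    cm (At := Red.bc k At) (AgPol.bcDual k A At φ) c = up (cm φ (pull (iso k A U).inv c)) := by
  rw [cm, cm, toCl_pull]
  rfl

lemma cm_bcE {U : Over S'} (c : Pic (PicF.XT A.hom (dn k U))) :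
    cm (At := Red.bc k At) (AgPol.bcDual k A At φ) (bcE k A U c) = up (cm φ c) := by
  rw [cm_bcDual, pull_inv_bcE]

lemma bcDual_bcE {U : Over S'} (c : Pic (PicF.XT A.hom (dn k U))) :
    AgPol.bcDual k A At φ U (toCl (bcE k A U c)) = up (cm φ c) := cm_bcE c

variable [GrpObj At]

/-- **Base change of the dual.** -/
theorem isDualAV_bc (hD : AbDual.IsDualAV Scheme.fppfPrecoverage A At φ) :
    AbDual.IsDualAV Scheme.fppfPrecoverage (Red.bc k A) (Red.bc k At) (AgPol.bcDual k A At φ) := by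
  refine ⟨⟨?_, ?_, ?_⟩, ?_⟩
  · intro T T' g c hc
    obtain ⟨d, hd, rfl⟩ := exists_pz hc
    obtain ⟨d, rfl⟩ := exists_bcE d
    rw [mem_pz_bcE] at hd
    rw [← toCl_pull, pull_XTmap_bcE, bcDual_bcE, bcDual_bcE, cm_pull hD _ hd, comp_up]
  · intro T g
    obtain ⟨h, rfl⟩ := exists_up g
    obtain ⟨R, hR, h1⟩ := hD.relPic.locallySurjective (dn k T) h
    refine ⟨R, hR, fun U u hu ↦ ?_⟩
    obtain ⟨c, hc, hcu⟩ := h1 u hu
    obtain ⟨d, hd, rfl⟩ := exists_pz hc
    let j : dn k (AbDual.ovr T u) ⟶ AbDual.ovr (dn k T) u := Over.homMk (𝟙 _) (by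
      change 𝟙 _ ≫ u ≫ T.hom ≫ k = (u ≫ T.hom) ≫ k
      rw [Category.id_comp, Category.assoc])
    refine ⟨toCl (bcE k A _ (pull (PicF.XTmap A.hom j) d)),
      isPicZeroCl_iff.2 (mem_pz_bcE.2 (pull_XTmap_mem _ hd)), ?_⟩
    rw [bcDual_bcE, cm_pull hD _ hd, comp_up]
    have h2 : cm φ d = AbDual.ovrHom (dn k T) u ≫ h := hcu
    rw [h2]
    congr 1
  · intro T c c' hc hc' h
    obtain ⟨d, hd, rfl⟩ := exists_pz hc
    obtain ⟨d', hd', rfl⟩ := exists_pz hc'
    obtain ⟨d, rfl⟩ := exists_bcE d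
    obtain ⟨d', rfl⟩ := exists_bcE d'
    rw [mem_pz_bcE] at hd hd'
    rw [bcDual_bcE, bcDual_bcE] at h
    obtain ⟨R, hR, h1⟩ := hD.relPic.locallyInjective (dn k T) _ _ (isPicZeroCl_iff.2 hd)
      (isPicZeroCl_iff.2 hd') (up_inj h)
    refine ⟨R, hR, fun U u hu ↦ ?_⟩
    have h2 := h1 u hu
    rw [← toCl_pull, ← toCl_pull] at h2 ⊢
    have h3 := toCl_injective h2
    rw [pull_XTmap_bcE, pull_XTmap_bcE]
    let j : dn k (AbDual.ovr T u) ⟶ AbDual.ovr (dn k T) u := Over.homMk (𝟙 _) (by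
      change 𝟙 _ ≫ u ≫ T.hom ≫ k = (u ≫ T.hom) ≫ k
      rw [Category.id_comp, Category.assoc])
    have h4 : dnMap k (AbDual.ovrHom T u) = j ≫ AbDual.ovrHom (dn k T) u := by
      ext1
      exact (Category.id_comp _).symm
    rw [h4, XTmap_comp, pull_comp, pull_comp, h3]
  · intro T L M hL hM
    have iL : PicF.IsInvertible L := Groth.Agent.Picfga.LineDescent.isInvertibleCl_cl_iff.1
      (isInvertibleCl_of_isPicZeroCl hL)
    have iM : PicF.IsInvertible M := Groth.Agent.Picfga.LineDescent.isInvertibleCl_cl_iff.1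
      (isInvertibleCl_of_isPicZeroCl hM)
    obtain ⟨d, hd⟩ := exists_bcE (mk L iL)
    obtain ⟨d', hd'⟩ := exists_bcE (mk M iM)
    have hL' : d ∈ pz A.hom (dn k T) := by
      rw [← mem_pz_bcE, hd]
      exact isPicZeroCl_iff.1 hL
    have hM' : d' ∈ pz A.hom (dn k T) := by
      rw [← mem_pz_bcE, hd']
      exact isPicZeroCl_iff.1 hM
    have e1 : PicF.cl (CohB1.tensorMod L M) = toCl (bcE k A T (d * d')) := by
      rw [map_mul, hd, hd', mk_mul_mk]
      rfl
    have e2 : PicF.cl L = toCl (bcE k A T d) := by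
      rw [hd]
      rfl
    have e3 : PicF.cl M = toCl (bcE k A T d') := by
      rw [hd']
      rfl
    rw [e1, e2, e3, bcDual_bcE, bcDual_bcE, bcDual_bcE, cm_mul hD hL' hM', up_mul]

end dual

section transp

variable {k} {A B At Bt : Over S} {φA : ∀ T : Over S, PicF.Cl (PicF.XT A.hom T) → (T ⟶ At)}
  {φB : ∀ T : Over S, PicF.Cl (PicF.XT B.hom T) → (T ⟶ Bt)}

/-- Base change of the transpose. -/
theorem isTranspose_bc {f : A ⟶ B} {ft : Bt ⟶ At} (h : AbDual.IsTranspose f φA φB ft) :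
    AbDual.IsTranspose (At := Red.bc k At) (Bt := Red.bc k Bt) ((Over.pullback k).map f)
      (AgPol.bcDual k A At φA) (AgPol.bcDual k B Bt φB) ((Over.pullback k).map ft) := by
  intro T c hc
  obtain ⟨d, hd, rfl⟩ := exists_pz hc
  obtain ⟨d, rfl⟩ := exists_bcE d
  rw [mem_pz_bcE] at hd
  rw [← toCl_pull, bcMap_bcE, bcDual_bcE, bcDual_bcE, h.cm hd, up_comp]

end transp

section poinc

variable {k} {A At Att : Over S} {φ : ∀ T : Over S, PicF.Cl (PicF.XT A.hom T) → (T ⟶ At)}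
  {φt : ∀ T : Over S, PicF.Cl (PicF.XT At.hom T) → (T ⟶ Att)}

/-- The projection of the base change. -/
noncomputable abbrev prj (k : S' ⟶ S) (A : Over S) : dn k (Red.bc k A) ⟶ A :=
  Over.homMk (pullback.fst A.hom k) (by
    change pullback.fst A.hom k ≫ A.hom = pullback.snd A.hom k ≫ k
    exact pullback.condition)

lemma up_prj : up (prj k A) = 𝟙 _ := by
  apply hom_ext_bc
  rw [up_left_fst]
  exact (Category.id_comp _).symm

lemma dnMap_up_prj {U : Over S'} (a : dn k U ⟶ A) : dnMap k (up a) ≫ prj k A = a := by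
  ext1
  exact up_left_fst a

/-- The base change of a class on `A ×_S At`. -/
noncomputable def bcXi (k : S' ⟶ S) (A At : Over S) :
    Pic (PicF.XT A.hom At) →* Pic (PicF.XT (Red.bc k A).hom (Red.bc k At)) :=
  (bcE k A (Red.bc k At)).comp (pull (PicF.XTmap A.hom (prj k At)))

lemma bcXi_apply (ξ : Pic (PicF.XT A.hom At)) :
    bcXi k A At ξ = bcE k A (Red.bc k At) (pull (PicF.XTmap A.hom (prj k At)) ξ) := rfl

lemma ev_bcXi {W : Over S'} (a : dn k W ⟶ A) (y : dn k W ⟶ At) (ξ : Pic (PicF.XT A.hom At)) :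
    ev (up a) (up y) (bcXi k A At ξ) = ev a y ξ := by
  rw [bcXi_apply, ev_bcE, ev_XTmap, dnMap_up_prj]

lemma bcXi_mem_pz {ξ : Pic (PicF.XT A.hom At)} (h : ξ ∈ pz A.hom At) :
    bcXi k A At ξ ∈ pz (Red.bc k A).hom (Red.bc k At) :=
  mem_pz_bcE.2 (pull_XTmap_mem _ h)

lemma bcXi_mem_rg [GrpObj A] {ξ : Pic (PicF.XT A.hom At)} (h : ξ ∈ rg A At) :
    bcXi k A At ξ ∈ rg (Red.bc k A) (Red.bc k At) :=
  mem_rg_bcE.2 (pull_mem _ h)

lemma sw_bcXi (ξ : Pic (PicF.XT A.hom At)) :
    sw (Red.bc k A) (Red.bc k At) (bcXi k A At ξ) = bcXi k At A (sw A At ξ) := by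
  refine ext_ev fun W y a ↦ ?_
  obtain ⟨a, rfl⟩ := exists_up a
  obtain ⟨y, rfl⟩ := exists_up y
  rw [ev_sw, ev_bcXi, ev_bcXi, ev_sw]

/-- Base change of the point attached to a class on `A ×_S T`. -/
lemma cm_bcXi [GrpObj At] (hD : AbDual.IsDualAV Scheme.fppfPrecoverage A At φ) {T : Over S}
    {c : Pic (PicF.XT A.hom T)} (hc : c ∈ pz A.hom T) :
    cm (At := Red.bc k At) (AgPol.bcDual k A At φ) (bcXi k A T c) =
      (Over.pullback k).map (cm φ c) := by
  rw [bcXi_apply, cm_bcE, cm_pull hD _ hc, up_comp, up_prj]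
  exact Category.id_comp _

end poinc

end K732.BC
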