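import Groth.Agent.AbDual.K732.KerCor
import Groth.Agent.S15830
import Groth.Agent.CartDual.K880.Basic
import Groth.Prelude.Def_CoactBr

/-!
# Characters of `Spec A` over `Spec R` and algebra maps `D k A → R`

`A` a finite dimensional Hopf algebra over a field `k`, `R` a `k`-algebra, `N = Spec A`, `T = Spec R`.

* `toK` : units on `Spec K` as elements of `K`;
* `gl χ : R ⊗ A` for a unit `χ` on `N ⊗ T`; `gl_mul`, `gl_inj`, `exists_gl`, `gl_pull`;
* `isChar_of_mul`, `phi_mul_of_isChar`, `phi_one_of_isChar`: `χ` is a character iff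
  `x ↦ Φ (gl χ) x = (id ⊗ x) (gl χ)` is an algebra map `D k A → R`.
-/

set_option autoImplicit false
set_option linter.unusedSectionVars false
universe u

open CategoryTheory CategoryTheory.Limits MonoidalCategory CartesianMonoidalCategory MonObj GrpObj
  AlgebraicGeometry TensorProduct

namespace K732.CharAlg

open K732.KerChar CoactBr Groth.Agent.S15830

variable {k : Type u} [Field k]

section toK

variable {K L : Type u} [CommRing K] [Algebra k K] [CommRing L] [Algebra k L]

/-- A unit on `Spec K` as an element of `K`. -/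
noncomputable def toK (w : Γ((sp k K).left, ⊤)ˣ) : K := (Scheme.ΓSpecIso (CommRingCat.of K)).hom.hom w.1

theorem toK_mul (w w' : Γ((sp k K).left, ⊤)ˣ) : toK (w * w') = toK w * toK w' := map_mul _ _ _

theorem toK_one : toK (1 : Γ((sp k K).left, ⊤)ˣ) = (1 : K) := map_one _

theorem toK_inj {w w' : Γ((sp k K).left, ⊤)ˣ} (h : toK w = toK w') : w = w' := by
  have h1 : Function.Injective (Scheme.ΓSpecIso (CommRingCat.of K)).hom.hom :=
    (ConcreteCategory.bijective_of_isIso (Scheme.ΓSpecIso (CommRingCat.of K)).hom).1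
  exact Units.ext (h1 h)

theorem exists_toK {a b : K} (h : a * b = 1) : ∃ w : Γ((sp k K).left, ⊤)ˣ, toK w = a := by
  have h1 : Function.Bijective (Scheme.ΓSpecIso (CommRingCat.of K)).hom.hom :=
    ConcreteCategory.bijective_of_isIso (Scheme.ΓSpecIso (CommRingCat.of K)).hom
  obtain ⟨x, hx⟩ := h1.2 a
  obtain ⟨y, hy⟩ := h1.2 b
  have h2 : x * y = 1 := h1.1 (by rw [map_mul, hx, hy, h, map_one])
  exact ⟨Units.mkOfMulEqOne x y h2, hx⟩

theorem toK_uv (φ : K →ₐ[k] L) (w : Γ((sp k K).left, ⊤)ˣ) : toK (uv w (pt φ)) = φ (toK w) := by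
  have h := Scheme.ΓSpecIso_naturality (CommRingCat.ofHom φ.toRingHom)
  exact congrArg (fun t ↦ t.hom w.1) h

end toK

section iso

variable (A R : Type u) [CommRing A] [Algebra k A] [CommRing R] [Algebra k R]

/-- `Spec (R ⊗ A) ≅ Spec A × Spec R`. -/
noncomputable def io : sp k (R ⊗[k] A) ⟶ sp k A ⊗ sp k R :=
  lift (pt Algebra.TensorProduct.includeRight) (pt Algebra.TensorProduct.includeLeft)

noncomputable local instance braidedAlgSpecOf (R : Type u) [CommRing R] : (algSpec (CommRingCat.of R)).Braided :=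
  braidedAlgSpec

theorem isIso_io : IsIso (io (k := k) A R) := by
  have h1 := lift_pt_pt (R := k) (K := R ⊗[k] A) (B := R) (A := A)
    (Algebra.TensorProduct.includeLeft : R →ₐ[k] R ⊗[k] A)
    (Algebra.TensorProduct.includeRight : A →ₐ[k] R ⊗[k] A)
  have h2 : (Algebra.TensorProduct.lift (Algebra.TensorProduct.includeLeft : R →ₐ[k] R ⊗[k] A)
    (Algebra.TensorProduct.includeRight : A →ₐ[k] R ⊗[k] A) fun _ _ ↦ .all _ _) =
      AlgHom.id k (R ⊗[k] A) := by
    ext <;> simp
  rw [h2, pt_id] at h1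
  have h3 : IsIso (lift (pt (Algebra.TensorProduct.includeLeft : R →ₐ[k] R ⊗[k] A))
      (pt (Algebra.TensorProduct.includeRight : A →ₐ[k] R ⊗[k] A))) := by
    have h5 : IsIso (lift (pt (Algebra.TensorProduct.includeLeft : R →ₐ[k] R ⊗[k] A))
      (pt (Algebra.TensorProduct.includeRight : A →ₐ[k] R ⊗[k] A)) ≫
      Functor.LaxMonoidal.μ (algSpec (CommRingCat.of k)) (Opposite.op (.of k R)) (Opposite.op (.of k A))) := by
      rw [h1]
      exact inferInstanceAs (IsIso (𝟙 _))
    have h6 : IsIso (Functor.LaxMonoidal.μ (algSpec (CommRingCat.of k)) (Opposite.op (CommAlgCat.of k R))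
      (Opposite.op (CommAlgCat.of k A))) :=
      (Functor.Monoidal.μIso (algSpec (CommRingCat.of k)) (Opposite.op (.of k R)) (Opposite.op (.of k A))).isIso_hom
    exact @IsIso.of_isIso_comp_right _ _ _ _ _ _ (Functor.LaxMonoidal.μ (algSpec (CommRingCat.of k))
      (Opposite.op (.of k R)) (Opposite.op (.of k A))) h6 h5
  have h4 : io (k := k) A R = lift (pt (Algebra.TensorProduct.includeLeft : R →ₐ[k] R ⊗[k] A))
      (pt (Algebra.TensorProduct.includeRight : A →ₐ[k] R ⊗[k] A)) ≫ (β_ _ _).hom := by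
    rw [io, lift_braiding_hom]
  rw [h4]
  infer_instance

end iso

section gl

variable {A R R' : Type u} [CommRing A] [Algebra k A] [CommRing R] [Algebra k R] [CommRing R']
  [Algebra k R']

/-- A unit on `Spec A × Spec R` as an element of `R ⊗ A`. -/
noncomputable def gl (χ : Γ((sp k A ⊗ sp k R).left, ⊤)ˣ) : R ⊗[k] A := toK (uv χ (io A R))

theorem gl_mul (χ χ' : Γ((sp k A ⊗ sp k R).left, ⊤)ˣ) : gl (χ * χ') = gl χ * gl χ' := by
  rw [gl, uv_mul, toK_mul]
  rfl

theorem gl_one : gl (1 : Γ((sp k A ⊗ sp k R).left, ⊤)ˣ) = 1 := by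
  have h : uv (1 : Γ((sp k A ⊗ sp k R).left, ⊤)ˣ) (io A R) = 1 := map_one _
  rw [gl, h, toK_one]

theorem bijective_io : Function.Bijective (io (k := k) A R).left.appTop := by
  have h1 := isIso_io (k := k) A R
  have h2 : IsIso (io (k := k) A R).left := inferInstanceAs (IsIso ((Over.forget _).map (io A R)))
  have h3 : IsIso (io (k := k) A R).left.appTop :=
    inferInstanceAs (IsIso ((io (k := k) A R).left.app ⊤))
  exact ConcreteCategory.bijective_of_isIso (io (k := k) A R).left.appTop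

theorem gl_inj {χ χ' : Γ((sp k A ⊗ sp k R).left, ⊤)ˣ} (h : gl χ = gl χ') : χ = χ' :=
  uv_inj (io (k := k) A R) (bijective_io (k := k)).1 (toK_inj (k := k) (K := R ⊗[k] A) h)

theorem exists_gl {g h : R ⊗[k] A} (e : g * h = 1) :
    ∃ χ : Γ((sp k A ⊗ sp k R).left, ⊤)ˣ, gl χ = g := by
  obtain ⟨w, rfl⟩ := exists_toK (k := k) e
  obtain ⟨χ, hχ⟩ := exists_uv (io A R) bijective_io w
  exact ⟨χ, by rw [gl, hχ]⟩

/-- The value at a point. -/
theorem toK_uv_lift {K : Type u} [CommRing K] [Algebra k K] (χ : Γ((sp k A ⊗ sp k R).left, ⊤)ˣ)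
    (a : A →ₐ[k] K) (r : R →ₐ[k] K) :
    toK (uv χ (lift (pt a) (pt r))) = Algebra.TensorProduct.lift r a (fun _ _ ↦ .all _ _) (gl χ) := by
  have h1 : lift (pt a) (pt r) = pt (Algebra.TensorProduct.lift r a (fun _ _ ↦ .all _ _)) ≫ io A R := by
    rw [io, comp_lift, ← pt_comp, ← pt_comp]
    congr 2
    · ext; simp
    · ext; simp
  rw [h1, uv_comp, toK_uv]
  rfl

/-- Base change. -/
theorem gl_pull (χ : Γ((sp k A ⊗ sp k R).left, ⊤)ˣ) (g : R →ₐ[k] R') :
    gl (uv χ (sp k A ◁ pt g)) = Algebra.TensorProduct.map g (AlgHom.id k A) (gl χ) := by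
  have h1 : io A R' ≫ (sp k A ◁ pt g) = lift (pt (Algebra.TensorProduct.includeRight : A →ₐ[k] R' ⊗[k] A))
      (pt ((Algebra.TensorProduct.includeLeft : R' →ₐ[k] R' ⊗[k] A).comp g)) := by
    rw [io, lift_whiskerLeft, ← pt_comp]
  have h2 : Algebra.TensorProduct.lift ((Algebra.TensorProduct.includeLeft : R' →ₐ[k] R' ⊗[k] A).comp g)
      (Algebra.TensorProduct.includeRight : A →ₐ[k] R' ⊗[k] A) (fun _ _ ↦ .all _ _) =
      Algebra.TensorProduct.map g (AlgHom.id k A) := by
    ext <;> simp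
  rw [gl, ← uv_comp, h1, toK_uv_lift, h2]

theorem Φ_map {A : Type u} [CommRing A] [HopfAlgebra k A] (g : R →ₐ[k] R') (z : R ⊗[k] A) (x : CartDual.D k A) :
    Φ k A R' (Algebra.TensorProduct.map g (AlgHom.id k A) z) x = g (Φ k A R z x) := by
  induction z using TensorProduct.induction_on with
  | zero => rw [map_zero, Φ_zero, Φ_zero]; simp
  | add z z' h h' => rw [map_add, Φ_add, LinearMap.add_apply, h, h', Φ_add, LinearMap.add_apply, map_add]
  | tmul r a => rw [Algebra.TensorProduct.map_tmul, Φ_tmul, Φ_tmul, map_smul]; rfl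

end gl

section char

variable {A R : Type u} [CommRing A] [HopfAlgebra k A] [CommRing R] [Algebra k R]

/-- The convolution product of algebra maps. -/
noncomputable abbrev cv {C K : Type u} [Semiring C] [Bialgebra k C] [CommRing K] [Algebra k K]
    (a b : C →ₐ[k] K) : C →ₐ[k] K :=
  (Algebra.TensorProduct.lift a b fun _ _ ↦ .all _ _).comp (Bialgebra.comulAlgHom k C)

/-- The form `id ⊗ x ⊗ y`. -/
noncomputable def P (x y : A →ₗ[k] k) : R ⊗[k] (A ⊗[k] A) →ₗ[k] R :=
  (TensorProduct.rid k R).toLinearMap ∘ₗ LinearMap.lTensor R (LinearMap.mul' k k ∘ₗ TensorProduct.map x y)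

theorem P_tmul (x y : A →ₗ[k] k) (r : R) (a b : A) : P x y (r ⊗ₜ (a ⊗ₜ b)) = (x a * y b) • r := by
  simp [P]

theorem P_tmul' (x y : A →ₗ[k] k) (r : R) (c : A ⊗[k] A) :
    P x y (r ⊗ₜ c) = (LinearMap.mul' k k (TensorProduct.map x y c)) • r := by
  simp [P]

theorem tens_ext [FiniteDimensional k A] {z z' : R ⊗[k] (A ⊗[k] A)}
    (h : ∀ x y : A →ₗ[k] k, P x y z = P x y z') : z = z' := by
  let b := Module.finBasis k A
  apply (((b.tensorProduct b).baseChange R)).ext_elem
  rintro ⟨i, j⟩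
  have key : ∀ w : R ⊗[k] (A ⊗[k] A), ((b.tensorProduct b).baseChange R).repr w (i, j) =
      P (b.coord i) (b.coord j) w := by
    intro w
    induction w using TensorProduct.induction_on with
    | zero => simp
    | add g g' h h' => rw [map_add, Finsupp.add_apply, h, h', map_add]
    | tmul r c =>
      induction c using TensorProduct.induction_on with
      | zero => simp
      | add g g' h h' => rw [TensorProduct.tmul_add, map_add, Finsupp.add_apply, h, h', map_add]
      | tmul a a' =>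
        rw [Module.Basis.baseChange_repr_tmul, Module.Basis.tensorProduct_repr_tmul_apply, P_tmul]
        simp [mul_comm]
  rw [key, key, h]

variable (A R) in
/-- The universal points. -/
noncomputable def r₀ : R →ₐ[k] R ⊗[k] (A ⊗[k] A) := Algebra.TensorProduct.includeLeft
variable (A R) in
@[inherit_doc r₀]
noncomputable def a₀ : A →ₐ[k] R ⊗[k] (A ⊗[k] A) :=
  (Algebra.TensorProduct.includeRight : A ⊗[k] A →ₐ[k] R ⊗[k] (A ⊗[k] A)).comp
    (Algebra.TensorProduct.includeLeft : A →ₐ[k] A ⊗[k] A)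
variable (A R) in
@[inherit_doc r₀]
noncomputable def b₀ : A →ₐ[k] R ⊗[k] (A ⊗[k] A) :=
  (Algebra.TensorProduct.includeRight : A ⊗[k] A →ₐ[k] R ⊗[k] (A ⊗[k] A)).comp
    (Algebra.TensorProduct.includeRight : A →ₐ[k] A ⊗[k] A)

theorem cv_univ : cv (a₀ A R) (b₀ A R) =
    (Algebra.TensorProduct.includeRight : A ⊗[k] A →ₐ[k] R ⊗[k] (A ⊗[k] A)).comp
      (Bialgebra.comulAlgHom k A) := by
  rw [cv]
  congr 1
  ext x
  · simp [a₀]
  · simp [b₀]

theorem P_cv (x y : CartDual.D k A) (g : R ⊗[k] A) :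
    P x.ofConv y.ofConv (Algebra.TensorProduct.lift (r₀ A R) (cv (a₀ A R) (b₀ A R))
      (fun _ _ ↦ .all _ _) g) = Φ k A R g (x * y) := by
  rw [cv_univ]
  induction g using TensorProduct.induction_on with
  | zero => rw [map_zero, map_zero, Φ_zero]; rfl
  | add g g' h h' => rw [map_add, map_add, h, h', Φ_add, LinearMap.add_apply]
  | tmul r a =>
    rw [Algebra.TensorProduct.lift_tmul, Φ_tmul, CartDual.coe_apply, LinearMap.convMul_apply]
    have h1 : r₀ A R r * ((Algebra.TensorProduct.includeRight : A ⊗[k] A →ₐ[k] R ⊗[k] (A ⊗[k] A)).comp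
      (Bialgebra.comulAlgHom k A)) a = r ⊗ₜ (Coalgebra.comul (R := k) a) := by
      simp [r₀]
    rw [h1, P_tmul']

theorem P_mul (x y : CartDual.D k A) (g h : R ⊗[k] A) :
    P x.ofConv y.ofConv (Algebra.TensorProduct.lift (r₀ A R) (a₀ A R) (fun _ _ ↦ .all _ _) g *
      Algebra.TensorProduct.lift (r₀ A R) (b₀ A R) (fun _ _ ↦ .all _ _) h) =
        Φ k A R g x * Φ k A R h y := by
  induction g using TensorProduct.induction_on with
  | zero => rw [map_zero, zero_mul, map_zero, Φ_zero, LinearMap.zero_apply, zero_mul]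
  | add g g' h h' => rw [map_add, add_mul, map_add, h, h', Φ_add, LinearMap.add_apply, add_mul]
  | tmul r a =>
    induction h using TensorProduct.induction_on with
    | zero => rw [map_zero, mul_zero, map_zero, Φ_zero, LinearMap.zero_apply, mul_zero]
    | add g g' h h' => rw [map_add, mul_add, map_add, h, h', Φ_add, LinearMap.add_apply, mul_add]
    | tmul s b =>
      rw [Algebra.TensorProduct.lift_tmul, Algebra.TensorProduct.lift_tmul, Φ_tmul, Φ_tmul]
      have h1 : r₀ (k := k) A R r * a₀ A R a * (r₀ A R s * b₀ A R b) = (r * s) ⊗ₜ (a ⊗ₜ b) := by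
        simp [r₀, a₀, b₀]
      rw [h1, P_tmul, smul_mul_smul_comm]

variable {χ : Γ((sp k A ⊗ sp k R).left, ⊤)ˣ}

theorem phi_mul_of_isChar (h : IsChar (sp k A) χ) (x y : CartDual.D k A) :
    Φ k A R (gl χ) (x * y) = Φ k A R (gl χ) x * Φ k A R (gl χ) y := by
  have h1 := congrArg (toK (k := k)) (h (sp k (R ⊗[k] (A ⊗[k] A))) (pt (a₀ A R)) (pt (b₀ A R)) (pt (r₀ (k := k) A R)))
  rw [pt_mul_pt, toK_mul, toK_uv_lift, toK_uv_lift, toK_uv_lift] at h1
  have h2 := P_cv x y (gl χ)
  have h3 := P_mul x y (gl χ) (gl χ)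
  rw [← h2, ← h3]
  exact congrArg _ h1

theorem phi_one_of_isChar (h : IsChar (sp k A) χ) : Φ k A R (gl χ) 1 = 1 := by
  have h1 := congrArg (toK (k := k) (K := R)) (h.one (pt (AlgHom.id k R)))
  rw [one_eq_pt, toK_uv_lift, toK_one] at h1
  rw [← h1]
  generalize gl χ = g
  induction g using TensorProduct.induction_on with
  | zero => rw [map_zero, Φ_zero]; rfl
  | add g g' h h' => rw [map_add, ← h, ← h', Φ_add, LinearMap.add_apply]
  | tmul r a =>
    rw [Algebra.TensorProduct.lift_tmul, Φ_tmul]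
    have h2 : (1 : CartDual.D k A) a = Coalgebra.counit (R := k) a := by
      rw [CartDual.coe_apply, LinearMap.convOne_def]
      rfl
    rw [h2]
    simp [Algebra.ofId_apply, Algebra.smul_def, mul_comm]

variable (χ) in
/-- The algebra map attached to a character. -/
noncomputable def toAlg (h : IsChar (sp k A) χ) : CartDual.D k A →ₐ[k] R :=
  AlgHom.ofLinearMap (Φ k A R (gl χ)) (phi_one_of_isChar h) (phi_mul_of_isChar h)

theorem toAlg_apply (h : IsChar (sp k A) χ) (x : CartDual.D k A) :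
    toAlg χ h x = Φ k A R (gl χ) x := rfl

/-- The converse. -/
theorem isChar_of_mul [FiniteDimensional k A]
    (h : ∀ x y : CartDual.D k A, Φ k A R (gl χ) (x * y) = Φ k A R (gl χ) x * Φ k A R (gl χ) y) :
    IsChar (sp k A) χ := by
  have key : Algebra.TensorProduct.lift (r₀ (k := k) A R) (cv (a₀ A R) (b₀ A R)) (fun _ _ ↦ .all _ _) (gl χ) =
      Algebra.TensorProduct.lift (r₀ (k := k) A R) (a₀ A R) (fun _ _ ↦ .all _ _) (gl χ) *
      Algebra.TensorProduct.lift (r₀ (k := k) A R) (b₀ A R) (fun _ _ ↦ .all _ _) (gl χ) :=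
    tens_ext fun x y ↦ by
      have h1 := P_cv (WithConv.toConv x) (WithConv.toConv y) (gl χ)
      have h2 := P_mul (WithConv.toConv x) (WithConv.toConv y) (gl χ) (gl χ)
      exact h1.trans ((h _ _).trans h2.symm)
  rw [← toK_uv_lift, ← toK_uv_lift, ← toK_uv_lift, ← toK_mul, ← pt_mul_pt] at key
  have key2 := toK_inj key
  intro Z n m t
  have e1 : IsIso (io (k := k) (A ⊗[k] A) R) := isIso_io _ _
  have e2 : IsIso (io (k := k) A A) := isIso_io _ _
  let l : Z ⟶ sp k (R ⊗[k] (A ⊗[k] A)) := lift (lift m n ≫ inv (io (k := k) A A)) t ≫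
    inv (io (k := k) (A ⊗[k] A) R)
  have l1 : l ≫ pt (Algebra.TensorProduct.includeRight : A ⊗[k] A →ₐ[k] R ⊗[k] (A ⊗[k] A)) =
      lift m n ≫ inv (io (k := k) A A) := by
    have : pt (Algebra.TensorProduct.includeRight : A ⊗[k] A →ₐ[k] R ⊗[k] (A ⊗[k] A)) =
        io (k := k) (A ⊗[k] A) R ≫ fst _ _ := (lift_fst _ _).symm
    rw [this, Category.assoc, IsIso.inv_hom_id_assoc, lift_fst]
  have l2 : l ≫ pt (r₀ (k := k) A R) = t := by
    have : pt (r₀ (k := k) A R) = io (k := k) (A ⊗[k] A) R ≫ snd _ _ := (lift_snd _ _).symm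
    rw [this, Category.assoc, IsIso.inv_hom_id_assoc, lift_snd]
  have l3 : l ≫ pt (a₀ A R) = n := by
    have : pt (Algebra.TensorProduct.includeLeft : A →ₐ[k] A ⊗[k] A) =
        io (k := k) A A ≫ snd _ _ := (lift_snd _ _).symm
    rw [a₀, pt_comp, ← Category.assoc, l1, this, Category.assoc, IsIso.inv_hom_id_assoc, lift_snd]
  have l4 : l ≫ pt (b₀ A R) = m := by
    have : pt (Algebra.TensorProduct.includeRight : A →ₐ[k] A ⊗[k] A) =
        io (k := k) A A ≫ fst _ _ := (lift_fst _ _).symm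
    rw [b₀, pt_comp, ← Category.assoc, l1, this, Category.assoc, IsIso.inv_hom_id_assoc, lift_fst]
  have key3 := congrArg (fun w ↦ uv w l) key2
  simp only [uv_mul] at key3
  rw [← uv_comp, ← uv_comp, ← uv_comp, comp_lift, comp_lift, comp_lift, MonObj.comp_mul, l2, l3, l4]
    at key3
  exact key3

/-- Every algebra map comes from a character. -/
theorem exists_char_of_algHom [Coalgebra.IsCocomm k A] [FiniteDimensional k A]
    (β : CartDual.D k A →ₐ[k] R) : ∃ χ : Γ((sp k A ⊗ sp k R).left, ⊤)ˣ, IsChar (sp k A) χ ∧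
      ∀ x, Φ k A R (gl χ) x = β x := by
  obtain ⟨e, he⟩ := Groth.Agent.S15830.result k A R
  let g : GroupLike R (R ⊗[k] A) := e.symm (WithConv.toConv β)
  have h1 : ∀ x, Φ k A R g.val x = β x := by
    intro x
    rw [Φ_apply, pairR_eq, ← he, MulEquiv.apply_symm_apply]
  have h2 : g.val * (g⁻¹).val = 1 := by
    rw [← GroupLike.val_mul, mul_inv_cancel, GroupLike.val_one]
  obtain ⟨χ, hχ⟩ := exists_gl h2
  refine ⟨χ, isChar_of_mul ?_, ?_⟩
  · intro x y
    rw [hχ, h1, h1, h1, map_mul]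
  · intro x
    rw [hχ, h1]

end char

end K732.CharAlg
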