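import Groth.Agent.AbDual.K732.PicSch
import Groth.Agent.S16683
import Groth.Agent.AbVar.K516.HomFin
import Groth.Agent.AbVar.K524.PicZeroVan

/-!
# Existence and structure of the dual of an abelian variety over a field

* `exists_dual` : every abelian variety over a field has a dual abelian variety;
* `isAV` : ANY dual `(At, φ)` of an abelian variety over a field is an abelian variety: `At` is commutative, proper,
  smooth, geometrically connected, of the same dimension.
-/

set_option autoImplicit false
universe u

open CategoryTheory CategoryTheory.Limits MonoidalCategory CartesianMonoidalCategory MonObj GrpObj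
  AlgebraicGeometry

namespace K732.DualField

open Groth.Agent
open Groth.Agent.Grpsch.PicGrp Groth.Agent.Fga.RigGrp K732.Cov K732.PicZero K732.RigSheaf K732.Dual

variable {k : Type u} [Field k] (A : Over (Spec (CommRingCat.of k))) [GrpObj A] [IsProper A.hom]
  [Smooth A.hom] [GeometricallyConnected A.hom]

/-- The Picard scheme of an abelian variety is smooth, of dimension `dim A`. -/
theorem smooth_picScheme {P : Over (Spec (CommRingCat.of k))} {ξ : Pic (PicF.XT A.hom P)}
    (hu : IsUniv A.hom η[A].left (Over.w η[A]) P ξ) [LocallyOfFiniteType P.hom] {g : ℕ}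
    (hg : topologicalKrullDim A.left = g) : Smooth P.hom ∧ topologicalKrullDim P.left = g := by
  have gi := K732.AV.geomInt A
  obtain ⟨φ, hφ, -⟩ := K732.RelPicK.exists_isRelPicK hu
  exact S16683.result k A g hg P φ hφ

/-- **Existence of the dual abelian variety over any field.** -/
theorem exists_dual :
    ∃ (At : Over (Spec (CommRingCat.of k))) (_ : GrpObj At)
      (φ : ∀ T : Over (Spec (CommRingCat.of k)), PicF.Cl (PicF.XT A.hom T) → (T ⟶ At)),
      IsCommMonObj At ∧ AbDual.IsDualAV Scheme.fppfPrecoverage A At φ ∧ IsProper At.hom ∧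
        Smooth At.hom ∧ GeometricallyConnected At.hom ∧
        topologicalKrullDim At.left = topologicalKrullDim A.left := by
  have gi := K732.AV.geomInt A
  have hi := K524.PicZeroVan.isIntegral_left (A := A)
  obtain ⟨P, ξ, hu, hr, hl, hs⟩ := K732.PicSch.exists_picScheme A
  obtain ⟨g, hg⟩ := K516.HomFin.exists_dim A
  obtain ⟨hsm, hdim⟩ := smooth_picScheme A hu hg
  obtain ⟨At, i1, φ, h1, h2, h3, h4, h5, h6⟩ := K732.PicSch.exists_dual_of_smooth A hu hr
  exact ⟨At, i1, φ, h1, h2, h3, h4, h5, by rw [h6, hdim, hg]⟩

variable {A}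

/-- **Every dual of an abelian variety over a field is an abelian variety of the same dimension.** -/
theorem isAV {At : Over (Spec (CommRingCat.of k))} [GrpObj At]
    {φ : ∀ T : Over (Spec (CommRingCat.of k)), PicF.Cl (PicF.XT A.hom T) → (T ⟶ At)}
    (hD : AbDual.IsDualAV Scheme.fppfPrecoverage A At φ) :
    IsCommMonObj At ∧ IsProper At.hom ∧ Smooth At.hom ∧ GeometricallyConnected At.hom ∧
        topologicalKrullDim At.left = topologicalKrullDim A.left := by
  obtain ⟨B, gB, ψ, -, hE, p1, p2, p3, hdim⟩ := exists_dual A
  obtain ⟨u, -, -⟩ := K732.Constr.exists_iso hD (K732.AV.hF A) hE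
  have h1 : IsIso u.hom.left := inferInstanceAs (IsIso ((Over.forget _).map u.hom))
  have h2 : u.hom.left ≫ B.hom = At.hom := Over.w u.hom
  have q1 : IsProper At.hom := by rw [← h2]; infer_instance
  have q2 : Smooth At.hom := by rw [← h2]; infer_instance
  have q3 : GeometricallyConnected At.hom := by
    refine ⟨fun K _ y Z fst snd h ↦ ?_⟩
    have h3 : IsPullback (fst ≫ u.hom.left) snd B.hom y := by
      refine IsPullback.of_iso h (Iso.refl _) (asIso u.hom.left) (Iso.refl _) (Iso.refl _) ?_ ?_ ?_ ?_
      · simp
      · simp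
      · simp [h2]
      · simp
    exact p3.geometrically_connectedSpace y _ _ h3
  have gi := K732.AV.geomInt At
  refine ⟨isCommMonObj_of_isProper_of_geometricallyIntegral At, q1, q2, q3, ?_⟩
  rw [← hdim]
  exact IsHomeomorph.topologicalKrullDim_eq _ (Scheme.homeoOfIso (asIso u.hom.left)).isHomeomorph

end K732.DualField
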