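import Groth.Agent.S7858
import Groth.Agent.AbVar.K516.DegPoly
import Groth.Agent.AbVar.K518.ProdIsog
import Groth.Agent.AbVar.K524.Chi
import Groth.Agent.AbSch.K448.PointedHom
import Groth.Agent.AbDual.K732.DualField

/-!
# Euler characteristics of families `(1 × f)^* P` (any field)

* `chi_pull` : `χ(f^* c) = deg f · χ(c)` for every homomorphism of abelian varieties of the same dimension;
* `chi_classify` : `χ(Q) = deg (1 × f) · χ(P)` when `Q` is classified by `f`;
* `main` : if `|χ(P)| = 1` then `|χ(Q)| = 1` iff the classifying homomorphism is an isomorphism.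
-/

set_option autoImplicit false
set_option linter.unusedSectionVars false
universe u

open CategoryTheory CategoryTheory.Limits MonoidalCategory CartesianMonoidalCategory MonObj GrpObj
  AlgebraicGeometry

namespace K732.EulerQ

open Groth.Agent.Grpsch Groth.Agent.Grpsch.PicGrp Groth.Agent.Fga.RigGrp K732.Cov K732.PicZero K732.RigSheaf K732.Dual
open K516.DegPoly K516.DegForm K524.Chi

variable {k : Type u} [Field k]

section chi

variable {A B : Over (Spec (CommRingCat.of k))} [GrpObj A] [GrpObj B]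
  [IsProper A.hom] [GeometricallyIntegral A.hom] [IsProper B.hom] [GeometricallyIntegral B.hom]

/-- Riemann–Roch for classes. -/
theorem F_eq_chi (n : ℕ) (hn : topologicalKrullDim A.left = n) (c : Pic A.left) :
    F A n hn.le (fun _ ↦ Additive.ofMul c) = (Nat.factorial n : ℤ) * chi c := by
  obtain ⟨L, hL, rfl⟩ := exists_mk c
  have h1 : Nonempty (CohB1.tensorMod L (dual L) ≅ Coh.structureModule A.left) :=
    ⟨@asIso _ _ _ _ (Groth.Agent.Grpsch.PicGrp.ev L) (isIso_ev hL)⟩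
  rw [chi_mk, Groth.Agent.S7858.result k A n hn L (dual L) hL h1]
  let _ : A.left.Over (Spec (CommRingCat.of k)) := ⟨A.hom⟩
  have : IsProper (A.left ↘ Spec (CommRingCat.of k)) := ‹IsProper A.hom›
  exact JO_mk k A.left n hn.le (fun _ ↦ L) (fun _ ↦ hL)

/-- `χ(f^* c) = deg f · χ(c)`, with `deg f = 0` if `f` is not finite. -/
theorem chi_pull (n : ℕ) (hA : topologicalKrullDim A.left = n) (hB : topologicalKrullDim B.left = n)
    (f : A ⟶ B) [IsMonHom f] (c : Pic B.left) : chi (pull f.left c) = deg f * chi c := by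
  have h1 := F_pull n hA hB f (fun _ ↦ Additive.ofMul c)
  have h2 : (fun _ : Fin n ↦ pullA f.left (Additive.ofMul c)) =
      fun _ ↦ Additive.ofMul (pull f.left c) := rfl
  rw [h2, F_eq_chi n hA, F_eq_chi n hB] at h1
  have h4 : ((Nat.factorial n : ℕ) : ℤ) ≠ 0 := by exact_mod_cast Nat.factorial_ne_zero n
  apply mul_left_cancel₀ h4
  rw [h1]
  ring

/-- A homomorphism of degree one is an isomorphism. -/
theorem isIso_of_deg (n : ℕ) (hA : topologicalKrullDim A.left = n) (hB : topologicalKrullDim B.left = n)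
    (f : A ⟶ B) [IsMonHom f] (h : deg f = 1) : IsIso f.left := by
  have hf : IsFinite f.left := (deg_pos_iff n hA hB f).1 (by rw [h]; exact Nat.one_pos)
  have hfl : Flat f.left := K516.HomFin.flat_of_isFinite n hA hB f
  refine (Scheme.Hom.isIso_iff_finrank_eq f.left).2 (funext fun x ↦ ?_)
  rw [finrank_eq n hA hB f hf x, h]
  rfl

end chi

section main

variable {A B Bt : Over (Spec (CommRingCat.of k))} [GrpObj A] [IsProper A.hom] [Smooth A.hom]
  [GeometricallyConnected A.hom] [GrpObj B] [IsProper B.hom] [Smooth B.hom]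
  [GeometricallyConnected B.hom] [GrpObj Bt]
  {φ : ∀ T : Over (Spec (CommRingCat.of k)), PicF.Cl (PicF.XT B.hom T) → (T ⟶ Bt)}
  (hφ : AbDual.IsDualAV Scheme.fppfPrecoverage B Bt φ)

theorem XTmap_eq {T T' : Over (Spec (CommRingCat.of k))} (g : T' ⟶ T) :
    PicF.XTmap B.hom g = (B ◁ g).left := by
  apply pullback.hom_ext
  · refine (XTmap_fst B.hom g).trans ?_
    exact (congrArg Over.Hom.left (whiskerLeft_fst B g)).symm
  · refine (XTmap_XTproj B.hom g).trans ?_
    exact (congrArg Over.Hom.left (whiskerLeft_snd B g)).symm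

include hφ in
/-- The classifying morphism of a family trivial on the fibre over the unit is a homomorphism. -/
theorem isMonHom_classify [IsSeparated Bt.hom] {c : Pic (PicF.XT B.hom A)} (hc : c ∈ pz B.hom A)
    (h0 : pull (PicF.XTmap B.hom η[A]) c = 1) : IsMonHom (cm φ c) := by
  have gi := K732.AV.geomInt A
  refine K448.PointedHom.isMonHom_of_pointed _ ?_
  rw [← cm_pull hφ _ hc, h0, cm_one hφ]
  exact (MonObj.one_eq_one Bt).symm

theorem euler_eq_chi (q : PicF.XT B.hom A ⟶ Spec (CommRingCat.of k)) (hq : q = (B ⊗ A).hom)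
    (Q : (PicF.XT B.hom A).Modules) (hQ : PicF.IsInvertible Q) :
    @Curv2.euler k _ (PicF.XT B.hom A) ⟨q⟩ Q = chi (X := B ⊗ A) (PicGrp.mk Q hQ) := by
  subst hq
  exact (chi_mk (X := B ⊗ A) hQ).symm

omit [IsProper B.hom] [Smooth B.hom] [GeometricallyConnected B.hom] [GrpObj A] [GrpObj Bt]
  [IsProper A.hom] [Smooth A.hom] [GeometricallyConnected A.hom] in
theorem isIso_of_whiskerLeft (f : A ⟶ Bt) (h : IsIso (B ◁ f)) : IsIso f := by
  have e1 : ∀ {T : Over (Spec (CommRingCat.of k))} (a : T ⟶ Bt),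
      lift (1 : T ⟶ B) a ≫ inv (B ◁ f) ≫ snd B A ≫ f = a := by
    intro T a
    rw [← whiskerLeft_snd, IsIso.inv_hom_id_assoc, lift_snd]
  refine ⟨lift (1 : Bt ⟶ B) (𝟙 Bt) ≫ inv (B ◁ f) ≫ snd B A, ?_, ?_⟩
  · have e2 : f ≫ lift (1 : Bt ⟶ B) (𝟙 Bt) = lift (1 : A ⟶ B) (𝟙 A) ≫ (B ◁ f) := by
      rw [comp_lift, Category.comp_id, MonObj.comp_one, lift_whiskerLeft, Category.id_comp]
    rw [← Category.assoc, e2, Category.assoc, IsIso.hom_inv_id_assoc, lift_snd]
  · rw [Category.assoc, Category.assoc]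
    exact e1 (𝟙 Bt)

include hφ in
/-- **`|χ(Q)| = 1` iff the classifying homomorphism is an isomorphism.** -/
theorem main (g : ℕ) (hA : topologicalKrullDim ↥A.left = g) (hB : topologicalKrullDim ↥B.left = g)
    (P : (PicF.XT B.hom Bt).Modules) (hP : PicF.IsInvertible P)
    (hPξ : AbDual.IsPoincareCl B Bt φ (PicF.cl P))
    (hP1 : (@Curv2.euler k _ (pullback B.hom Bt.hom) ⟨pullback.fst B.hom Bt.hom ≫ B.hom⟩ P).natAbs = 1)
    (Q : (PicF.XT B.hom A).Modules) (hQ : PicF.IsInvertible Q)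
    (hQ0 : AbDual.IsPicZeroCl B.hom A (PicF.cl Q))
    (hQB : PicF.IsTrivialCl (PicF.pullCl (PicF.secT B.hom η[B].left (Over.w η[B]) A) (PicF.cl Q)))
    (hQA : PicF.IsTrivialCl (PicF.pullCl (PicF.XTmap B.hom η[A]) (PicF.cl Q))) :
    (@Curv2.euler k _ (PicF.XT B.hom A) ⟨PicF.XTproj B.hom A ≫ A.hom⟩ Q).natAbs = 1 ↔
      IsIso (φ A (PicF.cl Q)) := by
  obtain ⟨-, t1, t2, t3, t4⟩ := K732.DualField.isAV hφ
  have giA := K732.AV.geomInt A
  have giB := K732.AV.geomInt B
  have giT := K732.AV.geomInt Bt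
  have hcl : PicF.cl Q = toCl (PicGrp.mk Q hQ) := rfl
  have hclP : PicF.cl P = toCl (PicGrp.mk P hP) := rfl
  rw [hcl] at hQ0 hQB hQA ⊢
  rw [hclP] at hPξ
  rw [← toCl_pull, isTrivialCl_toCl_iff] at hQB hQA
  have hz : PicGrp.mk Q hQ ∈ pz B.hom A := isPicZeroCl_iff.1 hQ0
  have hr : PicGrp.mk Q hQ ∈ rg B A := (mem_Rg _ _ _).2 hQB
  obtain ⟨p1, p2, p3⟩ := hPξ
  rw [← toCl_pull, isTrivialCl_toCl_iff] at p3
  have pz1 : PicGrp.mk P hP ∈ pz B.hom Bt := isPicZeroCl_iff.1 p1
  have pr1 : PicGrp.mk P hP ∈ rg B Bt := (mem_Rg _ _ _).2 p3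
  have hf : IsMonHom (cm φ (PicGrp.mk Q hQ)) := isMonHom_classify hφ hz hQA
  have hpull := eq_pull_poinc hφ (K732.AV.hF B) pz1 pr1 p2 hz hr
  change _ ↔ IsIso (cm φ (PicGrp.mk Q hQ))
  generalize hfdef : cm φ (PicGrp.mk Q hQ) = f at *
  have hw : IsMonHom (B ◁ f) := inferInstance
  have d1 : topologicalKrullDim (B ⊗ A).left = ((g + g : ℕ) : WithBot ℕ∞) := by
    rw [K518.ProdIsog.dim_tensor, hA, hB]
    push_cast
    rfl
  have d2 : topologicalKrullDim (B ⊗ Bt).left = ((g + g : ℕ) : WithBot ℕ∞) := by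
    rw [K518.ProdIsog.dim_tensor, t4, hB]
    push_cast
    rfl
  have gi1 : GeometricallyIntegral (B ⊗ A).hom := K520.Prod.geometricallyIntegral_tensor B A
  have gi2 : GeometricallyIntegral (B ⊗ Bt).hom := K520.Prod.geometricallyIntegral_tensor B Bt
  have ip1 : IsProper (B ⊗ A).hom := K520.Prod.isProper_tensor B A
  have ip2 : IsProper (B ⊗ Bt).hom := K520.Prod.isProper_tensor B Bt
  have hii : IsIntegral (B ⊗ Bt).left := K524.PicZeroVan.isIntegral_left (A := B ⊗ Bt)
  have e1 : chi (X := B ⊗ A) (PicGrp.mk Q hQ) = deg (B ◁ f) * chi (X := B ⊗ Bt) (PicGrp.mk P hP) := by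
    rw [← chi_pull (g + g) d1 d2 (B ◁ f), ← XTmap_eq]
    exact congrArg (chi (X := B ⊗ A)) hpull
  have e2 : (chi (X := B ⊗ Bt) (PicGrp.mk P hP)).natAbs = 1 := by
    rw [← hP1]
    exact congrArg Int.natAbs (chi_mk (X := B ⊗ Bt) hP)
  rw [euler_eq_chi _ (pullback.condition (f := B.hom) (g := A.hom)).symm Q hQ, e1, Int.natAbs_mul, e2,
    _root_.mul_one, Int.natAbs_natCast]
  constructor
  · intro h
    have h1 := isIso_of_deg (g + g) d1 d2 (B ◁ f) h
    have h2 : IsIso ((Over.forget (Spec (CommRingCat.of k))).map (B ◁ f)) := h1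
    exact isIso_of_whiskerLeft f (isIso_of_reflects_iso (B ◁ f) (Over.forget _))
  · intro h
    have h1 : IsIso (B ◁ f) := inferInstance
    have h2 : IsIso (B ◁ f).left := inferInstanceAs (IsIso ((Over.forget _).map (B ◁ f)))
    have h3 := finrank_eq (g + g) d1 d2 (B ◁ f) inferInstance (genericPoint (B ⊗ Bt).left)
    rw [← h3, Scheme.Hom.finrank_eq_one_of_isIso]
    rfl

end main

end K732.EulerQ
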