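import Groth.Agent.S14127
import Groth.Agent.AbDual.K732.EulerQ

/-!
# `χ(P) = (-1)^g` for the Poincaré module of an abelian variety over any field
-/

set_option autoImplicit false
universe u

open CategoryTheory CategoryTheory.Limits MonoidalCategory CartesianMonoidalCategory MonObj GrpObj
  AlgebraicGeometry

namespace K732.ChiPoin

variable (k : Type u) [Field k]
    (A At : Over (Spec (CommRingCat.of k))) [GrpObj A] [IsProper A.hom] [Smooth A.hom] [GeometricallyConnected A.hom]
    [GrpObj At] [IsProper At.hom] [Smooth At.hom] [GeometricallyConnected At.hom]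
    (φ : ∀ T : Over (Spec (CommRingCat.of k)), PicF.Cl (PicF.XT A.hom T) → (T ⟶ At))

theorem euler_poinc (hφ : AbDual.IsDualAV Scheme.fppfPrecoverage A At φ)
    (P : (pullback A.hom At.hom).Modules) (hP : PicF.IsInvertible P)
    (hPξ : AbDual.IsPoincareCl A At φ (PicF.cl P))
    (g : ℕ) (hg : topologicalKrullDim ↥A.left = g) :
    @Curv2.euler k _ (pullback A.hom At.hom) ⟨pullback.fst A.hom At.hom ≫ A.hom⟩ P = (-1) ^ g := by
  obtain ⟨h1, h2, -, -⟩ := Groth.Agent.S14127.result k A At φ hφ P hP hPξ g hg
  unfold Curv2.euler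
  let _ : (pullback A.hom At.hom).Over (Spec (CommRingCat.of k)) := ⟨pullback.fst A.hom At.hom ≫ A.hom⟩
  rw [finsum_eq_single _ g]
  · have h3 : Module.finrank k (Coh.HH (pullback A.hom At.hom) P g) = 1 := h2
    rw [h3, Nat.cast_one, _root_.mul_one]
  · intro i hi
    have h4 := h1 i hi
    rw [Module.finrank_zero_of_subsingleton, Nat.cast_zero, mul_zero]

end K732.ChiPoin
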