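import Groth.Agent.Pic13.H602.FamDesc3
import Groth.Agent.Grpsch.PicGrp

/-!
# Unit cocycles and invertible modules trivialised by a covering

`p : Y' ⟶ Y`, `v` a unit on `Y' ×_Y Y'`.

* `vat v a b w` : the value of `v` at a pair of points `a b : Z ⟶ Y'` with `a ≫ p = b ≫ p`;
* `coc p` : the group of unit cocycles;
* `Rep p v c` : the class `c : Pic Y` has a representative with a trivialisation over `Y'` whose transition
  unit is `v`;
* `exists_rep` (fpqc), `Rep.unique` (fpqc), `exists_of_pull_eq_one`, `Rep.pull`, `Rep.coboundary`.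
-/

set_option autoImplicit false
set_option backward.isDefEq.respectTransparency false

universe v u

open CategoryTheory CategoryTheory.Limits AlgebraicGeometry TopologicalSpace Opposite

namespace K732.Coc

open Groth.Agent.Fdesc Groth.Agent.Fdesc.LocGen Groth.Agent.Picfga.LineHom
  Groth.Agent.Picfga.LineDescent Groth.Agent.Picfga.LineFam Groth.Agent.Pic13.H602.Rig
  Groth.Agent.Pic13.H602.FamDesc Groth.Agent.Grpsch.PicGrp

variable {Y Y' Z Z' : Scheme.{u}}

section val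

variable {a b : Z ⟶ Y'} {M : Z.Modules}

/-- The value at `1`. -/
noncomputable def val (α : Fam a (Coh.structureModule Y') M) : Γ(M, ⊤) :=
  α.on (U := ⊤) (N := ⊤) le_rfl (one ⊤)

lemma val_eq (α : Fam a (Coh.structureModule Y') M) : val α = α.map (one ⊤) := α.on_le_rfl _

lemma isGen_val (α : Fam a (Coh.structureModule Y') M) : IsGen (val α) :=
  α.isGen_on _ (isGen_one _)

lemma val_inj {α β : Fam a (Coh.structureModule Y') M} (h : val α = val β) : α = β := by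
  refine Fam.ext_of_gens (ι := PUnit.{1}) (U := fun _ ↦ ⊤) (by simp) (e := fun _ ↦ one ⊤)
    (fun _ ↦ isGen_one _) fun _ ↦ ?_
  rw [← val_eq, ← val_eq, h]

lemma exists_val (a : Z ⟶ Y') {m : Γ(M, ⊤)} (hm : IsGen m) :
    ∃ α : Fam a (Coh.structureModule Y') M, val α = m := by
  obtain ⟨α, hα⟩ := Fam.exists_of_gens (G := a) (L := Coh.structureModule Y') (L' := M)
    (ι := PUnit.{1}) (U := fun _ ↦ ⊤) (by simp) (e := fun _ ↦ one ⊤) (fun _ ↦ isGen_one _)
    (fun _ ↦ m) (fun _ ↦ hm) (fun _ _ ↦ ⟨1, by rw [one_smul], by rw [map_one, one_smul]⟩)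
  exact ⟨α, (val_eq α).trans (hα ⟨⟩)⟩

lemma val_comp {g : Z' ⟶ Z} {M' : Z'.Modules} (α : Fam a (Coh.structureModule Y') M)
    (κ : Fam g M M') : val (α.comp κ) = κ.on (N := ⊤) le_rfl (val α) := by
  rw [val_eq, Fam.comp_map, val_eq, Fam.on_def]
  exact (res_refl _ _).symm

lemma val_cast (h : a = b) (α : Fam a (Coh.structureModule Y') M) : val (α.cast h) = val α := by
  subst h
  rw [Fam.cast_rfl]

lemma val_smulUnit {w : Γ(Z, ⊤)} (hw : IsUnit w) (α : Fam a (Coh.structureModule Y') M) :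
    val (Fam.smulUnit hw α) = w • val α := by
  rw [val_eq, Fam.smulUnit_map, val_eq]
  exact congrArg (· • _) (ores_refl w)

lemma val_can (a : Z ⟶ Y') : val (Fam.can a) = one ⊤ := by
  rw [val_eq, Fam.can_map]
  change ofFun (a.app _ 1) = one _
  rw [map_one]
  rfl

end val

section smulUnit

variable {G : Z ⟶ Y} {L : Y.Modules} {M : Z.Modules}

lemma sim_smulUnit {G₁ : Z ⟶ Y} {F : Fam G L M} {F' : Fam G₁ L M} (h : Sim F F') {w w' : Γ(Z, ⊤)}
    (hw : IsUnit w) (hw' : IsUnit w') (hww : w = w') :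
    Sim (Fam.smulUnit hw F) (Fam.smulUnit hw' F') := by
  subst hww
  obtain ⟨rfl, h⟩ := h
  rw [Fam.cast_rfl] at h
  rw [h]

lemma smulUnit_comp {g : Z' ⟶ Z} {M' : Z'.Modules} {w : Γ(Z, ⊤)} (hw : IsUnit w) (F : Fam G L M)
    (κ : Fam g M M') : (Fam.smulUnit hw F).comp κ =
      Fam.smulUnit (hw.map g.appTop.hom) (F.comp κ) := by
  refine Fam.ext' fun U s ↦ ?_
  rw [Fam.comp_map, Fam.smulUnit_map, κ.smul, Fam.smulUnit_map, Fam.comp_map, app_ores]
  rfl

lemma smulUnit_smulUnit {w w' : Γ(Z, ⊤)} (hw : IsUnit w) (hw' : IsUnit w') (F : Fam G L M) :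
    Fam.smulUnit hw (Fam.smulUnit hw' F) = Fam.smulUnit (hw.mul hw') F := by
  refine Fam.ext' fun U s ↦ ?_
  rw [Fam.smulUnit_map, Fam.smulUnit_map, Fam.smulUnit_map, map_mul, mul_smul]

lemma smulUnit_congr {w w' : Γ(Z, ⊤)} (hw : IsUnit w) (hw' : IsUnit w') (h : w = w')
    (F : Fam G L M) : Fam.smulUnit hw F = Fam.smulUnit hw' F := by
  subst h
  rfl

lemma comp_can_can {T T' T'' : Scheme.{u}} {G : T ⟶ Y} {L : Y.Modules}
    (F : Fam G L (Coh.structureModule T)) (g : T' ⟶ T) (g' : T'' ⟶ T') {h : T'' ⟶ T}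
    (hh : g' ≫ g = h) : Sim ((F.comp (Fam.can g)).comp (Fam.can g')) (F.comp (Fam.can h)) := by
  subst hh
  exact Sim.refl _

end smulUnit

/-! ### Cocycles -/

variable (p : Y' ⟶ Y)

variable {p} in
/-- The value of a unit on `Y' ×_Y Y'` at a pair of points. -/
noncomputable def vat (v : Γ(pullback p p, ⊤)ˣ) (a b : Z ⟶ Y') (w : a ≫ p = b ≫ p) : Γ(Z, ⊤)ˣ :=
  Units.map (pullback.lift a b w).appTop.hom.toMonoidHom v

variable {p} in
lemma vat_mul (v v' : Γ(pullback p p, ⊤)ˣ) (a b : Z ⟶ Y') (w : a ≫ p = b ≫ p) :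
    vat (v * v') a b w = vat v a b w * vat v' a b w := map_mul _ _ _

variable {p} in
lemma vat_one (a b : Z ⟶ Y') (w : a ≫ p = b ≫ p) : vat (1 : Γ(pullback p p, ⊤)ˣ) a b w = 1 :=
  map_one _

variable {p} in
lemma vat_inv (v : Γ(pullback p p, ⊤)ˣ) (a b : Z ⟶ Y') (w : a ≫ p = b ≫ p) :
    vat v⁻¹ a b w = (vat v a b w)⁻¹ := map_inv _ _

variable {p} in
lemma vat_pull (v : Γ(pullback p p, ⊤)ˣ) (g : Z' ⟶ Z) (a b : Z ⟶ Y') (w : a ≫ p = b ≫ p)
    {a' b' : Z' ⟶ Y'} (ha : g ≫ a = a') (hb : g ≫ b = b') (w' : a' ≫ p = b' ≫ p) :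
    Units.map g.appTop.hom.toMonoidHom (vat v a b w) = vat v a' b' w' := by
  subst ha hb
  have h1 : pullback.lift (g ≫ a) (g ≫ b) w' = g ≫ pullback.lift a b w := by
    apply pullback.hom_ext <;> simp
  ext
  simp only [vat, h1, Scheme.Hom.comp_appTop]
  rfl

variable {p} in
lemma vat_fst_snd (v : Γ(pullback p p, ⊤)ˣ) :
    vat v (pullback.fst p p) (pullback.snd p p) pullback.condition = v := by
  have h1 : pullback.lift (pullback.fst p p) (pullback.snd p p) pullback.condition = 𝟙 _ := by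
    apply pullback.hom_ext <;> simp
  ext
  simp only [vat, h1]
  simp

/-- Unit cocycles. -/
noncomputable def coc : Subgroup Γ(pullback p p, ⊤)ˣ where
  carrier := {v | ∀ (Z : Scheme.{u}) (a b c : Z ⟶ Y') (w : a ≫ p = b ≫ p) (w' : b ≫ p = c ≫ p),
    vat v a b w * vat v b c w' = vat v a c (w.trans w')}
  mul_mem' := by
    intro v v' h h' Z a b c w w'
    rw [vat_mul, vat_mul, vat_mul, mul_mul_mul_comm, h Z a b c w w', h' Z a b c w w']
  one_mem' := by
    intro Z a b c w w'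
    rw [vat_one, vat_one, vat_one, mul_one]
  inv_mem' := by
    intro v h Z a b c w w'
    rw [vat_inv, vat_inv, vat_inv, ← h Z a b c w w', mul_inv]

variable {p}

lemma mem_coc {v : Γ(pullback p p, ⊤)ˣ} : v ∈ coc p ↔
    ∀ (Z : Scheme.{u}) (a b c : Z ⟶ Y') (w : a ≫ p = b ≫ p) (w' : b ≫ p = c ≫ p),
      vat v a b w * vat v b c w' = vat v a c (w.trans w') := Iff.rfl

lemma vat_self {v : Γ(pullback p p, ⊤)ˣ} (hv : v ∈ coc p) (a : Z ⟶ Y') : vat v a a rfl = 1 :=
  mul_eq_left.1 (hv Z a a a rfl rfl)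

variable (p) in
/-- `c` has a representative with a trivialisation over `Y'` with transition unit `v`. -/
def Rep (v : Γ(pullback p p, ⊤)ˣ) (c : Pic Y) : Prop :=
  ∃ (L : Y.Modules) (hL : PicF.IsInvertible L) (θ : Fam p L (Coh.structureModule Y')),
    c = mk L hL ∧ Sim (θ.comp (Fam.can (pullback.fst p p)))
      (Fam.smulUnit v.isUnit (θ.comp (Fam.can (pullback.snd p p))))

/-- The relation at all pairs of points. -/
lemma sim_of_sim {L : Y.Modules} {θ : Fam p L (Coh.structureModule Y')}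
    {v : Γ(pullback p p, ⊤)ˣ} (h : Sim (θ.comp (Fam.can (pullback.fst p p)))
      (Fam.smulUnit v.isUnit (θ.comp (Fam.can (pullback.snd p p))))) (a b : Z ⟶ Y')
    (w : a ≫ p = b ≫ p) :
    Sim (θ.comp (Fam.can a)) (Fam.smulUnit (vat v a b w).isUnit (θ.comp (Fam.can b))) := by
  have h1 := h.comp_left (Fam.can (pullback.lift a b w))
  have h2 := comp_can_can θ (pullback.fst p p) (pullback.lift a b w) (pullback.lift_fst a b w)
  have h3 := comp_can_can θ (pullback.snd p p) (pullback.lift a b w) (pullback.lift_snd a b w)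
  rw [smulUnit_comp] at h1
  exact (h2.symm.trans h1).trans (sim_smulUnit h3 _ _ rfl)

/-- Units are determined by their action. -/
lemma unit_eq_of_sim {G G₁ : Z ⟶ Y} {L : Y.Modules} (hL : PicF.IsInvertible L) {M : Z.Modules}
    {F : Fam G L M} {F' : Fam G₁ L M} (hF : Sim F F') {w w' : Γ(Z, ⊤)} (hw : IsUnit w)
    (hw' : IsUnit w') (h : Sim (Fam.smulUnit hw F) (Fam.smulUnit hw' F')) : w = w' := by
  obtain ⟨rfl, h1⟩ := hF
  rw [Fam.cast_rfl] at h1
  subst h1
  exact Fam.eq_of_smulUnit_eq hL F hw hw' h.eq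

/-- A class killed by `p` comes from a cocycle. -/
theorem exists_of_pull_eq_one {c : Pic Y} (hc : pull p c = 1) : ∃ v ∈ coc p, Rep p v c := by
  obtain ⟨L, hL, rfl⟩ := exists_mk c
  rw [pull_mk, mk_eq_one_iff] at hc
  obtain ⟨e⟩ := hc
  let θ : Fam p L (Coh.structureModule Y') := Fam.ofIso e
  have h0 : (pullback.snd p p) ≫ p = pullback.fst p p ≫ p := pullback.condition.symm
  obtain ⟨v, hv, h1⟩ := Fam.exists_unit hL ((θ.comp (Fam.can (pullback.snd p p))).cast h0)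
    (θ.comp (Fam.can (pullback.fst p p)))
  have h2 : Sim (θ.comp (Fam.can (pullback.fst p p)))
      (Fam.smulUnit hv.unit.isUnit (θ.comp (Fam.can (pullback.snd p p)))) := by
    rw [h1]
    exact sim_smulUnit (Sim.cast_left h0) _ _ rfl
  refine ⟨hv.unit, ?_, L, hL, θ, rfl, h2⟩
  intro Z a b c w w'
  have hab := sim_of_sim h2 a b w
  have hbc := sim_of_sim h2 b c w'
  have hac := sim_of_sim h2 a c (w.trans w')
  have h3 := hab.trans (sim_smulUnit hbc (vat hv.unit a b w).isUnit (vat hv.unit a b w).isUnit rfl)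
  rw [smulUnit_smulUnit] at h3
  ext
  exact unit_eq_of_sim hL (Sim.refl (θ.comp (Fam.can c))) _ _ (h3.symm.trans hac)

/-- Functoriality. -/
theorem Rep.pull {Y₁ Y₁' : Scheme.{u}} {p₁ : Y₁' ⟶ Y₁} {h : Y₁ ⟶ Y} {h' : Y₁' ⟶ Y'}
    (w : h' ≫ p = p₁ ≫ h) {v : Γ(pullback p p, ⊤)ˣ} {c : Pic Y} (hv : Rep p v c)
    (w' : (pullback.fst p₁ p₁ ≫ h') ≫ p = (pullback.snd p₁ p₁ ≫ h') ≫ p) :
    Rep p₁ (vat v (pullback.fst p₁ p₁ ≫ h') (pullback.snd p₁ p₁ ≫ h') w') (pull h c) := by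
  obtain ⟨L, hL, θ, rfl, h1⟩ := hv
  obtain ⟨θ', hθ'⟩ := exists_fill_sim hL (can h L) (θ.comp (Fam.can h')) w.symm
  refine ⟨_, isInvertible_pullback h hL, θ', pull_mk h hL, ?_⟩
  have key : ∀ (q : pullback p₁ p₁ ⟶ Y₁'), Sim ((can h L).comp (θ'.comp (Fam.can q)))
      (θ.comp (Fam.can (q ≫ h'))) := by
    intro q
    have h2 := hθ'.comp_left (Fam.can q)
    exact h2.trans (comp_can_can θ h' q rfl)
  have h3 := sim_of_sim h1 (pullback.fst p₁ p₁ ≫ h') (pullback.snd p₁ p₁ ≫ h') w'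
  refine Sim.cancel hL (can h L) pullback.condition ?_
  refine ((key _).trans h3).trans ?_
  have h4 : (can h L).comp (Fam.smulUnit
      (vat v (pullback.fst p₁ p₁ ≫ h') (pullback.snd p₁ p₁ ≫ h') w').isUnit
        (θ'.comp (Fam.can (pullback.snd p₁ p₁)))) = Fam.smulUnit
      (vat v (pullback.fst p₁ p₁ ≫ h') (pullback.snd p₁ p₁ ≫ h') w').isUnit
        ((can h L).comp (θ'.comp (Fam.can (pullback.snd p₁ p₁)))) := rfl
  rw [h4]
  exact sim_smulUnit (key _).symm _ _ rfl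

/-- Change of the trivialisation. -/
theorem Rep.coboundary {v : Γ(pullback p p, ⊤)ˣ} {c : Pic Y} (hv : Rep p v c) (x : Γ(Y', ⊤)ˣ) :
    Rep p (v * (Units.map (pullback.fst p p).appTop.hom.toMonoidHom x *
      (Units.map (pullback.snd p p).appTop.hom.toMonoidHom x)⁻¹)) c := by
  obtain ⟨L, hL, θ, rfl, h1⟩ := hv
  refine ⟨L, hL, Fam.smulUnit x.isUnit θ, rfl, ?_⟩
  rw [smulUnit_comp, smulUnit_comp, smulUnit_smulUnit]
  refine Sim.trans (sim_smulUnit h1 _ (x.isUnit.map _) rfl) ?_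
  rw [smulUnit_smulUnit]
  refine Sim.of_eq (smulUnit_congr _ _ ?_ _)
  have h2 : ((Units.map (pullback.snd p p).appTop.hom.toMonoidHom x)⁻¹ : Γ(pullback p p, ⊤)ˣ).1 *
      (pullback.snd p p).appTop.hom x.1 = 1 :=
    Units.inv_mul (Units.map (pullback.snd p p).appTop.hom.toMonoidHom x)
  rw [Units.val_mul, Units.val_mul, mul_assoc, mul_assoc, h2, mul_one, mul_comm]
  rfl

theorem rep_one : Rep p 1 1 := by
  refine ⟨Coh.structureModule Y, isInvertible_structureModule, Fam.can p, one_def, ?_⟩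
  refine ⟨pullback.condition, val_inj ?_⟩
  have h1 : ∀ q : pullback p p ⟶ Y', val ((Fam.can p).comp (Fam.can q)) = one ⊤ := fun q ↦
    val_can (q ≫ p)
  rw [val_cast, val_smulUnit, h1, h1, Units.val_one, one_smul]

/-! ### Multiplicativity -/

section mul

/-- The product of two sections of the structure module. -/
noncomputable def mulS {U : Z.Opens} (s t : Γ(Coh.structureModule Z, U)) :
    Γ(Coh.structureModule Z, U) := ofFun (ofFun.symm s * ofFun.symm t)

lemma smul_mulS {U : Z.Opens} (a b : Γ(Z, U)) (s t : Γ(Coh.structureModule Z, U)) :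
    mulS (a • s) (b • t) = (a * b) • mulS s t :=
  mul_mul_mul_comm a (ofFun.symm s) b (ofFun.symm t)

lemma res_mulS {U V : Z.Opens} (h : V ≤ U) (s t : Γ(Coh.structureModule Z, U)) :
    res _ h (mulS s t) = mulS (res _ h s) (res _ h t) :=
  map_mul (ores h) (ofFun.symm s) (ofFun.symm t)

lemma can_mulS (g : Z' ⟶ Z) {U : Z.Opens} (s t : Γ(Coh.structureModule Z, U)) :
    (Fam.can g).map (mulS s t) = mulS ((Fam.can g).map s) ((Fam.can g).map t) :=
  map_mul (g.app U).hom (ofFun.symm s) (ofFun.symm t)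

lemma isGen_mulS {U : Z.Opens} {s t : Γ(Coh.structureModule Z, U)} (hs : IsGen s)
    (ht : IsGen t) : IsGen (mulS s t) := by
  obtain ⟨a, ha, rfl⟩ := (isGen_one U).exists_unit hs
  obtain ⟨b, hb, rfl⟩ := (isGen_one U).exists_unit ht
  rw [smul_mulS]
  have h1 : mulS (one U) (one U) = one U := by
    change ofFun ((1 : Γ(Z, U)) * 1) = one U
    rw [mul_one]
    rfl
  rw [h1]
  exact (isGen_one U).unit_smul (ha.mul hb)

/-- **Multiplicativity.** -/
theorem Rep.mul {v v' : Γ(pullback p p, ⊤)ˣ} {c c' : Pic Y} (h : Rep p v c) (h' : Rep p v' c') :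
    Rep p (v * v') (c * c') := by
  obtain ⟨L, hL, θ, rfl, h1⟩ := h
  obtain ⟨L', hL', θ', rfl, h1'⟩ := h'
  rw [mk_mul_mk]
  obtain ⟨U, e, hU, he⟩ := Fam.exists_gens hL
  obtain ⟨U', e', hU', he'⟩ := Fam.exists_gens hL'
  have hcov : ⨆ i : Y × Y, U i.1 ⊓ U' i.2 = ⊤ := by
    refine top_le_iff.1 fun y _ ↦ ?_
    obtain ⟨i, hi⟩ := Opens.mem_iSup.1 (show y ∈ ⨆ i, U i by rw [hU]; trivial)
    obtain ⟨j, hj⟩ := Opens.mem_iSup.1 (show y ∈ ⨆ i, U' i by rw [hU']; trivial)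
    exact Opens.mem_iSup.2 ⟨(i, j), hi, hj⟩
  have hE : ∀ i : Y × Y, IsGen (tmul (res L (inf_le_left : U i.1 ⊓ U' i.2 ≤ U i.1) (e i.1))
      (res L' (inf_le_right : U i.1 ⊓ U' i.2 ≤ U' i.2) (e' i.2))) := fun i ↦
    ((he i.1).res _).tmul ((he' i.2).res _)
  obtain ⟨Θ, hΘ⟩ := Fam.exists_of_gens (G := p) (L := CohB1.tensorMod L L')
    (L' := Coh.structureModule Y') hcov hE
    (fun i ↦ mulS (θ.map (res L (inf_le_left : U i.1 ⊓ U' i.2 ≤ U i.1) (e i.1)))
      (θ'.map (res L' (inf_le_right : U i.1 ⊓ U' i.2 ≤ U' i.2) (e' i.2))))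
    (fun i ↦ isGen_mulS (θ.gen ((he i.1).res _)) (θ'.gen ((he' i.2).res _)))
    (fun i j ↦ by
      obtain ⟨a, ha⟩ := exists_smul (he j.1)
        (inf_le_right.trans inf_le_left : (U i.1 ⊓ U' i.2) ⊓ (U j.1 ⊓ U' j.2) ≤ U j.1)
        (res L (inf_le_left.trans inf_le_left : (U i.1 ⊓ U' i.2) ⊓ (U j.1 ⊓ U' j.2) ≤ U i.1)
          (e i.1))
      obtain ⟨b, hb⟩ := exists_smul (he' j.2)
        (inf_le_right.trans inf_le_right : (U i.1 ⊓ U' i.2) ⊓ (U j.1 ⊓ U' j.2) ≤ U' j.2)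
        (res L' (inf_le_left.trans inf_le_right : (U i.1 ⊓ U' i.2) ⊓ (U j.1 ⊓ U' j.2) ≤ U' i.2)
          (e' i.2))
      refine ⟨a * b, ?_, ?_⟩
      · rw [res_tmul, res_tmul, res_res, res_res, res_res, res_res, ← ha, ← hb, smul_tmul,
          tmul_smul, mul_smul]
      · rw [res_mulS, res_mulS, ← θ.res, ← θ'.res, ← θ.res, ← θ'.res, res_res, res_res, res_res,
          res_res, ← ha, ← hb, θ.smul, θ'.smul, smul_mulS, map_mul]
        all_goals first | exact inf_le_right | exact inf_le_left)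
  refine ⟨_, _, Θ, rfl, Sim.of_gens hcov hE pullback.condition fun i ↦ ?_⟩
  have h2 := h1.map_eq (res L (inf_le_left : U i.1 ⊓ U' i.2 ≤ U i.1) (e i.1))
    (le_of_eq (by rw [pullback.condition]))
  have h2' := h1'.map_eq (res L' (inf_le_right : U i.1 ⊓ U' i.2 ≤ U' i.2) (e' i.2))
    (le_of_eq (by rw [pullback.condition]))
  rw [Fam.comp_map, Fam.smulUnit_map, Fam.comp_map] at h2 h2'
  rw [Fam.comp_map, Fam.smulUnit_map, Fam.comp_map, hΘ, can_mulS, can_mulS, res_mulS, h2, h2',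
    smul_mulS, ← map_mul, Units.val_mul]

end mul

/-! ### Effectivity and uniqueness -/

section fpqc

variable (hp : Presieve.ofArrows (fun _ : PUnit.{u + 1} ↦ Y') (fun _ ↦ p) ∈
  Scheme.fpqcPrecoverage Y)

/-- The gluing data attached to a cocycle. -/
noncomputable def glue {v : Γ(pullback p p, ⊤)ˣ} (hv : v ∈ coc p) :
    Glue (fun _ : PUnit.{u + 1} ↦ p) (fun _ ↦ Coh.structureModule Y') where
  rel a b w _ α β := val β = (vat v a b w).1 • val α
  ex a b w _ α := exists_val b ((isGen_val α).unit_smul (vat v a b w).isUnit)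
  uniq h h' := val_inj (h.trans h'.symm)
  refl a _ α := by rw [vat_self hv, Units.val_one, one_smul]
  trans w w' _ _ _ _ h h' := by
    rw [h', h, smul_smul, ← hv _ _ _ _ w w', Units.val_mul, mul_comm]
  comp w _ _ _ h g _ κ a' b' ha hb w' := by
    rw [val_cast, val_cast, val_comp, val_comp, h, Fam.on_smul, ← vat_pull v g _ _ w ha hb w',
      fn_apply]
    exact congrArg (· • _) (ores_refl _)

include hp

/-- **Cocycles are effective.** -/
theorem exists_rep {v : Γ(pullback p p, ⊤)ˣ} (hv : v ∈ coc p) : ∃ c, Rep p v c := by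
  obtain ⟨M, hM, θ, h⟩ := (glue hv).exists_desc (fun _ ↦ isInvertible_structureModule) hp
  refine ⟨mk M hM, M, hM, θ ⟨⟩, rfl, ?_⟩
  have h1 := h (i := ⟨⟩) (j := ⟨⟩) (pullback.fst p p) (pullback.snd p p) pullback.condition
    (Fam.can (pullback.fst p p)) (Fam.smulUnit v.isUnit (Fam.can (pullback.snd p p))) (by
      change val _ = _
      rw [val_smulUnit, val_can, val_can, vat_fst_snd])
  exact ⟨pullback.condition, h1⟩

/-- **Uniqueness of the class attached to a cocycle.** -/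
theorem Rep.unique {v : Γ(pullback p p, ⊤)ˣ} {c c' : Pic Y} (h : Rep p v c) (h' : Rep p v c') :
    c = c' := by
  obtain ⟨L, hL, θ, rfl, h1⟩ := h
  obtain ⟨L', hL', θ', rfl, h1'⟩ := h'
  have h2 : Sim (θ'.comp (Fam.can (pullback.fst p p)))
    ((θ'.comp (Fam.smulUnit v.isUnit (Fam.can (pullback.snd p p))))) := h1'
  have h3 : Sim (θ.comp (Fam.can (pullback.fst p p)))
    ((θ.comp (Fam.smulUnit v.isUnit (Fam.can (pullback.snd p p))))) := h1
  obtain ⟨φ, hφ⟩ := exists_fam_overlap (N := L') (L := L) (σ := 𝟙 Y) hL' hp (fun _ ↦ θ')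
    (P := fun _ _ ↦ pullback p p) (q₁ := fun _ _ ↦ pullback.fst p p)
    (q₂ := fun _ _ ↦ pullback.snd p p) (fun _ _ ↦ IsPullback.of_hasPullback p p)
    (N'' := fun _ _ ↦ Coh.structureModule _) (fun _ _ ↦ Fam.can _)
    (fun _ _ ↦ Fam.smulUnit v.isUnit (Fam.can _)) (fun _ _ ↦ h2)
    (fun _ ↦ θ.cast (Category.comp_id p).symm) (fun _ _ ↦ by
      refine ((Sim.cast_left _).comp_left _).trans (h3.trans ?_)
      exact (Sim.cast_right _).comp_left _)
  obtain ⟨e, -⟩ := Fam.exists_ofIso hL φ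
  exact ((pull_id (mk L hL)).symm.trans (pull_mk (𝟙 Y) hL)).trans (mk_congr e)

end fpqc

end K732.Coc
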