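import Groth.Agent.AbDual.K732.Coc

/-!
# More on unit cocycles

* `pull_eq_one_of_rep` : `Rep p v c → pull p c = 1`;
* `exists_coboundary` : two cocycles of the same class differ by a coboundary;
* `rep_iff_of_eq`, `Rep.inv`, `vat_coboundary`.
-/

set_option autoImplicit false
set_option backward.isDefEq.respectTransparency false

universe v u

open CategoryTheory CategoryTheory.Limits AlgebraicGeometry TopologicalSpace Opposite

namespace K732.CocX

open Groth.Agent.Fdesc Groth.Agent.Fdesc.LocGen Groth.Agent.Picfga.LineHom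
  Groth.Agent.Picfga.LineDescent Groth.Agent.Picfga.LineFam Groth.Agent.Pic13.H602.Rig
  Groth.Agent.Pic13.H602.FamDesc Groth.Agent.Grpsch.PicGrp K732.Coc

variable {Y Y' Z : Scheme.{u}} {p : Y' ⟶ Y}

theorem pull_eq_one_of_rep {v : Γ(pullback p p, ⊤)ˣ} {c : Pic Y} (h : Rep p v c) :
    pull p c = 1 := by
  obtain ⟨L, hL, θ, rfl, -⟩ := h
  rw [pull_mk, mk_eq_one_iff]
  obtain ⟨e, -⟩ := Fam.exists_ofIso hL θ
  exact ⟨e⟩

/-- The coboundary of a unit. -/
noncomputable def cob (p : Y' ⟶ Y) (x : Γ(Y', ⊤)ˣ) : Γ(pullback p p, ⊤)ˣ :=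
  Units.map (pullback.fst p p).appTop.hom.toMonoidHom x *
    (Units.map (pullback.snd p p).appTop.hom.toMonoidHom x)⁻¹

/-- Two cocycles of the same class differ by a coboundary. -/
theorem exists_coboundary {v v' : Γ(pullback p p, ⊤)ˣ} {c : Pic Y} (h : Rep p v c)
    (h' : Rep p v' c) : ∃ x : Γ(Y', ⊤)ˣ, v' = v * cob p x := by
  obtain ⟨L, hL, θ, hc, h1⟩ := h
  obtain ⟨L', hL', θ₀, hc', h1'⟩ := h'
  obtain ⟨e⟩ := (mk_eq_iff hL hL').1 (hc.symm.trans hc')
  -- transport to `L`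
  let ε : Fam (𝟙 Y) L L' := idFam e
  let θ' : Fam p L (Coh.structureModule Y') := (ε.comp θ₀).cast (Category.comp_id p)
  have h2 : Sim (θ'.comp (Fam.can (pullback.fst p p)))
      (Fam.smulUnit v'.isUnit (θ'.comp (Fam.can (pullback.snd p p)))) := by
    have h3 := h1'.comp_right ε
    have k1 : Sim (θ'.comp (Fam.can (pullback.fst p p)))
        (ε.comp (θ₀.comp (Fam.can (pullback.fst p p)))) :=
      (Sim.cast_left (Category.comp_id p)).comp_left (Fam.can (pullback.fst p p))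
    have k2 : Sim (θ'.comp (Fam.can (pullback.snd p p)))
        (ε.comp (θ₀.comp (Fam.can (pullback.snd p p)))) :=
      (Sim.cast_left (Category.comp_id p)).comp_left (Fam.can (pullback.snd p p))
    refine (k1.trans h3).trans ?_
    have h4 : ε.comp (Fam.smulUnit v'.isUnit (θ₀.comp (Fam.can (pullback.snd p p)))) =
      Fam.smulUnit v'.isUnit (ε.comp (θ₀.comp (Fam.can (pullback.snd p p)))) := rfl
    rw [h4]
    exact sim_smulUnit k2.symm _ _ rfl
  obtain ⟨x, hx, h3⟩ := Fam.exists_unit hL θ θ'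
  refine ⟨hx.unit, ?_⟩
  rw [h3, smulUnit_comp, smulUnit_comp, smulUnit_smulUnit] at h2
  -- `fst^*x • θ_fst ~ v' snd^* x • θ_snd` and `θ_fst ~ v • θ_snd`
  have h4 := (sim_smulUnit h1 (hx.map (pullback.fst p p).appTop.hom)
    (hx.map (pullback.fst p p).appTop.hom) rfl).symm.trans h2
  rw [smulUnit_smulUnit] at h4
  have h5 := unit_eq_of_sim hL (Sim.refl (θ.comp (Fam.can (pullback.snd p p)))) _ _ h4
  rw [cob, ← mul_assoc, eq_mul_inv_iff_mul_eq]
  ext
  rw [Units.val_mul, Units.val_mul, mul_comm v.1]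
  exact h5.symm

theorem rep_mul_cob {v : Γ(pullback p p, ⊤)ˣ} {c : Pic Y} (h : Rep p v c) (x : Γ(Y', ⊤)ˣ) :
    Rep p (v * cob p x) c := h.coboundary x

/-- Coboundaries of functions on the base are trivial. -/
theorem cob_base (x : Γ(Y, ⊤)ˣ) : cob p (Units.map p.appTop.hom.toMonoidHom x) = 1 := by
  rw [cob, mul_inv_eq_one]
  ext
  change (pullback.fst p p).appTop.hom (p.appTop.hom x.1) =
    (pullback.snd p p).appTop.hom (p.appTop.hom x.1)
  have h1 : ∀ q : pullback p p ⟶ Y', q.appTop.hom (p.appTop.hom x.1) =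
      (q ≫ p).appTop.hom x.1 := fun q ↦ by
    rw [Scheme.Hom.comp_appTop]
    rfl
  rw [h1, h1, pullback.condition]

end K732.CocX
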