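import Groth.Agent.AbDual.K732.Bidual

/-!
# Duals from universal classes, uniqueness of the dual

* `exists_isDualAV` : `ξ ∈ pz ⊓ rg` on `A ×_S At`, universal among rigidified `Pic⁰` classes and multiplicative,
  makes `At` a dual of `A` with Poincaré class `ξ`.
* `exists_iso` : two duals of `A` are isomorphic group schemes, compatibly with the classifying maps.
-/

set_option autoImplicit false
universe u

open CategoryTheory CategoryTheory.Limits MonoidalCategory CartesianMonoidalCategory MonObj GrpObj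
  AlgebraicGeometry

namespace K732.Constr

open Groth.Agent.Grpsch.PicGrp Groth.Agent.Fga.RigGrp K732.Cov K732.PicZero K732.RigSheaf K732.Dual

variable {S : Scheme.{u}} {A At : Over S} [GrpObj A] [GrpObj At]

/-- A universal rigidified `Pic⁰` class, multiplicative for the group law of `At`, exhibits `At` as the dual. -/
theorem exists_isDualAV (ξ : Pic (PicF.XT A.hom At)) (h1 : ξ ∈ pz A.hom At) (h2 : ξ ∈ rg A At)
    (h3 : ∀ (T : Over S) (c : Pic (PicF.XT A.hom T)), c ∈ pz A.hom T → c ∈ rg A T →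
      ∃! g : T ⟶ At, pull (PicF.XTmap A.hom g) ξ = c)
    (hmul : ∀ (T : Over S) (a b : T ⟶ At), pull (PicF.XTmap A.hom (a * b)) ξ =
      pull (PicF.XTmap A.hom a) ξ * pull (PicF.XTmap A.hom b) ξ) :
    ∃ φ : ∀ T : Over S, PicF.Cl (PicF.XT A.hom T) → (T ⟶ At),
      AbDual.IsDualAV Scheme.fppfPrecoverage A At φ ∧
      (∀ (T : Over S) (c : Pic (PicF.XT A.hom T)), c ∈ pz A.hom T →
        pull (PicF.XTmap A.hom (cm φ c)) ξ = nrm A T c) ∧ cm φ ξ = 𝟙 At := by
  classical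
  have key : ∀ (T : Over S) (c : PicF.Cl (PicF.XT A.hom T)), ∃ g : T ⟶ At,
      ∀ d ∈ pz A.hom T, toCl d = c → pull (PicF.XTmap A.hom g) ξ = nrm A T d := by
    intro T c
    by_cases hc : ∃ d ∈ pz A.hom T, toCl d = c
    · obtain ⟨d, hd, hdc⟩ := hc
      obtain ⟨g, hg, -⟩ := h3 T _ (norm_mem_pz hd) (norm_mem _ _ _ _ _)
      refine ⟨g, fun d' _ hdc' ↦ ?_⟩
      have : d' = d := toCl_injective (hdc'.trans hdc.symm)
      rw [this]
      exact hg
    · exact ⟨1, fun d hd hdc ↦ (hc ⟨d, hd, hdc⟩).elim⟩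
  choose φ hφ using key
  have hφ' : ∀ (T : Over S) (c : Pic (PicF.XT A.hom T)), c ∈ pz A.hom T →
      pull (PicF.XTmap A.hom (cm φ c)) ξ = nrm A T c := fun T c hc ↦ hφ T _ c hc rfl
  have hext : ∀ {T : Over S} {a b : T ⟶ At},
      pull (PicF.XTmap A.hom a) ξ = pull (PicF.XTmap A.hom b) ξ → a = b := fun {T a b} h ↦
    (h3 T _ (pull_XTmap_mem b h1) (pull_mem b h2)).unique h rfl
  refine ⟨φ, ⟨⟨?_, ?_, ?_⟩, ?_⟩, hφ', ?_⟩
  · intro T T' g c hc
    obtain ⟨d, hd, rfl⟩ := exists_pz hc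
    apply hext
    rw [← toCl_pull]
    refine (hφ' T' _ (pull_XTmap_mem g hd)).trans ?_
    rw [XTmap_comp, pull_comp]
    erw [hφ' T d hd, pull_norm]
  · intro T g
    refine ⟨_, (zar (T := T) (fun _ ↦ ⊤) (fun _ ↦ trivial)).mem_fppf, ?_⟩
    rintro U u ⟨i⟩
    refine ⟨toCl (pull (PicF.XTmap A.hom (AbDual.ovrHom T _ ≫ g)) ξ),
      isPicZeroCl_iff.2 (pull_XTmap_mem _ h1), ?_⟩
    apply hext
    refine (hφ' _ _ (pull_XTmap_mem _ h1)).trans ?_
    exact norm_of_mem _ _ _ (pull_mem _ h2)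
  · intro T c c' hc hc' h
    obtain ⟨d, hd, rfl⟩ := exists_pz hc
    obtain ⟨d', hd', rfl⟩ := exists_pz hc'
    have h4 : nrm A T d = nrm A T d' := by
      rw [← hφ' T d hd, ← hφ' T d' hd']
      exact congrArg (fun g ↦ pull (PicF.XTmap A.hom g) ξ) h
    have h5 : d / d' ∈ pz A.hom T := div_mem hd hd'
    have h6 : d / d' = pull (PicF.XTproj A.hom T)
        (pull (PicF.secT A.hom η[A].left (Over.w η[A]) T) (d / d')) := by
      have h7 : nrm A T (d / d') = 1 := by rw [map_div, h4, div_self']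
      rw [norm_apply, div_eq_one] at h7
      exact h7
    set n : Pic T.left := pull (PicF.secT A.hom η[A].left (Over.w η[A]) T) (d / d')
    choose U hU hn using fun t ↦ Groth.Agent.Picfga.PicBridge.exists_open_pull_eq_one n t
    refine ⟨_, (zar U hU).mem_fppf, ?_⟩
    rintro V v ⟨i⟩
    rw [← toCl_pull, ← toCl_pull]
    congr 1
    rw [← div_eq_one, ← map_div]
    refine (congrArg _ h6).trans ?_
    rw [← pull_comp, XTmap_XTproj, pull_comp]
    have h8 : pull (AbDual.ovrHom T ((zar U hU).j i).left).left n = 1 := hn i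
    exact (congrArg (pull (PicF.XTproj A.hom _)) h8).trans (map_one _)
  · intro T L M hL hM
    obtain ⟨d, hd, hdL⟩ := exists_pz hL
    obtain ⟨d', hd', hdM⟩ := exists_pz hM
    have hLi : PicF.IsInvertible L := by
      obtain ⟨L', h5, h6, -⟩ := hL
      obtain ⟨e⟩ := (cl_eq_iff _ _).1 h5
      exact Groth.Agent.Pic13.H138.AlgEquiv.isInvertible_of_iso e h6
    have hMi : PicF.IsInvertible M := by
      obtain ⟨L', h5, h6, -⟩ := hM
      obtain ⟨e⟩ := (cl_eq_iff _ _).1 h5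
      exact Groth.Agent.Pic13.H138.AlgEquiv.isInvertible_of_iso e h6
    have e1 : d = Groth.Agent.Grpsch.PicGrp.mk L hLi := toCl_injective hdL
    have e2 : d' = Groth.Agent.Grpsch.PicGrp.mk M hMi := toCl_injective hdM
    subst e1 e2
    apply hext
    refine (hφ' T _ (mul_mem hd hd')).trans ?_
    rw [hmul]
    erw [hφ' T _ hd, hφ' T _ hd']
    rw [map_mul]
  · apply hext
    rw [hφ' _ _ h1, XTmap_id, pull_id]
    exact norm_of_mem _ _ _ h2

section uniq

variable {φ : ∀ T : Over S, PicF.Cl (PicF.XT A.hom T) → (T ⟶ At)}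
  (hD : AbDual.IsDualAV Scheme.fppfPrecoverage A At φ)
  (hF : ∀ T : Over S, Function.Bijective (PicF.XTproj A.hom T).appTop)

include hD hF

/-- The Poincaré class is multiplicative. -/
theorem pull_mul_poinc {ξ : Pic (PicF.XT A.hom At)} (h1 : ξ ∈ pz A.hom At) (h2 : ξ ∈ rg A At)
    (h3 : cm φ ξ = 𝟙 At) {T : Over S} (a b : T ⟶ At) : pull (PicF.XTmap A.hom (a * b)) ξ =
      pull (PicF.XTmap A.hom a) ξ * pull (PicF.XTmap A.hom b) ξ := by
  have ha := pull_XTmap_mem a h1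
  have hb := pull_XTmap_mem b h1
  have h4 : cm φ (pull (PicF.XTmap A.hom a) ξ * pull (PicF.XTmap A.hom b) ξ) = a * b := by
    rw [cm_mul hD ha hb, cm_pull hD a h1, cm_pull hD b h1, h3, Category.comp_id, Category.comp_id]
  have h5 := eq_pull_poinc hD hF h1 h2 h3 (mul_mem ha hb) (mul_mem (pull_mem a h2) (pull_mem b h2))
  rw [h4] at h5
  exact h5.symm

variable {Bt : Over S} [GrpObj Bt] {ψ : ∀ T : Over S, PicF.Cl (PicF.XT A.hom T) → (T ⟶ Bt)}
  (hE : AbDual.IsDualAV Scheme.fppfPrecoverage A Bt ψ)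

include hE

/-- Two duals of `A` are isomorphic. -/
theorem exists_iso : ∃ u : At ≅ Bt, IsMonHom u.hom ∧
    ∀ (T : Over S) (c : Pic (PicF.XT A.hom T)), c ∈ pz A.hom T → cm ψ c = cm φ c ≫ u.hom := by
  obtain ⟨ξ, h1, h2, h3⟩ := exists_poinc hD hF
  obtain ⟨ξ', h1', h2', h3'⟩ := exists_poinc hE hF
  have e1 : ξ = pull (PicF.XTmap A.hom (cm ψ ξ)) ξ' := eq_pull_poinc hE hF h1' h2' h3' h1 h2
  have e2 : ξ' = pull (PicF.XTmap A.hom (cm φ ξ')) ξ := eq_pull_poinc hD hF h1 h2 h3 h1' h2'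
  have e3 : cm ψ ξ ≫ cm φ ξ' = 𝟙 At := by
    rw [← cm_pull hD _ h1', ← e1, h3]
  have e4 : cm φ ξ' ≫ cm ψ ξ = 𝟙 Bt := by
    rw [← cm_pull hE _ h1, ← e2, h3']
  have hm : ∀ {T : Over S} (a b : T ⟶ At), (a * b) ≫ cm ψ ξ = (a ≫ cm ψ ξ) * (b ≫ cm ψ ξ) := by
    intro T a b
    rw [← cm_pull hE _ h1, ← cm_pull hE _ h1, ← cm_pull hE _ h1,
      pull_mul_poinc hD hF h1 h2 h3, cm_mul hE (pull_XTmap_mem a h1) (pull_XTmap_mem b h1)]
  refine ⟨⟨cm ψ ξ, cm φ ξ', e3, e4⟩, ?_, ?_⟩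
  · exact K732.Bidual.isMonHom_of_mul _ fun _ a b ↦ hm a b
  · intro T c hc
    change cm ψ c = cm φ c ≫ cm ψ ξ
    rw [← cm_pull hE _ h1, ← eq_pull_poinc' hD hF h1 h2 h3 hc, cm_norm hE hc]

end uniq

end K732.Constr
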