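import Mathlib.AlgebraicGeometry.Sites.Fpqc
import Mathlib.AlgebraicGeometry.Morphisms.Flat
import Mathlib.AlgebraicGeometry.Morphisms.FinitePresentation
import Mathlib.CategoryTheory.Comma.Over.Basic

/-!
# Small fppf coverings of `S`-schemes

* `FCov T` : families `V i ⟶ T` (index type in `Type u`) of flat morphisms locally of finite presentation,
  jointly surjective, in `Over S`;
* `FCov.hom_ext`, `FCov.glue_hom` : morphisms of `S`-schemes out of `T` are fppf-local on `T`;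
* `exists_cov`, `single`, `bind`, `pull`, `zar`.
-/

set_option autoImplicit false
universe u

open CategoryTheory Limits AlgebraicGeometry Opposite

namespace K732.Cov

variable {S : Scheme.{u}}

/-- A small fppf covering of an `S`-scheme. -/
structure FCov (T : Over S) where
  /-- the index type -/
  ι : Type u
  /-- the members -/
  V : ι → Over S
  /-- the maps -/
  j : ∀ i, V i ⟶ T
  flat : ∀ i, Flat (j i).left
  lfp : ∀ i, LocallyOfFinitePresentation (j i).left
  covers : ∀ t : T.left, ∃ (i : ι) (y : (V i).left), (j i).left y = t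

attribute [instance] FCov.flat FCov.lfp

namespace FCov

variable {T : Over S} (𝒰 : FCov T)

lemma mem_fppf : Presieve.ofArrows (fun i ↦ (𝒰.V i).left) (fun i ↦ (𝒰.j i).left) ∈
    Scheme.fppfPrecoverage T.left := by
  rw [Scheme.fppfPrecoverage, Scheme.ofArrows_mem_precoverage_iff]
  exact ⟨fun t ↦ 𝒰.covers t, fun i ↦ ⟨𝒰.flat i, 𝒰.lfp i⟩⟩

lemma mem_fpqc : Presieve.ofArrows (fun i ↦ (𝒰.V i).left) (fun i ↦ (𝒰.j i).left) ∈
    Scheme.fpqcPrecoverage T.left :=
  Scheme.fppfPrecoverage_le_fpqcPrecoverage _ 𝒰.mem_fppf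

lemma isSheafFor (Y : Scheme.{u}) : (Presieve.ofArrows (fun i ↦ (𝒰.V i).left)
    (fun i ↦ (𝒰.j i).left)).IsSheafFor (yoneda.obj Y) := by
  have h1 : Sieve.generate (Presieve.ofArrows (fun i ↦ (𝒰.V i).left) (fun i ↦ (𝒰.j i).left)) ∈
      Scheme.fppfTopology T.left := Precoverage.generate_mem_toGrothendieck 𝒰.mem_fppf
  exact (GrothendieckTopology.Subcanonical.isSheaf_of_isRepresentable
      (J := Scheme.fppfTopology) (yoneda.obj Y)).isSheafFor _ h1

/-- Morphisms out of `T` are determined fppf-locally. -/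
lemma hom_ext {Y : Over S} {a b : T ⟶ Y} (h : ∀ i, 𝒰.j i ≫ a = 𝒰.j i ≫ b) : a = b := by
  ext1
  have h2 := (Presieve.isSheafFor_arrows_iff _ _).1 (𝒰.isSheafFor Y.left)
    (fun i ↦ (𝒰.j i).left ≫ a.left) (by
      intro i k Z gi gk hg
      change gi ≫ (𝒰.j i).left ≫ a.left = gk ≫ (𝒰.j k).left ≫ a.left
      rw [reassoc_of% hg])
  refine h2.unique (fun i ↦ rfl) (fun i ↦ ?_)
  change (𝒰.j i).left ≫ b.left = (𝒰.j i).left ≫ a.left
  rw [← Over.comp_left, ← Over.comp_left, h]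

/-- Morphisms out of `T` glue fppf-locally. -/
lemma glue_hom {Y : Over S} (h : ∀ i, 𝒰.V i ⟶ Y)
    (compat : ∀ (i k : 𝒰.ι) (W : Over S) (a : W ⟶ 𝒰.V i) (b : W ⟶ 𝒰.V k),
      a ≫ 𝒰.j i = b ≫ 𝒰.j k → a ≫ h i = b ≫ h k) :
    ∃ k : T ⟶ Y, ∀ i, 𝒰.j i ≫ k = h i := by
  obtain ⟨t, ht, -⟩ := (Presieve.isSheafFor_arrows_iff _ _).1 (𝒰.isSheafFor Y.left)
    (fun i ↦ (h i).left) (by
      intro i k Z gi gk hg
      change gi ≫ (h i).left = gk ≫ (h k).left
      have hg' : gi ≫ (𝒰.V i).hom = gk ≫ (𝒰.V k).hom := by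
        rw [← Over.w (𝒰.j i), ← Over.w (𝒰.j k), reassoc_of% hg]
      have h1 := compat i k (Over.mk (gi ≫ (𝒰.V i).hom)) (Over.homMk gi rfl)
        (Over.homMk gk hg'.symm) (by
          ext1
          exact hg)
      exact congrArg CommaMorphism.left h1)
  have ht' : ∀ i, (𝒰.j i).left ≫ t = (h i).left := ht
  have hw : t ≫ Y.hom = T.hom := by
    have h1 := (Presieve.isSheafFor_arrows_iff _ _).1 (𝒰.isSheafFor S)
      (fun i ↦ (𝒰.V i).hom) (by
        intro i k Z gi gk hg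
        change gi ≫ (𝒰.V i).hom = gk ≫ (𝒰.V k).hom
        rw [← Over.w (𝒰.j i), ← Over.w (𝒰.j k), reassoc_of% hg])
    refine h1.unique (fun i ↦ ?_) (fun i ↦ ?_)
    · change (𝒰.j i).left ≫ t ≫ Y.hom = (𝒰.V i).hom
      rw [← Category.assoc, ht', Over.w]
    · exact Over.w (𝒰.j i)
  exact ⟨Over.homMk t hw, fun i ↦ by ext1; exact ht' i⟩

end FCov

/-- The covering by one morphism. -/
def single {T U : Over S} (u : U ⟶ T) [hf : Flat u.left] [hl : LocallyOfFinitePresentation u.left]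
    [hs : Surjective u.left] : FCov T where
  ι := PUnit
  V _ := U
  j _ := u
  flat _ := hf
  lfp _ := hl
  covers t := ⟨⟨⟩, u.left.surjective t⟩

/-- A family of covers of the members. -/
def bind {T : Over S} (𝒰 : FCov T) (𝒱 : ∀ i, FCov (𝒰.V i)) : FCov T where
  ι := Σ i, (𝒱 i).ι
  V p := (𝒱 p.1).V p.2
  j p := (𝒱 p.1).j p.2 ≫ 𝒰.j p.1
  flat p := by rw [Over.comp_left]; infer_instance
  lfp p := by rw [Over.comp_left]; infer_instance
  covers t := by
    obtain ⟨i, y, rfl⟩ := 𝒰.covers t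
    obtain ⟨k, z, rfl⟩ := (𝒱 i).covers y
    exact ⟨⟨i, k⟩, z, rfl⟩

/-- Pull back of a covering. -/
noncomputable def pull {T T' : Over S} (𝒰 : FCov T) (g : T' ⟶ T) : FCov T' where
  ι := 𝒰.ι
  V i := Over.mk (pullback.fst g.left (𝒰.j i).left ≫ T'.hom)
  j i := Over.homMk (pullback.fst g.left (𝒰.j i).left) rfl
  flat i := inferInstanceAs (Flat (pullback.fst g.left (𝒰.j i).left))
  lfp i := inferInstanceAs (LocallyOfFinitePresentation (pullback.fst g.left (𝒰.j i).left))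
  covers t := by
    obtain ⟨i, y, hy⟩ := 𝒰.covers (g.left t)
    obtain ⟨z, hz, -⟩ := Scheme.Pullback.exists_preimage_pullback t y hy.symm
    exact ⟨i, z, hz⟩

/-- The projection of the pulled back covering. -/
noncomputable def pullSnd {T T' : Over S} (𝒰 : FCov T) (g : T' ⟶ T) (i : 𝒰.ι) :
    (pull 𝒰 g).V i ⟶ 𝒰.V i :=
  Over.homMk (pullback.snd g.left (𝒰.j i).left) (by
    change pullback.snd g.left (𝒰.j i).left ≫ (𝒰.V i).hom =
      pullback.fst g.left (𝒰.j i).left ≫ T'.hom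
    rw [← Over.w (𝒰.j i), ← pullback.condition_assoc, Over.w])

lemma pull_w {T T' : Over S} (𝒰 : FCov T) (g : T' ⟶ T) (i : 𝒰.ι) :
    (pull 𝒰 g).j i ≫ g = pullSnd 𝒰 g i ≫ 𝒰.j i := by
  ext1
  exact pullback.condition

/-- A small cover refining a covering presieve. -/
theorem exists_cov {T : Over S} {R : Presieve T.left} (hR : R ∈ Scheme.fppfPrecoverage T.left)
    (P : ∀ V : Over S, (V ⟶ T) → Prop)
    (hP : ∀ (U : Scheme.{u}) (u : U ⟶ T.left), R u →
      P (Over.mk (u ≫ T.hom)) (Over.homMk u rfl)) :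
    ∃ 𝒰 : FCov T, ∀ i, P (𝒰.V i) (𝒰.j i) := by
  have h1 : R ∈ (Scheme.precoverage (@Flat ⊓ @LocallyOfFinitePresentation)) T.left := hR
  rw [Scheme.precoverage] at h1
  obtain ⟨h2, h3⟩ := h1
  rw [Scheme.jointlySurjectivePrecoverage, Presieve.mem_comap_jointlySurjectivePrecoverage_iff] at h2
  have h4 : ∀ t : T.left, ∃ (U : Scheme.{u}) (u : U ⟶ T.left), R u ∧ ∃ y : U, u y = t := h2
  choose U u hu y hy using h4
  have h5 : ∀ t, (@Flat ⊓ @LocallyOfFinitePresentation : MorphismProperty Scheme.{u}) (u t) :=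
    fun t ↦ h3 (hu t)
  exact ⟨{ ι := T.left, V := fun t ↦ Over.mk (u t ≫ T.hom), j := fun t ↦ Over.homMk (u t) rfl,
           flat := fun t ↦ (h5 t).1, lfp := fun t ↦ (h5 t).2,
           covers := fun t ↦ ⟨t, y t, hy t⟩ }, fun t ↦ hP _ _ (hu t)⟩

/-- A Zariski covering by open neighbourhoods of all the points. -/
noncomputable def zar {T : Over S} (U : T.left → T.left.Opens) (hU : ∀ t, t ∈ U t) : FCov T where
  ι := T.left
  V t := Over.mk ((U t).ι ≫ T.hom)
  j t := Over.homMk (U t).ι rfl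
  flat t := inferInstanceAs (Flat (U t).ι)
  lfp t := inferInstanceAs (LocallyOfFinitePresentation (U t).ι)
  covers t := ⟨t, ⟨t, hU t⟩, rfl⟩

end K732.Cov
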