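import Groth.Agent.S1490
import Groth.Agent.Grpsch.PicGrp
import Mathlib.CategoryTheory.Monoidal.Cartesian.Over
import Mathlib.CategoryTheory.Monoidal.Cartesian.Grp

/-!
# The cube principle in the language of points

`A`, `B` abelian schemes over `S` (proper, flat, locally of finite presentation, geometrically integral fibres),
`Z` connected over `S`, `M` a class on `(A ⊗ B) ⊗ Z`.

* `cube_conn` : if `M(1, b, c) = 1`, `M(a, 1, c) = 1` for all points and `M(a, b, c) = 1` for all `c` through the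
  residue field of one point `z`, then `M = 1`;
* `fromSpecResidueField_section`.
-/

set_option autoImplicit false
universe u

open CategoryTheory Limits MonoidalCategory CartesianMonoidalCategory AlgebraicGeometry
open scoped MonObj

namespace K732.Cube

open Groth.Agent.Grpsch.PicGrp

/-- The residue field point at the image of a section factors through the section. -/
theorem fromSpecResidueField_section {C S : Scheme.{u}} (p : C ⟶ S) (e : S ⟶ C) (he : e ≫ p = 𝟙 S)
    (s : S) : C.fromSpecResidueField (e s) = C.fromSpecResidueField (e s) ≫ p ≫ e := by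
  have h0 : IsOpenImmersion (e ≫ p) := by rw [he]; infer_instance
  have h1 : IsIso (p.residueFieldMap (e s) ≫ e.residueFieldMap s) :=
    (Scheme.residueFieldMap_comp e p s) ▸ (inferInstance : IsIso ((e ≫ p).residueFieldMap s))
  have h2 : Function.Surjective (e.residueFieldMap s).hom := by
    have h3 := (ConcreteCategory.bijective_of_isIso (p.residueFieldMap (e s) ≫ e.residueFieldMap s)).2
    intro y
    obtain ⟨x, hx⟩ := h3 y
    exact ⟨(p.residueFieldMap (e s)).hom x, hx⟩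
  have h4 : IsIso (e.residueFieldMap s) := by
    rw [ConcreteCategory.isIso_iff_bijective]
    exact ⟨RingHom.injective _, h2⟩
  have h5 := e.SpecMap_residueFieldMap_fromSpecResidueField s
  have h6 : C.fromSpecResidueField (e s) =
      inv (Spec.map (e.residueFieldMap s)) ≫ S.fromSpecResidueField s ≫ e := by
    rw [← h5, IsIso.inv_hom_id_assoc]
  rw [h6]
  simp only [Category.assoc]
  rw [reassoc_of% he]

variable {S : Scheme.{u}}

theorem map_fst_comp {C : Type*} [Category C] [HasPullbacks C] {W X Y Z S T V : C} (f₁ : W ⟶ S)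
    (f₂ : X ⟶ S) (g₁ : Y ⟶ T) (g₂ : Z ⟶ T) (i₁ : W ⟶ Y) (i₂ : X ⟶ Z) (i₃ : S ⟶ T)
    (eq₁ : f₁ ≫ i₃ = i₁ ≫ g₁) (eq₂ : f₂ ≫ i₃ = i₂ ≫ g₂) (q : Y ⟶ V) :
    pullback.map f₁ f₂ g₁ g₂ i₁ i₂ i₃ eq₁ eq₂ ≫ pullback.fst g₁ g₂ ≫ q =
      pullback.fst f₁ f₂ ≫ i₁ ≫ q := by
  rw [pullback.map, ← Category.assoc, pullback.lift_fst, Category.assoc]

/-- A morphism whose underlying morphism factors through the unit section is the unit. -/
theorem eq_one_of_left {A : Over S} [GrpObj A] {T : Over S} (g : T ⟶ A)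
    (h : g.left = T.hom ≫ (η : 𝟙_ (Over S) ⟶ A).left) : g = 1 := by
  have h1 : (1 : T ⟶ A) = toUnit T ≫ η[A] := rfl
  rw [h1]
  ext1
  rw [h]
  rfl

/-- **The cube principle**, `Z` connected. -/
theorem cube_conn (A B : Over S) [GrpObj A] [GrpObj B] [IsProper A.hom] [Flat A.hom]
    [LocallyOfFinitePresentation A.hom] [GeometricallyIntegral A.hom] [IsProper B.hom] [Flat B.hom]
    [LocallyOfFinitePresentation B.hom] [GeometricallyIntegral B.hom] (Z : Over S)
    [ConnectedSpace Z.left] (M : Pic ((A ⊗ B) ⊗ Z).left)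
    (h1 : ∀ (W : Over S) (b : W ⟶ B) (c : W ⟶ Z), pull (lift (lift (1 : W ⟶ A) b) c).left M = 1)
    (h2 : ∀ (W : Over S) (a : W ⟶ A) (c : W ⟶ Z), pull (lift (lift a (1 : W ⟶ B)) c).left M = 1)
    (z : Z.left) (h3 : ∀ (W : Over S) (a : W ⟶ A) (b : W ⟶ B) (c : W ⟶ Z)
      (q : W.left ⟶ Spec (Z.left.residueField z)), c.left = q ≫ Z.left.fromSpecResidueField z →
      pull (lift (lift a b) c).left M = 1) : M = 1 := by
  obtain ⟨L, hL, hLM⟩ := exists_mk M
  subst hLM
  rw [mk_eq_one_iff hL]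
  -- reduction to points
  have key : ∀ (W : Scheme.{u}) (φ : W ⟶ pullback (pullback.fst A.hom B.hom ≫ A.hom) Z.hom),
      ((φ ≫ pullback.fst (pullback.fst A.hom B.hom ≫ A.hom) Z.hom ≫ pullback.fst A.hom B.hom =
          φ ≫ pullback.fst (pullback.fst A.hom B.hom ≫ A.hom) Z.hom ≫
            pullback.fst A.hom B.hom ≫ A.hom ≫ (η : 𝟙_ (Over S) ⟶ A).left) ∨
        (φ ≫ pullback.fst (pullback.fst A.hom B.hom ≫ A.hom) Z.hom ≫ pullback.snd A.hom B.hom =
          φ ≫ pullback.fst (pullback.fst A.hom B.hom ≫ A.hom) Z.hom ≫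
            pullback.fst A.hom B.hom ≫ A.hom ≫ (η : 𝟙_ (Over S) ⟶ B).left) ∨
        (∃ q : W ⟶ Spec (Z.left.residueField z),
          φ ≫ pullback.snd (pullback.fst A.hom B.hom ≫ A.hom) Z.hom =
            q ≫ Z.left.fromSpecResidueField z)) →
      Nonempty ((Scheme.Modules.pullback φ).obj L ≅ Coh.structureModule W) := by
    intro W φ h
    rw [← mk_eq_one_iff (Groth.Agent.Fdesc.LocGen.isInvertible_pullback φ hL), ← pull_mk φ hL]
    let W' : Over S := Over.mk (φ ≫ ((A ⊗ B) ⊗ Z).hom)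
    let f : W' ⟶ (A ⊗ B) ⊗ Z := Over.homMk φ rfl
    have hf : f = lift (lift (f ≫ fst _ _ ≫ fst _ _) (f ≫ fst _ _ ≫ snd _ _)) (f ≫ snd _ _) := by
      ext1 <;> simp
      ext1 <;> simp
    change pull f.left (mk L hL) = 1
    rw [hf]
    rcases h with h | h | ⟨q, h⟩
    · have e1 : f ≫ fst (A ⊗ B) Z ≫ fst A B = 1 := eq_one_of_left _ (h.trans (by
        change _ = (φ ≫ (pullback.fst (pullback.fst A.hom B.hom ≫ A.hom) Z.hom ≫
          pullback.fst A.hom B.hom ≫ A.hom)) ≫ _
        simp only [Category.assoc]))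
      rw [e1]
      exact h1 _ _ _
    · have e1 : f ≫ fst (A ⊗ B) Z ≫ snd A B = 1 := eq_one_of_left _ (h.trans (by
        change _ = (φ ≫ (pullback.fst (pullback.fst A.hom B.hom ≫ A.hom) Z.hom ≫
          pullback.fst A.hom B.hom ≫ A.hom)) ≫ _
        simp only [Category.assoc]))
      rw [e1]
      exact h2 _ _ _
    · exact h3 _ _ _ _ q h
  have hA : (η : 𝟙_ (Over S) ⟶ A).left ≫ A.hom = 𝟙 S := Over.w η[A]
  have hB : (η : 𝟙_ (Over S) ⟶ B).left ≫ B.hom = 𝟙 S := Over.w η[B]
  refine Groth.Agent.S1490.result A.hom B.hom Z.hom η[A].left hA η[B].left hB L hL ?_ ?_ ?_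
  · refine key _ _ (Or.inl ((map_fst_comp _ _ _ _ _ _ _ _ _ _).trans
      (Eq.trans ?_ (map_fst_comp _ _ _ _ _ _ _ _ _ _).symm)))
    congr 1
    rw [pullback.lift_fst, pullback.lift_fst_assoc, Category.assoc, reassoc_of% hA]
    exact congrArg (B.hom ≫ ·) (Category.id_comp _).symm
  · refine key _ _ (Or.inr (Or.inl ((map_fst_comp _ _ _ _ _ _ _ _ _ _).trans
      (Eq.trans ?_ (map_fst_comp _ _ _ _ _ _ _ _ _ _).symm))))
    congr 1
    rw [pullback.lift_snd, pullback.lift_fst_assoc, Category.id_comp]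
  · refine ⟨z, key _ _ (Or.inr (Or.inr ⟨_, Scheme.Hom.fiber_fac _ z⟩))⟩

end K732.Cube
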