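import Groth.Agent.Sga7.H780.RigPicSh
import Groth.Agent.AbDual.K732.Cov

/-!
# Rigidified classes of invertible modules form an fppf sheaf

`f : X ⟶ S` with a section `σ`, `Γ(T, O) = Γ(X_T, O)` for all `T` (`hF`).

* `rg_ext` : rigidified classes on `X_T` are determined fppf-locally on `T`;
* `rg_glue` : they glue fppf-locally on `T`;
* `norm_eq_one_of_local` : a class on `X_T` which is fppf-locally on `T` from the base normalises to `1`.
-/

set_option autoImplicit false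
set_option backward.isDefEq.respectTransparency false
universe u

open CategoryTheory CategoryTheory.Limits AlgebraicGeometry Opposite

namespace K732.RigSheaf

open Groth.Agent.Grpsch.PicGrp Groth.Agent.Fga.RigGrp Groth.Agent.Pic13.H602.Rig
open Groth.Agent.Sga7.H780.RigPicSh K732.Cov

variable {X S : Scheme.{u}} {f : X ⟶ S} {σ : S ⟶ X}

lemma clmap {T T' : Over S} (g : T' ⟶ T) (c : (rigF f σ).obj (op T)) :
    RCl.cl (σ := wT f σ T') ((rigF f σ).map g.op c) =
      PicF.pullCl (PicF.XTmap f g) (RCl.cl (σ := wT f σ T) c) := RCl.cl_pull _ _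

variable (hσ : σ ≫ f = 𝟙 S)
  (hF : ∀ T : Over S, Function.Bijective (PicF.XTproj f T).appTop)

include hF

/-- Rigidified classes are determined fppf-locally on the base. -/
theorem rg_ext {T : Over S} (𝒰 : FCov T) {c d : Pic (PicF.XT f T)} (hc : c ∈ Rg f σ hσ T)
    (hd : d ∈ Rg f σ hσ T)
    (h : ∀ i, pull (PicF.XTmap f (𝒰.j i)) c = pull (PicF.XTmap f (𝒰.j i)) d) : c = d := by
  obtain ⟨x, hx⟩ := exists_rcl hσ hc
  obtain ⟨y, hy⟩ := exists_rcl hσ hd
  apply toCl_injective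
  rw [← hx, ← hy]
  refine congrArg RCl.cl ?_
  have h1 := isFpqcSheaf_rigF (inj hσ hF) T 𝒰.V 𝒰.j 𝒰.mem_fpqc
    (fun i ↦ (rigF f σ).map (𝒰.j i).op x) (by
      intro i k U a b hab
      rw [← Groth.Agent.Picfga.OverRep.map_comp_apply (G := rigF f σ), hab,
        Groth.Agent.Picfga.OverRep.map_comp_apply (G := rigF f σ)])
  refine h1.unique (fun i ↦ rfl) (fun i ↦ ?_)
  refine rcl_ext hσ hF ?_
  refine (clmap (𝒰.j i) y).trans (Eq.trans ?_ (clmap (𝒰.j i) x).symm)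
  rw [hx, hy, ← toCl_pull, ← toCl_pull, h]

/-- Rigidified classes glue fppf-locally on the base. -/
theorem rg_glue {T : Over S} (𝒰 : FCov T) (x : ∀ i, Pic (PicF.XT f (𝒰.V i)))
    (hx : ∀ i, x i ∈ Rg f σ hσ (𝒰.V i))
    (compat : ∀ (i k : 𝒰.ι) (W : Over S) (a : W ⟶ 𝒰.V i) (b : W ⟶ 𝒰.V k),
      a ≫ 𝒰.j i = b ≫ 𝒰.j k → pull (PicF.XTmap f a) (x i) = pull (PicF.XTmap f b) (x k)) :
    ∃ c ∈ Rg f σ hσ T, ∀ i, pull (PicF.XTmap f (𝒰.j i)) c = x i := by
  choose y hy using fun i ↦ exists_rcl hσ (hx i)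
  obtain ⟨z, hz, -⟩ := isFpqcSheaf_rigF (inj hσ hF) T 𝒰.V 𝒰.j 𝒰.mem_fpqc
    (fun i ↦ (y i : (rigF f σ).obj (op (𝒰.V i)))) (by
      intro i k U a b hab
      refine rcl_ext hσ hF ?_
      refine (clmap a (y i)).trans (Eq.trans ?_ (clmap b (y k)).symm)
      rw [hy, hy, ← toCl_pull, ← toCl_pull, compat i k U a b hab])
  obtain ⟨c, hc, hzc⟩ := exists_rg hσ z
  refine ⟨c, hc, fun i ↦ ?_⟩
  apply toCl_injective
  refine (toCl_pull _ _).trans ?_
  rw [← hzc, ← hy]
  exact (clmap (𝒰.j i) z).symm.trans (congrArg RCl.cl (hz i))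

/-- A class which is fppf-locally on the base pulled back from the base normalises to `1`. -/
theorem norm_eq_one_of_local {T : Over S} (𝒰 : FCov T) (c : Pic (PicF.XT f T))
    (h : ∀ i, ∃ n, pull (PicF.XTmap f (𝒰.j i)) c = pull (PicF.XTproj f (𝒰.V i)) n) :
    norm f σ hσ T c = 1 := by
  refine rg_ext hσ hF 𝒰 (norm_mem f σ hσ T c) (one_mem _) fun i ↦ ?_
  obtain ⟨n, hn⟩ := h i
  rw [pull_norm, hn, norm_pull_XTproj, map_one]

end K732.RigSheaf
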