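import Groth.Agent.AbDual.K732.Cube
import Groth.Agent.AbDual.K732.RigSheaf
import Groth.Agent.Grpsch.CubePush
import Groth.Agent.Sga3C.LocConn
import Mathlib.AlgebraicGeometry.Geometrically.Connected

/-!
# The cube principle over a locally Noetherian base

`A`, `B` abelian schemes over a locally Noetherian scheme `S`, `C` a group scheme locally of finite type with
geometrically connected fibres, `M` a class on `(A ⊗ B) ⊗ C`.

* `bijective_XTproj` : `Γ(T, O) = Γ(A_T, O)`;
* `cube_section` : if `M(1, b, c) = 1`, `M(a, 1, c) = 1`, `M(a, b, 1) = 1` for all points, then `M = 1`.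
-/

set_option autoImplicit false
universe u

open CategoryTheory Limits MonoidalCategory CartesianMonoidalCategory AlgebraicGeometry
open scoped MonObj

namespace K732.CubeSec

open Groth.Agent.Grpsch.PicGrp Groth.Agent.Fga.RigGrp K732.Cov K732.RigSheaf K732.Cube

variable {S : Scheme.{u}}

/-- `Γ(T, O) = Γ(A_T, O)`. -/
theorem bijective_XTproj {X : Scheme.{u}} (f : X ⟶ S) [IsProper f] [Flat f]
    [LocallyOfFinitePresentation f] [GeometricallyIntegral f] (T : Over S) :
    Function.Bijective (PicF.XTproj f T).appTop := by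
  have h : Function.Bijective (pullback.snd f T.hom).appTop.hom :=
    Groth.Agent.Grpsch.CubeData.bijective_appTop (pullback.snd f T.hom)
  exact h

instance geomInt_tensor (A B : Over S) [Flat A.hom] [LocallyOfFinitePresentation A.hom]
    [GeometricallyIntegral A.hom] [Flat B.hom] [LocallyOfFinitePresentation B.hom]
    [GeometricallyIntegral B.hom] : GeometricallyIntegral (A ⊗ B).hom :=
  Groth.Agent.Grpsch.CubeData.geometricallyIntegral_comp (pullback.fst A.hom B.hom) A.hom

instance proper_tensor (A B : Over S) [IsProper A.hom] [IsProper B.hom] : IsProper (A ⊗ B).hom :=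
  inferInstanceAs (IsProper (pullback.fst A.hom B.hom ≫ A.hom))

instance flat_tensor (A B : Over S) [Flat A.hom] [Flat B.hom] : Flat (A ⊗ B).hom :=
  inferInstanceAs (Flat (pullback.fst A.hom B.hom ≫ A.hom))

instance lfp_tensor (A B : Over S) [LocallyOfFinitePresentation A.hom]
    [LocallyOfFinitePresentation B.hom] : LocallyOfFinitePresentation (A ⊗ B).hom :=
  inferInstanceAs (LocallyOfFinitePresentation (pullback.fst A.hom B.hom ≫ A.hom))

/-- The component of a point. -/
noncomputable def comp (C : Scheme.{u}) [IsLocallyNoetherian C] (z : C) : C.Opens :=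
  ⟨connectedComponent z, by
    have := Groth.Agent.Sga3C.LocConn.locallyConnectedSpace_of_isLocallyNoetherian C
    exact isOpen_connectedComponent⟩

lemma mem_comp (C : Scheme.{u}) [IsLocallyNoetherian C] (z : C) : z ∈ comp C z :=
  mem_connectedComponent

instance (C : Scheme.{u}) [IsLocallyNoetherian C] (z : C) : ConnectedSpace (comp C z) :=
  isConnected_iff_connectedSpace.1 isConnected_connectedComponent

lemma section_mem_comp {C : Over S} [IsLocallyNoetherian C.left] [GeometricallyConnected C.hom]
    (e : S ⟶ C.left) (he : e ≫ C.hom = 𝟙 S) (z : C.left) : e (C.hom z) ∈ comp C.left z := by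
  have h1 : _root_.IsConnected (C.hom ⁻¹' {C.hom z}) := C.hom.isConnected_preimage_singleton (C.hom z)
  have h2 : e (C.hom z) ∈ C.hom ⁻¹' {C.hom z} := by
    change C.hom (e (C.hom z)) = C.hom z
    rw [← Scheme.Hom.comp_apply, he]
    rfl
  exact h1.isPreconnected.subset_connectedComponent (show z ∈ C.hom ⁻¹' {C.hom z} from rfl) h2

/-- **The cube principle** over a locally Noetherian base. -/
theorem cube_section [IsLocallyNoetherian S] (A B C : Over S) [GrpObj A] [GrpObj B] [GrpObj C]
    [IsProper A.hom] [Flat A.hom] [LocallyOfFinitePresentation A.hom] [GeometricallyIntegral A.hom]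
    [IsProper B.hom] [Flat B.hom] [LocallyOfFinitePresentation B.hom] [GeometricallyIntegral B.hom]
    [LocallyOfFiniteType C.hom] [GeometricallyConnected C.hom] (M : Pic ((A ⊗ B) ⊗ C).left)
    (h1 : ∀ (W : Over S) (b : W ⟶ B) (c : W ⟶ C), pull (lift (lift (1 : W ⟶ A) b) c).left M = 1)
    (h2 : ∀ (W : Over S) (a : W ⟶ A) (c : W ⟶ C), pull (lift (lift a (1 : W ⟶ B)) c).left M = 1)
    (h3 : ∀ (W : Over S) (a : W ⟶ A) (b : W ⟶ B), pull (lift (lift a b) (1 : W ⟶ C)).left M = 1) :
    M = 1 := by
  have hN : IsLocallyNoetherian C.left := LocallyOfFiniteType.isLocallyNoetherian C.hom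
  have hF := bijective_XTproj (A ⊗ B).hom
  let σ : 𝟙_ (Over S) ⟶ A ⊗ B := lift 1 1
  have hσ : σ.left ≫ (A ⊗ B).hom = 𝟙 S := Over.w σ
  have hsec : ∀ T : Over S, PicF.secT (A ⊗ B).hom σ.left hσ T =
      (lift (lift (1 : T ⟶ A) (1 : T ⟶ B)) (𝟙 T)).left := by
    intro T
    have e1 : lift (lift (1 : T ⟶ A) (1 : T ⟶ B)) (𝟙 T) = lift (toUnit T ≫ σ) (𝟙 T) := by
      congr 1
      ext1 <;> simp [σ]
    rw [e1]
    apply pullback.hom_ext
    · rw [secT_fst]
      symm
      exact congrArg CommaMorphism.left (lift_fst (toUnit T ≫ σ) (𝟙 T))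
    · have e2 := secT_XTproj (A ⊗ B).hom σ.left hσ T
      refine e2.trans ?_
      symm
      exact congrArg CommaMorphism.left (lift_snd (toUnit T ≫ σ) (𝟙 T))
  have hM : M ∈ Rg (A ⊗ B).hom σ.left hσ C := by
    rw [mem_Rg, hsec]
    exact h1 C 1 (𝟙 C)
  refine rg_ext hσ hF (zar (fun z ↦ comp C.left z) (mem_comp C.left)) hM (one_mem _) fun z ↦ ?_
  rw [map_one]
  change C.left at z
  let Z : Over S := Over.mk ((comp C.left z).ι ≫ C.hom)
  let j : Z ⟶ C := Over.homMk (comp C.left z).ι rfl
  have hZ : ConnectedSpace Z.left := inferInstanceAs (ConnectedSpace (comp C.left z))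
  have hj : ∀ {W : Over S} (x : W ⟶ A ⊗ B) (c : W ⟶ Z),
      pull (lift x c).left (pull (PicF.XTmap (A ⊗ B).hom j) M) = pull (lift x (c ≫ j)).left M := by
    intro W x c
    refine (pull_comp (lift x c).left (PicF.XTmap (A ⊗ B).hom j) M).symm.trans ?_
    have e0 : (lift x c).left ≫ PicF.XTmap (A ⊗ B).hom j = (lift x (c ≫ j)).left := by
      apply pullback.hom_ext
      · rw [Category.assoc, XTmap_fst]
        exact (congrArg CommaMorphism.left (lift_fst x c)).trans
          (congrArg CommaMorphism.left (lift_fst x (c ≫ j))).symm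
      · rw [Category.assoc]
        have e3 := XTmap_XTproj (A ⊗ B).hom j
        refine (congrArg ((lift x c).left ≫ ·) e3).trans ?_
        rw [← Category.assoc]
        refine (congrArg (· ≫ j.left) (congrArg CommaMorphism.left (lift_snd x c))).trans ?_
        exact (congrArg CommaMorphism.left (lift_snd x (c ≫ j))).symm
    rw [e0]
  let e : S ⟶ C.left := (η : 𝟙_ (Over S) ⟶ C).left
  have he : e ≫ C.hom = 𝟙 S := Over.w η[C]
  let z' : Z.left := ⟨e (C.hom z), section_mem_comp e he z⟩
  have key : pull (PicF.XTmap (A ⊗ B).hom j) M = 1 := by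
    refine cube_conn A B Z _ (fun W b c ↦ ?_) (fun W a c ↦ ?_) z' (fun W a b c q hq ↦ ?_)
    · exact (hj _ _).trans (h1 _ _ _)
    · exact (hj _ _).trans (h2 _ _ _)
    refine (hj _ _).trans ?_
    have e4 : c ≫ j = 1 := by
      apply eq_one_of_left
      have e5 := (comp C.left z).ι.SpecMap_residueFieldMap_fromSpecResidueField z'
      have e6 : (c ≫ j).left = q ≫ Spec.map ((comp C.left z).ι.residueFieldMap z') ≫
          C.left.fromSpecResidueField (e (C.hom z)) := by
        rw [Over.comp_left, hq, Category.assoc]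
        exact congrArg (q ≫ ·) e5.symm
      have e7 := fromSpecResidueField_section C.hom e he (C.hom z)
      have e8 : (c ≫ j).left ≫ C.hom = W.hom := Over.w _
      have e9 : (c ≫ j).left = ((c ≫ j).left ≫ C.hom) ≫ e := by
        conv_rhs => rw [e6]
        rw [e6]
        simp only [Category.assoc]
        exact congrArg (fun t ↦ q ≫ Spec.map ((comp C.left z).ι.residueFieldMap z') ≫ t) e7
      rw [e9, e8]
    rw [e4]
    exact h3 _ _ _
  exact key

end K732.CubeSec
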