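import Groth.Agent.AbDual.K732.PicZero
import Groth.Agent.AbDual.K732.RigSheaf

/-!
# Points of the dual of a group scheme and rigidified `Pic⁰` classes

`hD : IsDualAV fppf A At φ`, `hF : Γ(T, O) = Γ(A_T, O)` for all `T`.

* `cm φ c : T ⟶ At` for `c : Pic A_T`;
* `cm_pull`, `cm_mul`, `cm_one`, `cm_base`, `cm_norm`, `cm_inv`, `cm_div`;
* `cm_inj`, `exists_cm` : rigidified `Pic⁰` classes on `A_T` correspond to morphisms `T ⟶ At`;
* `exists_poinc` : the Poincaré class.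
-/

set_option autoImplicit false
universe u

open CategoryTheory CategoryTheory.Limits MonoidalCategory CartesianMonoidalCategory MonObj GrpObj
  AlgebraicGeometry

namespace K732.Dual

open Groth.Agent.Grpsch.PicGrp Groth.Agent.Fga.RigGrp K732.Cov K732.PicZero K732.RigSheaf

variable {S : Scheme.{u}} {A At : Over S}

/-- The morphism attached to a class. -/
noncomputable def cm (φ : ∀ T : Over S, PicF.Cl (PicF.XT A.hom T) → (T ⟶ At)) {T : Over S}
    (c : Pic (PicF.XT A.hom T)) : T ⟶ At := φ T (toCl c)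

variable [GrpObj A] [GrpObj At]

/-- Classes on `A_T` rigidified along the unit section. -/
noncomputable abbrev rg (A : Over S) [GrpObj A] (T : Over S) : Subgroup (Pic (PicF.XT A.hom T)) :=
  Rg A.hom η[A].left (Over.w η[A]) T

/-- Normalisation along the unit section. -/
noncomputable abbrev nrm (A : Over S) [GrpObj A] (T : Over S) :
    Pic (PicF.XT A.hom T) →* Pic (PicF.XT A.hom T) := norm A.hom η[A].left (Over.w η[A]) T

variable {φ : ∀ T : Over S, PicF.Cl (PicF.XT A.hom T) → (T ⟶ At)}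
  (hD : AbDual.IsDualAV Scheme.fppfPrecoverage A At φ)

include hD

omit [GrpObj A] in
lemma cm_pull {T T' : Over S} (g : T' ⟶ T) {c : Pic (PicF.XT A.hom T)} (hc : c ∈ pz A.hom T) :
    cm φ (pull (PicF.XTmap A.hom g) c) = g ≫ cm φ c := by
  rw [cm, toCl_pull]
  exact hD.relPic.natural T T' g _ (isPicZeroCl_iff.2 hc)

omit [GrpObj A] in
lemma cm_mul {T : Over S} {c d : Pic (PicF.XT A.hom T)} (hc : c ∈ pz A.hom T)
    (hd : d ∈ pz A.hom T) : cm φ (c * d) = cm φ c * cm φ d := by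
  obtain ⟨L, hL, rfl⟩ := exists_mk c
  obtain ⟨M, hM, rfl⟩ := exists_mk d
  exact hD.mul T L M (isPicZeroCl_iff.2 hc) (isPicZeroCl_iff.2 hd)

omit [GrpObj A] in
lemma cm_one {T : Over S} : cm φ (1 : Pic (PicF.XT A.hom T)) = 1 := by
  have h := cm_mul hD (one_mem (pz A.hom T)) (one_mem (pz A.hom T))
  rw [_root_.one_mul] at h
  exact mul_eq_left.1 h.symm

omit [GrpObj A] in
lemma cm_inv {T : Over S} {c : Pic (PicF.XT A.hom T)} (hc : c ∈ pz A.hom T) :
    cm φ c⁻¹ = (cm φ c)⁻¹ := by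
  have h := cm_mul hD hc (inv_mem hc)
  rw [mul_inv_cancel, cm_one hD] at h
  exact eq_inv_of_mul_eq_one_right h.symm

omit [GrpObj A] in
lemma cm_div {T : Over S} {c d : Pic (PicF.XT A.hom T)} (hc : c ∈ pz A.hom T)
    (hd : d ∈ pz A.hom T) : cm φ (c / d) = cm φ c / cm φ d := by
  rw [div_eq_mul_inv, cm_mul hD hc (inv_mem hd), cm_inv hD hd, div_eq_mul_inv]

omit [GrpObj A] in
/-- Classes from the base give the unit point. -/
lemma cm_base {T : Over S} (n : Pic T.left) : cm φ (pull (PicF.XTproj A.hom T) n) = 1 := by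
  choose U hU hn using fun t ↦ Groth.Agent.Picfga.PicBridge.exists_open_pull_eq_one n t
  refine (zar U hU).hom_ext fun i ↦ ?_
  rw [← cm_pull hD _ (pull_XTproj_mem n), ← pull_comp, XTmap_XTproj, pull_comp,
    MonObj.comp_one]
  have h1 : pull ((zar U hU).j i).left n = 1 := hn i
  rw [h1, map_one, cm_one hD]

lemma cm_norm {T : Over S} {c : Pic (PicF.XT A.hom T)} (hc : c ∈ pz A.hom T) :
    cm φ (nrm A T c) = cm φ c := by
  rw [norm_apply, cm_div hD hc (pull_XTproj_mem _), cm_base hD, div_one]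

omit hD in
lemma norm_mem_pz {T : Over S} {c : Pic (PicF.XT A.hom T)} (hc : c ∈ pz A.hom T) :
    nrm A T c ∈ pz A.hom T := by
  rw [norm_apply]
  exact div_mem hc (pull_XTproj_mem _)

variable (hF : ∀ T : Over S, Function.Bijective (PicF.XTproj A.hom T).appTop)

include hF

/-- Rigidified `Pic⁰` classes are determined by the point they define. -/
theorem cm_inj {T : Over S} {c d : Pic (PicF.XT A.hom T)} (hc : c ∈ pz A.hom T)
    (hd : d ∈ pz A.hom T) (hc' : c ∈ rg A T) (hd' : d ∈ rg A T) (h : cm φ c = cm φ d) : c = d := by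
  obtain ⟨R, hR, h1⟩ := hD.relPic.locallyInjective T _ _ (isPicZeroCl_iff.2 hc)
    (isPicZeroCl_iff.2 hd) h
  obtain ⟨𝒰, h𝒰⟩ := exists_cov hR
    (fun V j ↦ PicF.pullCl (PicF.XTmap A.hom j) (toCl c) = PicF.pullCl (PicF.XTmap A.hom j) (toCl d))
    (fun U u hu ↦ h1 u hu)
  refine rg_ext (Over.w η[A]) hF 𝒰 hc' hd' fun i ↦ toCl_injective ?_
  rw [toCl_pull, toCl_pull]
  exact h𝒰 i

theorem norm_eq_of_cm_eq {T : Over S} {c d : Pic (PicF.XT A.hom T)} (hc : c ∈ pz A.hom T)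
    (hd : d ∈ pz A.hom T) (h : cm φ c = cm φ d) : nrm A T c = nrm A T d :=
  cm_inj hD hF (norm_mem_pz hc) (norm_mem_pz hd) (norm_mem _ _ _ _ _) (norm_mem _ _ _ _ _)
    (by rw [cm_norm hD hc, cm_norm hD hd, h])

/-- Every point of the dual comes from exactly one rigidified `Pic⁰` class: existence. -/
theorem exists_cm {T : Over S} (g : T ⟶ At) :
    ∃ c : Pic (PicF.XT A.hom T), c ∈ pz A.hom T ∧ c ∈ rg A T ∧ cm φ c = g := by
  obtain ⟨R, hR, h1⟩ := hD.relPic.locallySurjective T g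
  obtain ⟨𝒰, h𝒰⟩ := exists_cov hR
    (fun V j ↦ ∃ c : Pic (PicF.XT A.hom V), c ∈ pz A.hom V ∧ c ∈ rg A V ∧ cm φ c = j ≫ g)
    (fun U u hu ↦ by
      obtain ⟨c, hc, hc'⟩ := h1 u hu
      obtain ⟨d, hd, rfl⟩ := exists_pz hc
      exact ⟨nrm A _ d, norm_mem_pz hd, norm_mem _ _ _ _ _, (cm_norm hD hd).trans hc'⟩)
  choose c hc hc' hcg using h𝒰
  obtain ⟨d, hd, hdc⟩ := rg_glue (Over.w η[A]) hF 𝒰 c hc' (fun i k W a b hab ↦ by
    refine cm_inj hD hF (pull_XTmap_mem _ (hc i)) (pull_XTmap_mem _ (hc k)) (pull_mem _ (hc' i))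
      (pull_mem _ (hc' k)) ?_
    rw [cm_pull hD _ (hc i), cm_pull hD _ (hc k), hcg, hcg, reassoc_of% hab])
  have hdz : d ∈ pz A.hom T := mem_of_cov 𝒰 fun i ↦ by
    rw [hdc]
    exact hc i
  refine ⟨d, hdz, hd, 𝒰.hom_ext fun i ↦ ?_⟩
  rw [← cm_pull hD _ hdz, hdc, hcg]

/-- **The Poincaré class** exists. -/
theorem exists_poinc : ∃ ξ : Pic (PicF.XT A.hom At), ξ ∈ pz A.hom At ∧ ξ ∈ rg A At ∧
    cm φ ξ = 𝟙 At := exists_cm hD hF (𝟙 At)

/-- Every rigidified `Pic⁰` class is pulled back from the Poincaré class. -/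
theorem eq_pull_poinc {ξ : Pic (PicF.XT A.hom At)} (h1 : ξ ∈ pz A.hom At) (h2 : ξ ∈ rg A At)
    (h3 : cm φ ξ = 𝟙 At) {T : Over S} {c : Pic (PicF.XT A.hom T)} (hc : c ∈ pz A.hom T)
    (hc' : c ∈ rg A T) : c = pull (PicF.XTmap A.hom (cm φ c)) ξ := by
  refine cm_inj hD hF hc (pull_XTmap_mem _ h1) hc' (pull_mem _ h2) ?_
  rw [cm_pull hD _ h1, h3, Category.comp_id]

theorem eq_pull_poinc' {ξ : Pic (PicF.XT A.hom At)} (h1 : ξ ∈ pz A.hom At) (h2 : ξ ∈ rg A At)
    (h3 : cm φ ξ = 𝟙 At) {T : Over S} {c : Pic (PicF.XT A.hom T)} (hc : c ∈ pz A.hom T) :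
    nrm A T c = pull (PicF.XTmap A.hom (cm φ c)) ξ := by
  have h := eq_pull_poinc hD hF h1 h2 h3 (norm_mem_pz hc) (norm_mem _ _ _ _ _)
  rwa [cm_norm hD hc] at h

end K732.Dual
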