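import Groth.Agent.Hopf.K503.AugUnram
import Groth.Agent.CartDual.K880.Basic
import Groth.Agent.TateLoc.K620.HopfGa
import Groth.Agent.Sga3B.KerGrp
import Groth.Prelude.Def_CoactBr

/-!
# Étale Cartier duals and additive characters

`A` a finite dimensional commutative cocommutative Hopf algebra over a field `k`.

* `etale_iff` : the dual `D k A` is étale over `k` iff `A` has no nonzero primitive element;
* `forall_hom_iff` : every homomorphism `Spec A ⟶ Ga` is trivial iff `A` has no nonzero primitive element.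
-/

set_option autoImplicit false
universe u

open CategoryTheory CategoryTheory.Limits MonoidalCategory CartesianMonoidalCategory MonObj GrpObj
  AlgebraicGeometry TensorProduct

namespace K732.PrimEt

variable {k : Type u} [Field k] (A : Type u) [CommRing A] [HopfAlgebra k A]

variable (k) in
/-- No nonzero primitive elements. -/
def NoPrim : Prop := ∀ a : A, Coalgebra.comul (R := k) a = a ⊗ₜ[k] 1 + 1 ⊗ₜ[k] a → a = 0

variable {A}

theorem counit_eq_zero {a : A} (h : Coalgebra.comul (R := k) a = a ⊗ₜ[k] 1 + 1 ⊗ₜ[k] a) :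
    Coalgebra.counit (R := k) a = 0 := by
  have h4 := Coalgebra.rTensor_counit_comul (R := k) a
  rw [h, map_add, LinearMap.rTensor_tmul, LinearMap.rTensor_tmul, Bialgebra.counit_one] at h4
  have h5 : (CoalgebraStruct.counit (R := k) a) ⊗ₜ[k] (1 : A) = 0 := by
    simpa using h4
  have h6 := congrArg (TensorProduct.lid k A) h5
  rw [TensorProduct.lid_tmul, map_zero] at h6
  have h7 := congrArg (CoalgebraStruct.counit (R := k)) h6
  rw [map_smul, map_zero, Bialgebra.counit_one, smul_eq_mul, _root_.mul_one] at h7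
  exact h7

theorem mul_apply_prim {a : A} (h : Coalgebra.comul (R := k) a = a ⊗ₜ[k] 1 + 1 ⊗ₜ[k] a)
    (x y : CartDual.D k A) : (x * y) a = x a * y 1 + x 1 * y a := by
  rw [CartDual.coe_apply, LinearMap.convMul_apply, h]
  simp [CartDual.coe_apply]

variable [Coalgebra.IsCocomm k A] [FiniteDimensional k A]

theorem noPrim_of_sq_eq (h : RingHom.ker (Bialgebra.counitAlgHom k (CartDual.D k A)) ^ 2 =
    RingHom.ker (Bialgebra.counitAlgHom k (CartDual.D k A))) : NoPrim k A := by
  intro a ha
  have hI : ∀ x : CartDual.D k A, x ∈ RingHom.ker (Bialgebra.counitAlgHom k (CartDual.D k A)) ↔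
      x 1 = 0 := fun x ↦ Iff.rfl
  have h1 : ∀ x ∈ RingHom.ker (Bialgebra.counitAlgHom k (CartDual.D k A)), x a = 0 := by
    intro x hx
    rw [← h, pow_two] at hx
    refine Submodule.mul_induction_on hx (fun y hy z hz ↦ ?_) (fun y z hy hz ↦ ?_)
    · rw [mul_apply_prim ha, (hI y).1 hy, (hI z).1 hz, mul_zero, zero_mul, add_zero]
    · change (y.ofConv + z.ofConv) a = 0
      rw [LinearMap.add_apply]
      change y a + z a = 0
      rw [hy, hz, add_zero]
  apply K880.Basic.ext_of_dual (R := k)
  intro x
  have h2 := h1 (x - x 1 • 1) (by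
    rw [hI]
    change x.ofConv 1 - x.ofConv 1 • (1 : CartDual.D k A).ofConv 1 = 0
    have : (1 : CartDual.D k A).ofConv 1 = 1 := by simp [LinearMap.convOne_def]
    rw [this, smul_eq_mul, _root_.mul_one, sub_self])
  have h3 : (1 : CartDual.D k A) a = 0 := by
    rw [CartDual.coe_apply, LinearMap.convOne_def]
    simpa using counit_eq_zero ha
  have h4 : (x - x 1 • 1 : CartDual.D k A) a = x a - x 1 * (1 : CartDual.D k A) a := rfl
  rw [h4, h3, mul_zero, sub_zero] at h2
  rw [h2]
  exact (map_zero x.ofConv).symm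

theorem sq_eq_of_noPrim (h : NoPrim k A) : RingHom.ker (Bialgebra.counitAlgHom k (CartDual.D k A)) ^ 2 =
    RingHom.ker (Bialgebra.counitAlgHom k (CartDual.D k A)) := by
  have hI : ∀ x : CartDual.D k A, x ∈ RingHom.ker (Bialgebra.counitAlgHom k (CartDual.D k A)) ↔
      x 1 = 0 := fun x ↦ Iff.rfl
  refine le_antisymm (Ideal.pow_le_self two_ne_zero) fun x hx ↦ ?_
  by_contra hx2
  obtain ⟨l, hl, hl2⟩ := Submodule.exists_le_ker_of_notMem (p := (RingHom.ker
    (Bialgebra.counitAlgHom k (CartDual.D k A)) ^ 2).restrictScalars k) (v := x)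
    (fun h' ↦ hx2 ((Submodule.restrictScalars_mem k _ _).1 h'))
  have hl2' : ∀ y ∈ RingHom.ker (Bialgebra.counitAlgHom k (CartDual.D k A)) ^ 2, l y = 0 :=
    fun y hy ↦ hl2 hy
  -- normalise
  let m : CartDual.D k A →ₗ[k] k := l - (l 1) • CartDual.counit k A
  have hm : ∀ y, m y = l y - l 1 * y 1 := fun y ↦ rfl
  have h11 : (1 : CartDual.D k A) 1 = 1 := by simp [LinearMap.convOne_def]
  obtain ⟨a, ha⟩ := (K880.Basic.eval_bijective k A).2 (WithConv.toConv m)
  have ha' : ∀ y : CartDual.D k A, y a = m y := fun y ↦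
    congrArg (fun z : CartDual.D k (CartDual.D k A) ↦ z y) ha
  have hmul : ∀ y z : CartDual.D k A, m (y * z) = m y * z 1 + y 1 * m z := by
    intro y z
    have hy : y - y 1 • 1 ∈ RingHom.ker (Bialgebra.counitAlgHom k (CartDual.D k A)) := by
      rw [hI]
      change y 1 - y 1 * (1 : CartDual.D k A) 1 = 0
      rw [h11, _root_.mul_one, sub_self]
    have hz : z - z 1 • 1 ∈ RingHom.ker (Bialgebra.counitAlgHom k (CartDual.D k A)) := by
      rw [hI]
      change z 1 - z 1 * (1 : CartDual.D k A) 1 = 0
      rw [h11, _root_.mul_one, sub_self]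
    have h1 := hl2' _ (by rw [pow_two]; exact Ideal.mul_mem_mul hy hz)
    have h2 : (y - y 1 • 1) * (z - z 1 • 1) = y * z - y 1 • z - z 1 • y + (y 1 * z 1) • 1 := by
      rw [sub_mul, mul_sub, mul_sub, smul_mul_assoc, smul_mul_assoc, _root_.one_mul, _root_.one_mul,
        mul_smul_comm, _root_.mul_one, smul_smul]
      abel
    rw [h2, map_add, map_sub, map_sub, map_smul, map_smul, map_smul, smul_eq_mul, smul_eq_mul,
      smul_eq_mul] at h1
    have h3 : (y * z) 1 = y 1 * z 1 := CartDual.counit_mul' k A y z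
    rw [hm, hm, hm, h3]
    linear_combination h1
  have hprim : Coalgebra.comul (R := k) a = a ⊗ₜ[k] 1 + 1 ⊗ₜ[k] a := by
    apply K880.Basic.tensor_ext_of_dual
    intro y z
    have h1 := hmul (WithConv.toConv y) (WithConv.toConv z)
    rw [← ha', ← ha', ← ha', CartDual.coe_apply, LinearMap.convMul_apply] at h1
    refine h1.trans ?_
    rw [map_add, map_add, TensorProduct.map_tmul, TensorProduct.map_tmul, LinearMap.mul'_apply,
      LinearMap.mul'_apply]
  have ha0 := h a hprim
  have h5 : m x = 0 := by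
    rw [← ha', ha0]
    exact map_zero x.ofConv
  rw [hm, (hI x).1 hx, mul_zero, sub_zero] at h5
  exact hl h5

/-- The dual is étale iff there is no primitive element. -/
theorem etale_iff : Algebra.Etale k (CartDual.D k A) ↔ NoPrim k A :=
  K503.AugUnram.etale_iff_sq_eq.trans ⟨noPrim_of_sq_eq, sq_eq_of_noPrim⟩

open Groth.Agent.Books Groth.Agent.Books.AffBridge Groth.Agent.Books.AffBridge2

omit [Coalgebra.IsCocomm k A] [FiniteDimensional k A] in
/-- Homomorphisms to `Ga` and primitive elements. -/
theorem forall_hom_iff : (∀ g : SpecOver k A ⟶ Red.Ga (Spec (CommRingCat.of k)), IsMonHom g → g = 1) ↔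
    NoPrim k A := by
  obtain ⟨E, _, _, e, he, t, ht, huniv⟩ := K620.HopfGa.exists_ga_model k
  have he' : IsMonHom e.inv := inferInstance
  have ht0 := counit_eq_zero ht
  have h0 : (1 : WithConv (E →ₐ[k] A)).ofConv t = 0 := by
    change algebraMap k A (Coalgebra.counit (R := k) t) = 0
    rw [ht0, map_zero]
  constructor
  · intro h a ha
    obtain ⟨f, hf⟩ := (huniv A).2 a
    have hf : f t = a := hf
    have h1 : (Bialgebra.counitAlgHom k A).comp f = Bialgebra.counitAlgHom k E := by
      apply (huniv k).1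
      change Coalgebra.counit (R := k) (f t) = Coalgebra.counit (R := k) t
      rw [hf, counit_eq_zero ha, ht0]
    have h2 : (Algebra.TensorProduct.map f f).comp (Bialgebra.comulAlgHom k E) =
        (Bialgebra.comulAlgHom k A).comp f := by
      apply (huniv _).1
      change Algebra.TensorProduct.map f f (Coalgebra.comul (R := k) t) =
        Coalgebra.comul (R := k) (f t)
      rw [hf, ha, ht, map_add, Algebra.TensorProduct.map_tmul, Algebra.TensorProduct.map_tmul, hf,
        map_one]
    let F : E →ₐc[k] A := BialgHom.ofAlgHom f h1 h2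
    have h3 : IsMonHom (specMap k (F : E →ₐ[k] A)) := isMonHom_specMap k F
    have h4 := h (specMap k (F : E →ₐ[k] A) ≫ e.inv) inferInstance
    have h5 : specMap k (F : E →ₐ[k] A) = specMap k (1 : WithConv (E →ₐ[k] A)).ofConv := by
      rw [specMap_one]
      have := congrArg (· ≫ e.hom) h4
      simp only [Category.assoc, e.inv_hom_id, Category.comp_id, MonObj.one_comp] at this
      exact this
    have h6 := specMap_injective k h5
    rw [← hf, ← h0, ← h6]
    rfl
  · intro h g hg
    have hg' : IsMonHom (g ≫ e.hom) := inferInstance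
    obtain ⟨F, hF⟩ := exists_bialgHom_of_isMonHom k (g ≫ e.hom)
    have h1 : Coalgebra.comul (R := k) (F t) = F t ⊗ₜ[k] 1 + 1 ⊗ₜ[k] F t := by
      have h2 := CoalgHomClass.map_comp_comul_apply F t
      rw [← h2, ht, map_add, TensorProduct.map_tmul, TensorProduct.map_tmul]
      change F t ⊗ₜ[k] F 1 + F 1 ⊗ₜ[k] F t = _
      rw [map_one]
    have h3 := h (F t) h1
    have h4 : (F : E →ₐ[k] A) = (1 : WithConv (E →ₐ[k] A)).ofConv := by
      apply (huniv A).1
      change F t = (1 : WithConv (E →ₐ[k] A)).ofConv t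
      rw [h3, h0]
    rw [h4, specMap_one] at hF
    have := congrArg (· ≫ e.inv) hF
    simp only [Category.assoc, e.hom_inv_id, Category.comp_id, MonObj.one_comp] at this
    exact this.symm

end K732.PrimEt
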