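import Groth.Agent.AbDual.K732.KerDual
import Groth.Agent.AbDual.K732.PrimEt

/-!
# The kernel of the transpose is étale iff the kernel has no additive characters
-/

set_option autoImplicit false
set_option linter.unusedSectionVars false
universe u

open CategoryTheory CategoryTheory.Limits MonoidalCategory CartesianMonoidalCategory MonObj GrpObj
  AlgebraicGeometry TensorProduct

namespace K732.EtKer

open Groth.Agent.Books Groth.Agent.Books.AffBridge Groth.Agent.Books.AffBridge2
open K732.KerChar Groth.Agent.Sga7.H760.KerBc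

theorem isCommMonObj_of_kernel {S : Scheme.{u}} {N X Y : Over S} [GrpObj N] [GrpObj X]
    [IsCommMonObj X] [GrpObj Y] {i : N ⟶ X} [IsMonHom i] {f : X ⟶ Y} [IsMonHom f]
    (hi : AlgGrp.IsKernel i f) : IsCommMonObj N where
  mul_comm := by
    apply eq_of_comp_i hi
    rw [Category.assoc, IsMonHom.mul_hom, ← BraidedCategory.braiding_naturality_assoc,
      IsCommMonObj.mul_comm]

theorem isKernel_of_iso {S : Scheme.{u}} {N N' X Y : Over S} [GrpObj Y] {i : N ⟶ X} {f : X ⟶ Y}
    (hi : AlgGrp.IsKernel i f) (e : N' ≅ N) : AlgGrp.IsKernel (e.hom ≫ i) f := by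
  rw [isKernel_iff] at hi ⊢
  obtain ⟨h1, h2⟩ := hi
  refine ⟨by rw [Category.assoc, h1, MonObj.comp_one], fun T g hg ↦ ?_⟩
  obtain ⟨y, hy, hy'⟩ := h2 T g hg
  refine ⟨y ≫ e.inv, by simpa using hy, fun z hz ↦ ?_⟩
  rw [← hy' (z ≫ e.hom) (by simpa using hz)]
  simp

section field

variable {k : Type u} [Field k]

theorem finite_of_isFinite {N : Over (Spec (CommRingCat.of k))} [IsFinite N.hom] {A : Type u}
    [CommRing A] [Algebra k A] (e : N ≅ SpecOver k A) : FiniteDimensional k A := by
  have h1 : IsIso e.inv.left := inferInstanceAs (IsIso ((Over.forget _).map e.inv))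
  have h2 : e.inv.left ≫ N.hom = (SpecOver k A).hom := Over.w e.inv
  have h3 : IsFinite (SpecOver k A).hom := by
    rw [← h2]
    infer_instance
  have h4 : (CommRingCat.ofHom (algebraMap k A)).hom.Finite := (IsFinite.SpecMap_iff _).1 h3
  exact RingHom.finite_algebraMap.1 h4

theorem etale_iff_of_iso {M : Over (Spec (CommRingCat.of k))} {B : Type u}
    [CommRing B] [Algebra k B] (e : M ≅ SpecOver k B) : Etale M.hom ↔ Algebra.Etale k B := by
  have h1 : IsIso e.inv.left := inferInstanceAs (IsIso ((Over.forget _).map e.inv))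
  have h1' : IsIso e.hom.left := inferInstanceAs (IsIso ((Over.forget _).map e.hom))
  have h2 : e.inv.left ≫ M.hom = (SpecOver k B).hom := Over.w e.inv
  have h2' : e.hom.left ≫ (SpecOver k B).hom = M.hom := Over.w e.hom
  have h3 : Etale M.hom ↔ Etale (SpecOver k B).hom := by
    constructor
    · intro h
      rw [← h2]
      infer_instance
    · intro h
      rw [← h2']
      infer_instance
  rw [h3]
  have h4 : Etale (SpecOver k B).hom ↔ (CommRingCat.ofHom (algebraMap k B)).hom.Etale :=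
    HasRingHomProperty.Spec_iff (P := @Etale)
  rw [h4]
  exact RingHom.etale_algebraMap

theorem etale_congr {B D : Type u} [CommRing B] [Algebra k B] [CommRing D] [Algebra k D]
    (e : B ≃ₐ[k] D) : Algebra.Etale k B ↔ Algebra.Etale k D :=
  ⟨fun _ ↦ Algebra.Etale.of_equiv e, fun _ ↦ Algebra.Etale.of_equiv e.symm⟩

variable {X Y Xt Yt : Over (Spec (CommRingCat.of k))}
  [GrpObj X] [IsCommMonObj X] [GrpObj Y] [GrpObj Xt] [GrpObj Yt]
  [IsProper X.hom] [Smooth X.hom] [GeometricallyConnected X.hom]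
  [IsProper Y.hom] [Smooth Y.hom] [GeometricallyConnected Y.hom]
  [IsProper Xt.hom] [Smooth Xt.hom] [GeometricallyConnected Xt.hom]
  [IsProper Yt.hom] [Smooth Yt.hom] [GeometricallyConnected Yt.hom]
  {φX : ∀ T : Over (Spec (CommRingCat.of k)), PicF.Cl (PicF.XT X.hom T) → (T ⟶ Xt)}
  {φY : ∀ T : Over (Spec (CommRingCat.of k)), PicF.Cl (PicF.XT Y.hom T) → (T ⟶ Yt)}
  (hX : AbDual.IsDualAV Scheme.fppfPrecoverage X Xt φX)
  (hY : AbDual.IsDualAV Scheme.fppfPrecoverage Y Yt φY)
  (f : X ⟶ Y) [IsMonHom f] [Surjective f.left]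
  (N : Over (Spec (CommRingCat.of k))) [GrpObj N] (i : N ⟶ X) [IsMonHom i]
  (hN : AlgGrp.IsKernel i f) [IsFinite N.hom]
  (ft : Yt ⟶ Xt) [IsMonHom ft] (hft : AbDual.IsTranspose f φX φY ft)

include hX hY hft hN

/-- The Hopf algebras of the kernels. -/
theorem exists_data {M : Over (Spec (CommRingCat.of k))} {j : M ⟶ Yt}
    (hM : AlgGrp.IsKernel j ft) : ∃ (A : Type u) (_ : CommRing A) (_ : HopfAlgebra k A)
      (_ : Coalgebra.IsCocomm k A) (_ : FiniteDimensional k A) (e : N ≅ SpecOver k A)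
      (_ : IsMonHom e.hom) (B : Type u) (_ : CommRing B) (_ : HopfAlgebra k B)
      (_ : M ≅ SpecOver k B), Nonempty (B ≃ₐc[k] CartDual.D k A) := by
  have a1 : IsAffine N.left := isAffine_of_isAffineHom N.hom
  have a2 := isCommMonObj_of_kernel hN
  obtain ⟨A, _, _, _, e, he, -⟩ := K620.HopfSeq.exists_model N
  have a3 := finite_of_isFinite e
  obtain ⟨g, hg⟩ := Groth.Agent.Sga3B.KerGrp.exists_grpObj ft
  have h1 := isKernel_kerι ft
  obtain ⟨e₂, he₂⟩ := exists_iso hM h1
  have h2 : IsFinite (Groth.Agent.Sga3B.KerGrp.kerObj ft).hom := by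
    have h3 := (K732.Isog.isFinite_surjective hX hY f N i hN hft).1
    have h4 : IsPullback (Groth.Agent.Sga3B.KerGrp.kerι ft).left
      (toUnit (Groth.Agent.Sga3B.KerGrp.kerObj ft)).left ft.left η[Xt].left :=
      IsPullback.map (Over.forget _) h1
    have h5 : (Groth.Agent.Sga3B.KerGrp.kerObj ft).hom =
        (toUnit (Groth.Agent.Sga3B.KerGrp.kerObj ft)).left := by
      have h6 := Over.w (toUnit (Groth.Agent.Sga3B.KerGrp.kerObj ft))
      exact h6.symm.trans (Category.comp_id _)
    rw [h5]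
    exact MorphismProperty.of_isPullback h4 h3
  have a4 : IsAffine (Groth.Agent.Sga3B.KerGrp.kerObj ft).left :=
    isAffine_of_isAffineHom (Groth.Agent.Sga3B.KerGrp.kerObj ft).hom
  obtain ⟨B, _, _, e₃, he₃⟩ := exists_hopf k (Groth.Agent.Sga3B.KerGrp.kerObj ft)
  refine ⟨A, inferInstance, inferInstance, inferInstance, a3, e, he, B, inferInstance,
    inferInstance, e₂ ≪≫ e₃, ?_⟩
  have he' : IsMonHom e.inv := inferInstance
  have he₃' : IsMonHom e₃.inv := inferInstance
  exact K732.KerDual.nonempty_equiv hX hY f A (e.inv ≫ i) (isKernel_of_iso hN e.symm) ft hft B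
    (e₃.inv ≫ Groth.Agent.Sga3B.KerGrp.kerι ft) (isKernel_of_iso h1 e₃.symm)

/-- **The kernel of the transpose is étale iff the kernel has no nontrivial additive character.** -/
theorem etale_iff {M : Over (Spec (CommRingCat.of k))} {j : M ⟶ Yt}
    (hM : AlgGrp.IsKernel j ft) : Etale M.hom ↔
      ∀ g : N ⟶ Red.Ga (Spec (CommRingCat.of k)), IsMonHom g → g = 1 := by
  obtain ⟨A, _, _, _, _, e, he, B, _, _, e', ⟨E⟩⟩ := exists_data hX hY f N i hN ft hft hM
  have he' : IsMonHom e.inv := inferInstance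
  rw [etale_iff_of_iso e', etale_congr (D := CartDual.D k A) (E : B ≃ₐ[k] CartDual.D k A),
    K732.PrimEt.etale_iff, ← K732.PrimEt.forall_hom_iff]
  constructor
  · intro h g hg
    have h1 := h (e.inv ≫ g) inferInstance
    have h2 := congrArg (e.hom ≫ ·) h1
    simpa using h2
  · intro h g hg
    have h1 := h (e.hom ≫ g) inferInstance
    have h2 := congrArg (e.inv ≫ ·) h1
    simpa using h2

end field

end K732.EtKer
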