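import Groth.Agent.AbDual.K732.Constr
import Groth.Agent.SGA3.K206.Comm

/-!
# `Pic⁰` classes and the neutral component of the Picard scheme

`f : X ⟶ Spec k`, `k` any field.

* `mem_pz_of_geomConn` : a class on `X ×_k T₀`, `T₀` geometrically connected of finite type, trivial at one rational
  point, is algebraically equivalent to zero on all geometric fibres.
* `range_subset` : if `(P, ξ)` is universal for rigidified classes and `g^*ξ` is in `Pic⁰` then `g : T ⟶ P` has image in
  the connected component of the trivial class.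
-/

set_option autoImplicit false
universe u

open CategoryTheory CategoryTheory.Limits MonoidalCategory CartesianMonoidalCategory MonObj GrpObj
  AlgebraicGeometry

namespace K732.FamPz

open Groth.Agent.Grpsch.PicGrp Groth.Agent.Fga.RigGrp K732.Cov K732.PicZero K732.RigSheaf K732.Dual

set_option linter.unusedSectionVars false

section az

variable {Ω : Type u} [Field Ω] [IsAlgClosed Ω] {Z T : Scheme.{u}}

/-- The slice `Z ⟶ Z ×_Ω T` at a rational point. -/
noncomputable def sl (q : Z ⟶ Spec (CommRingCat.of Ω)) (q' : T ⟶ Spec (CommRingCat.of Ω))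
    (t : Spec (CommRingCat.of Ω) ⟶ T) (ht : t ≫ q' = 𝟙 _) : Z ⟶ pullback q q' :=
  pullback.lift (𝟙 Z) (q ≫ t) (by rw [Category.assoc, ht, Category.comp_id, Category.id_comp])

@[reassoc (attr := simp)]
theorem sl_fst (q : Z ⟶ Spec (CommRingCat.of Ω)) (q' : T ⟶ Spec (CommRingCat.of Ω))
    (t : Spec (CommRingCat.of Ω) ⟶ T) (ht : t ≫ q' = 𝟙 _) : sl q q' t ht ≫ pullback.fst q q' = 𝟙 Z :=
  pullback.lift_fst _ _ _

@[reassoc (attr := simp)]
theorem sl_snd (q : Z ⟶ Spec (CommRingCat.of Ω)) (q' : T ⟶ Spec (CommRingCat.of Ω))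
    (t : Spec (CommRingCat.of Ω) ⟶ T) (ht : t ≫ q' = 𝟙 _) : sl q q' t ht ≫ pullback.snd q q' = q ≫ t :=
  pullback.lift_snd _ _ _

theorem mem_az_iff {q : Z ⟶ Spec (CommRingCat.of Ω)} {c : Pic Z} : c ∈ az q ↔
    ∃ (T : Scheme.{u}) (q' : T ⟶ Spec (CommRingCat.of Ω)), ConnectedSpace T ∧
      LocallyOfFiniteType q' ∧ QuasiCompact q' ∧ ∃ (d : Pic (pullback q q'))
      (t t₀ : Spec (CommRingCat.of Ω) ⟶ T) (ht : t ≫ q' = 𝟙 _) (ht₀ : t₀ ≫ q' = 𝟙 _),
      pull (sl q q' t ht) d = c ∧ pull (sl q q' t₀ ht₀) d = 1 := Iff.rfl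

end az

variable {k : Type u} [Field k] {X : Scheme.{u}} {f : X ⟶ Spec (CommRingCat.of k)}

/-- A family over a geometrically connected base of finite type, trivial at a rational point, is in `Pic⁰`. -/
theorem mem_pz_of_geomConn (P : Over (Spec (CommRingCat.of k))) [GeometricallyConnected P.hom]
    [QuasiCompact P.hom] [LocallyOfFiniteType P.hom] (c : Pic (PicF.XT f P))
    (e₀ : 𝟙_ (Over (Spec (CommRingCat.of k))) ⟶ P) (h₀ : pull (PicF.XTmap f e₀) c = 1) :
    c ∈ pz f P := by
  intro Ω _ _ τ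
  let κ : Spec (CommRingCat.of Ω) ⟶ Spec (CommRingCat.of k) := τ ≫ P.hom
  let q : pullback (PicF.XTproj f P) τ ⟶ Spec (CommRingCat.of Ω) := pullback.snd _ _
  let q' : pullback P.hom κ ⟶ Spec (CommRingCat.of Ω) := pullback.snd _ _
  have hconn : ConnectedSpace ↥(pullback P.hom κ) :=
    GeometricallyConnected.geometrically_connectedSpace (f := P.hom) κ _ _
      (IsPullback.of_hasPullback P.hom κ)
  have hq : pullback.fst (PicF.XTproj f P) τ ≫ pullback.fst f P.hom ≫ f = q ≫ κ := by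
    have h1 : pullback.fst f P.hom ≫ f = PicF.XTproj f P ≫ P.hom := pullback.condition
    rw [h1, ← Category.assoc, pullback.condition, Category.assoc]
  let e : pullback q q' ⟶ PicF.XT f P :=
    pullback.lift (pullback.fst q q' ≫ pullback.fst (PicF.XTproj f P) τ ≫ pullback.fst f P.hom)
      (pullback.snd q q' ≫ pullback.fst P.hom κ) (by
        rw [Category.assoc, Category.assoc, hq, Category.assoc, pullback.condition (f := P.hom),
          ← Category.assoc, pullback.condition (f := q), Category.assoc])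
  have he1 : e ≫ pullback.fst f P.hom =
      pullback.fst q q' ≫ pullback.fst (PicF.XTproj f P) τ ≫ pullback.fst f P.hom :=
    pullback.lift_fst _ _ _
  have he2 : e ≫ PicF.XTproj f P = pullback.snd q q' ≫ pullback.fst P.hom κ :=
    pullback.lift_snd _ _ _
  let t : Spec (CommRingCat.of Ω) ⟶ pullback P.hom κ := pullback.lift τ (𝟙 _) (by simp [κ])
  let t₀ : Spec (CommRingCat.of Ω) ⟶ pullback P.hom κ := pullback.lift (κ ≫ e₀.left) (𝟙 _) (by
    rw [Category.assoc, Over.w e₀]
    exact (Category.comp_id κ).trans (Category.id_comp κ).symm)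
  have ht : t ≫ q' = 𝟙 _ := pullback.lift_snd _ _ _
  have ht₀ : t₀ ≫ q' = 𝟙 _ := pullback.lift_snd _ _ _
  refine mem_az_iff.2 ⟨pullback P.hom κ, q', hconn, inferInstance, inferInstance, pull e c, t, t₀, ht, ht₀,
    ?_, ?_⟩
  · rw [← pull_comp]
    congr 2
    apply pullback.hom_ext
    · rw [Category.assoc, he1, sl_fst_assoc]
    · rw [Category.assoc]
      erw [he2]
      rw [sl_snd_assoc, pullback.lift_fst]
      exact pullback.condition.symm
  · let v : pullback (PicF.XTproj f P) τ ⟶ PicF.XT f (𝟙_ (Over (Spec (CommRingCat.of k)))) :=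
      pullback.lift (pullback.fst (PicF.XTproj f P) τ ≫ pullback.fst f P.hom) (q ≫ κ) (by
        rw [Category.assoc, hq]
        exact (Category.comp_id _).symm)
    have hv1 : v ≫ pullback.fst f (𝟙_ (Over (Spec (CommRingCat.of k)))).hom =
        pullback.fst (PicF.XTproj f P) τ ≫ pullback.fst f P.hom := pullback.lift_fst _ _ _
    have hv2 : v ≫ PicF.XTproj f (𝟙_ (Over (Spec (CommRingCat.of k)))) = q ≫ κ :=
      pullback.lift_snd _ _ _
    have hv3 : (v ≫ PicF.XTmap f e₀) ≫ PicF.XTproj f P = q ≫ κ ≫ e₀.left := by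
      rw [Category.assoc, XTmap_XTproj, ← Category.assoc, hv2, Category.assoc]
    have hv : sl q q' t₀ ht₀ ≫ e = v ≫ PicF.XTmap f e₀ := by
      apply pullback.hom_ext
      · rw [Category.assoc, he1, sl_fst_assoc, Category.assoc, XTmap_fst]
        exact hv1.symm
      · refine Eq.trans ?_ hv3.symm
        rw [Category.assoc]
        erw [he2]
        rw [sl_snd_assoc, pullback.lift_fst]
    rw [← pull_comp, hv, pull_comp, h₀, map_one]

/-- Every point is the image of a geometric point. -/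
theorem exists_geomPt {T : Scheme.{u}} (x : T) : ∃ (Ω : Type u) (_ : Field Ω) (_ : IsAlgClosed Ω)
    (τ : Spec (CommRingCat.of Ω) ⟶ T) (y : ↥(Spec (CommRingCat.of Ω))), τ y = x := by
  obtain ⟨Ω, hΩ, hc, ⟨j⟩⟩ : ∃ (Ω : Type u) (_ : Field Ω) (_ : IsAlgClosed Ω),
      Nonempty (T.residueField x →+* Ω) :=
    ⟨AlgebraicClosure (T.residueField x), inferInstance, inferInstance, ⟨algebraMap _ _⟩⟩
  let z : ↥(Spec (CommRingCat.of Ω)) := (⟨⊥, Ideal.isPrime_bot⟩ : PrimeSpectrum Ω)
  refine ⟨Ω, hΩ, hc, Spec.map (CommRingCat.ofHom j) ≫ T.fromSpecResidueField x, z, ?_⟩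
  rw [Scheme.Hom.comp_apply]
  exact Scheme.fromSpecResidueField_apply _ _

section univ

variable {σ : Spec (CommRingCat.of k) ⟶ X} {hσ : σ ≫ f = 𝟙 _} {P : Over (Spec (CommRingCat.of k))}
  {ξ : Pic (PicF.XT f P)} (hu : IsUniv f σ hσ P ξ)

include hu in
theorem mem_component (e : 𝟙_ (Over (Spec (CommRingCat.of k))) ⟶ P)
    (he : pull (PicF.XTmap f e) ξ = 1) {T : Over (Spec (CommRingCat.of k))} (g : T ⟶ P)
    (hg : pull (PicF.XTmap f g) ξ ∈ pz f T) (pt : ↥(𝟙_ (Over (Spec (CommRingCat.of k)))).left)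
    (Ω : Type u) [Field Ω] [IsAlgClosed Ω] (τ : Spec (CommRingCat.of Ω) ⟶ T.left)
    (y : ↥(Spec (CommRingCat.of Ω))) : g.left (τ y) ∈ connectedComponent (e.left pt) := by
  obtain ⟨T₁, q', h1, h2, h3, d, t, t₀, ht, ht₀, hd, hd₀⟩ := mem_az_iff.1 (hg Ω τ)
  let q : pullback (PicF.XTproj f T) τ ⟶ Spec (CommRingCat.of Ω) := pullback.snd _ _
  let κ : Spec (CommRingCat.of Ω) ⟶ Spec (CommRingCat.of k) := τ ≫ T.hom
  let T' : Over (Spec (CommRingCat.of k)) := Over.mk (q' ≫ κ)
  let R : Over (Spec (CommRingCat.of k)) := Over.mk κ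
  let a : PicF.XT f T' ⟶ PicF.XT f T := PicF.XTmap f (Over.homMk (q' ≫ τ) (by simp [T', κ]))
  have ha : a ≫ PicF.XTproj f T = PicF.XTproj f T' ≫ q' ≫ τ := XTmap_XTproj _ _
  let b : PicF.XT f T' ⟶ pullback (PicF.XTproj f T) τ := pullback.lift a (PicF.XTproj f T' ≫ q')
    (by rw [ha, Category.assoc])
  have hb1 : b ≫ pullback.fst _ _ = a := pullback.lift_fst _ _ _
  have hb2 : b ≫ q = PicF.XTproj f T' ≫ q' := pullback.lift_snd _ _ _
  let w : PicF.XT f T' ⟶ pullback q q' := pullback.lift b (PicF.XTproj f T') hb2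
  have hw1 : w ≫ pullback.fst q q' = b := pullback.lift_fst _ _ _
  have hw2 : w ≫ pullback.snd q q' = PicF.XTproj f T' := pullback.lift_snd _ _ _
  let ττ : R ⟶ T := Over.homMk τ rfl
  let v : PicF.XT f R ⟶ pullback (PicF.XTproj f T) τ := pullback.lift (PicF.XTmap f ττ)
    (PicF.XTproj f R) (XTmap_XTproj _ _)
  have hv1 : v ≫ pullback.fst _ _ = PicF.XTmap f ττ := pullback.lift_fst _ _ _
  have hv2 : v ≫ q = PicF.XTproj f R := pullback.lift_snd _ _ _
  have key : ∀ (s : Spec (CommRingCat.of Ω) ⟶ T₁) (hs : s ≫ q' = 𝟙 _) (r : R ⟶ T') (hr : r.left = s),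
      PicF.XTmap f r ≫ w = v ≫ sl q q' s hs := by
    intro s hs r hr
    have hr' : PicF.XTmap f r ≫ PicF.XTproj f T' = PicF.XTproj f R ≫ s := by
      rw [XTmap_XTproj, hr]
    apply pullback.hom_ext
    · rw [Category.assoc, hw1, Category.assoc, sl_fst, Category.comp_id]
      apply pullback.hom_ext
      · rw [Category.assoc, hb1, hv1, ← XTmap_comp]
        congr 1
        ext1
        change r.left ≫ q' ≫ τ = τ
        rw [hr, ← Category.assoc, hs]
        exact Category.id_comp τ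
      · rw [Category.assoc]
        erw [hb2, hv2]
        rw [← Category.assoc, hr', Category.assoc, hs]
        exact Category.comp_id _
    · rw [Category.assoc, hw2, Category.assoc, sl_snd, ← Category.assoc, hv2, hr']
  let h : T' ⟶ P := hu.hom (norm f σ hσ T' (pull w d)) (norm_mem _ _ _ _ _)
  have hh : pull (PicF.XTmap f h) ξ = norm f σ hσ T' (pull w d) := hu.pull_hom _ _
  have key2 : ∀ (s : Spec (CommRingCat.of Ω) ⟶ T₁) (hs : s ≫ q' = 𝟙 _) (r : R ⟶ T') (hr : r.left = s),
      pull (PicF.XTmap f (r ≫ h)) ξ = norm f σ hσ R (pull v (pull (sl q q' s hs) d)) := by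
    intro s hs r hr
    rw [XTmap_comp, pull_comp, hh, pull_norm, ← pull_comp, ← pull_comp, key s hs r hr]
  let r : R ⟶ T' := Over.homMk t (by
    change t ≫ q' ≫ κ = κ
    rw [← Category.assoc, ht]
    exact Category.id_comp κ)
  let r₀ : R ⟶ T' := Over.homMk t₀ (by
    change t₀ ≫ q' ≫ κ = κ
    rw [← Category.assoc, ht₀]
    exact Category.id_comp κ)
  have c1 : r ≫ h = ττ ≫ g := by
    apply hu.hom_ext
    rw [key2 t ht r rfl]
    erw [hd]
    rw [← pull_comp, hv1, ← pull_comp, ← XTmap_comp]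
    exact norm_of_mem _ _ _ (pull_mem _ hu.1)
  have c2 : r₀ ≫ h = toUnit R ≫ e := by
    apply hu.hom_ext
    rw [key2 t₀ ht₀ r₀ rfl]
    erw [hd₀]
    rw [map_one, map_one, XTmap_comp, pull_comp, he, map_one]
  have d1 : t ≫ h.left = τ ≫ g.left := congrArg (fun m : R ⟶ P ↦ m.left) c1
  have d2 : t₀ ≫ h.left = (toUnit R).left ≫ e.left := congrArg (fun m : R ⟶ P ↦ m.left) c2
  have e1 : h.left (t y) = g.left (τ y) := by
    have := congrArg (fun m : Spec (CommRingCat.of Ω) ⟶ P.left ↦ m y) d1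
    exact this
  have e2 : h.left (t₀ y) = e.left pt := by
    have := congrArg (fun m : Spec (CommRingCat.of Ω) ⟶ P.left ↦ m y) d2
    refine this.trans ?_
    change e.left ((toUnit R).left y) = e.left pt
    congr 1
    exact Subsingleton.elim (α := PrimeSpectrum k) _ _
  rw [← e1, ← e2]
  have hc : PreconnectedSpace ↥T'.left := inferInstanceAs (PreconnectedSpace T₁)
  exact (isPreconnected_range h.left.continuous).subset_connectedComponent ⟨_, rfl⟩ ⟨_, rfl⟩

include hu in
/-- Points of the Picard scheme given by `Pic⁰` classes lie in the connected component of the trivial class. -/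
theorem range_subset (e : 𝟙_ (Over (Spec (CommRingCat.of k))) ⟶ P)
    (he : pull (PicF.XTmap f e) ξ = 1) {T : Over (Spec (CommRingCat.of k))} (g : T ⟶ P)
    (hg : pull (PicF.XTmap f g) ξ ∈ pz f T) (pt : ↥(𝟙_ (Over (Spec (CommRingCat.of k)))).left) :
    Set.range g.left ⊆ connectedComponent (e.left pt) := by
  rintro _ ⟨x, rfl⟩
  obtain ⟨Ω, _, _, τ, y, rfl⟩ := exists_geomPt x
  exact mem_component hu e he g hg pt Ω τ y

end univ

end K732.FamPz
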