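import Groth.Agent.AbDual.K732.HPow
import Groth.Agent.AbDual.K732.DualField
import Groth.Agent.Grpsch.MulFin

/-!
# Adjoints of endomorphisms with respect to a class: further criteria

* `isAdj_of_epi` : adjointness may be checked after an epimorphism in the second variable;
* `epi_pow` : `[n]` is an epimorphism on an abelian variety;
* `isAdj_of_pull` : `u^* c = c`, `u ≫ u = -1`; `isAdj_of_pull_pow` : `u^* c = c ^ r`, `u ≫ u = -r`;
* `isAdj_of_quasi_inv` : the quasi-inverse of an anti-selfadjoint isogeny is anti-selfadjoint.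
-/

set_option autoImplicit false
set_option linter.unusedSectionVars false
universe u

open CategoryTheory Limits MonoidalCategory CartesianMonoidalCategory AlgebraicGeometry
open scoped MonObj

namespace K732.HAdj

open Groth.Agent.Grpsch.PicGrp Groth.Agent.Fga.RigGrp K732.PicZero K732.Prim K732.Dual K732.CubeSec
open K528.MumZero K732.BC K814.MumHom K732.HQuad K732.HPow

section epi

variable {S : Scheme.{u}} {A At : Over S} [GrpObj A] [GrpObj At] [IsCommMonObj A] [IsProper A.hom] [Flat A.hom]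
  [LocallyOfFinitePresentation A.hom] [GeometricallyIntegral A.hom]
  {φ : ∀ T : Over S, PicF.Cl (PicF.XT A.hom T) → (T ⟶ At)}
  (hD : AbDual.IsDualAV Scheme.fppfPrecoverage A At φ)
  {c : Pic A.left} (hc : pull (η[A] : 𝟙_ (Over S) ⟶ A).left c = 1)

include hD hc

/-- Adjointness may be checked after an epimorphism. -/
theorem isAdj_of_epi {u v h : A ⟶ A} [IsMonHom u] [Epi h]
    (H : ∀ (W : Over S) (a b : W ⟶ A), D c (a ≫ u) (b ≫ h) = D c a (b ≫ h ≫ v)) : IsAdj c u v := by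
  let x : Pic (PicF.XT A.hom A) := pull (AbDual.bcMap u A) (mumCl A c) *
    (pull (PicF.XTmap A.hom v) (mumCl A c))⁻¹
  have hx : ∀ {W : Over S} (a b : W ⟶ A), ev a b x = D c (a ≫ u) b * (D c a (b ≫ v))⁻¹ := by
    intro W a b
    change ev a b (_ * _⁻¹) = _
    rw [map_mul, map_inv, ev_bcMap, ev_XTmap, D_eq_ev, D_eq_ev]
  have h1 : x ∈ pz A.hom A := mul_mem (pull_bcMap_mem u (mum_pz c)) (inv_mem (pull_XTmap_mem v (mum_pz c)))
  have h2 : x ∈ rg A A := by
    rw [mem_rg_iff, hx, MonObj.one_comp, D_one_left hc, D_one_left hc, inv_one, _root_.mul_one]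
  have h3 : pull (PicF.XTmap A.hom h) x = 1 := by
    refine ext_ev fun W a b ↦ ?_
    rw [ev_XTmap, hx, H, map_one, Category.assoc, mul_inv_cancel]
  have h4 : h ≫ cm φ x = 1 := by
    rw [← cm_pull hD h h1, h3, cm_one hD]
  have h5 : cm φ x = 1 := by
    rw [← cancel_epi h, h4, MonObj.comp_one]
  have h6 : x = 1 := cm_inj hD (bijective_XTproj A.hom) h1 (one_mem _) h2 (one_mem _) (by rw [h5, cm_one hD])
  intro W a b
  have h7 := hx a b
  rw [h6, map_one] at h7
  exact (mul_inv_eq_one.1 h7.symm)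

end epi

section field

variable {k : Type u} [Field k] {A : Over (Spec (CommRingCat.of k))} [GrpObj A] [IsProper A.hom]
  [GeometricallyIntegral A.hom]

theorem epi_pow {n : ℕ} (hn : 1 ≤ n) : Epi ((𝟙 A : A ⟶ A) ^ n) := by
  have h1 := Groth.Agent.Grpsch.MulFin.flat_pow A n hn
  have h2 := Groth.Agent.Grpsch.MulFin.surjective_pow A n hn
  have h3 := Groth.Agent.Grpsch.MulFin.isFinite_pow A n hn
  have h4 : Epi ((𝟙 A : A ⟶ A) ^ n).left := Flat.epi_of_flat_of_surjective _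
  exact Over.epi_of_epi_left _

end field

section crit

variable {S : Scheme.{u}} {A At : Over S} [GrpObj A] [GrpObj At] [IsCommMonObj A] [IsProper A.hom] [Flat A.hom]
  [LocallyOfFinitePresentation A.hom] [GeometricallyIntegral A.hom]
  {c : Pic A.left} (hc : pull (η[A] : 𝟙_ (Over S) ⟶ A).left c = 1)

theorem isAdj_of_pull {u : A ⟶ A} [IsMonHom u] (h : pull u.left c = c) (h2 : u ≫ u = (𝟙 A)⁻¹) :
    IsAdj c u u⁻¹ := by
  intro W a b
  have e1 : u⁻¹ ≫ u = 𝟙 A := by rw [GrpObj.inv_comp, h2, inv_inv]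
  have e2 := D_pull c u a (b ≫ u⁻¹)
  rw [h, Category.assoc, e1, Category.comp_id] at e2
  exact e2.symm

include hc

theorem isAdj_of_pull_pow {φ : ∀ T : Over S, PicF.Cl (PicF.XT A.hom T) → (T ⟶ At)}
    (hD : AbDual.IsDualAV Scheme.fppfPrecoverage A At φ) {r : ℕ} {u : A ⟶ A} [IsMonHom u]
    (h : pull u.left c = c ^ r) (h2 : u ≫ u = ((𝟙 A : A ⟶ A) ^ r)⁻¹) (h3 : Epi ((𝟙 A : A ⟶ A) ^ r)) :
    IsAdj c u u⁻¹ := by
  have e1 : u ≫ u⁻¹ = (𝟙 A : A ⟶ A) ^ r := by rw [GrpObj.comp_inv, h2, inv_inv]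
  have e2 : u⁻¹ ≫ u = (𝟙 A : A ⟶ A) ^ r := by rw [GrpObj.inv_comp, h2, inv_inv]
  have e3 : Epi u := by
    rw [← e2] at h3
    exact epi_of_epi u⁻¹ u
  refine isAdj_of_epi hD hc (h := u) fun W a b ↦ ?_
  have e4 := D_pull c u a b
  rw [h, D_pow_class] at e4
  rw [e1, ← e4, MonObj.comp_pow, Category.comp_id, ← zpow_natCast b, D_zpow_right hc, zpow_natCast]

/-- The quasi-inverse of an anti-selfadjoint isogeny is anti-selfadjoint. -/
theorem isAdj_of_quasi_inv {φ : ∀ T : Over S, PicF.Cl (PicF.XT A.hom T) → (T ⟶ At)}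
    (hD : AbDual.IsDualAV Scheme.fppfPrecoverage A At φ) {m : ℕ} {v w : A ⟶ A} [IsMonHom w]
    (hv : IsAdj c v v⁻¹) (h1 : v ≫ w = (𝟙 A : A ⟶ A) ^ m) (h2 : w ≫ v = (𝟙 A : A ⟶ A) ^ m)
    (h3 : Epi ((𝟙 A : A ⟶ A) ^ m)) : IsAdj c w w⁻¹ := by
  have e3 : Epi v := by
    rw [← h2] at h3
    exact epi_of_epi w v
  refine isAdj_of_epi hD hc (h := v) fun W a b ↦ ?_
  rw [← hv.symm W, Category.assoc, GrpObj.comp_inv w v, GrpObj.comp_inv v w, h1, h2, GrpObj.comp_inv,
    GrpObj.comp_inv, MonObj.comp_pow, MonObj.comp_pow, Category.comp_id, Category.comp_id, D_inv_left hc,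
    D_inv_right hc, ← zpow_natCast, ← zpow_natCast, D_zpow_left hc, D_zpow_right hc]

end crit

end K732.HAdj
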