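import Groth.Agent.AbDual.K732.HPow
import Groth.Agent.AbSch.K451.Box
import Groth.Agent.EGA2.K30.AmpleLoc
import Groth.Agent.Ega2.RelAmp
import Groth.Agent.Ega2.AmpleUnit
import Groth.Agent.Flat2H.FamOpen
import Groth.Agent.Flat2H.FamDict

/-!
# Ample classes on powers

* `Amp c` : the class `c` is the class of an ample module; `Amp.mul`, `amp_pow_iff`, `Amp.pull`, `Amp.box`;
* `amp_prod` : `∏ (p i)^* c i` is ample on a power if all `c i` are ample.
-/

set_option autoImplicit false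
set_option linter.unusedSectionVars false
universe u

open CategoryTheory Limits MonoidalCategory CartesianMonoidalCategory AlgebraicGeometry
open scoped MonObj

namespace K732.HAmp

open Groth.Agent.Grpsch.PicGrp Groth.Agent.Fga.RigGrp K732.HQuad K732.HPow

section basic

variable {X Y : Scheme.{u}}

/-- Classes of ample modules. -/
def Amp (c : Pic X) : Prop := ∃ (L : X.Modules) (hL : CohB1.IsAmple L), mk L hL.1 = c

theorem amp_mk_iff {L : X.Modules} (hL : PicF.IsInvertible L) : Amp (mk L hL) ↔ CohB1.IsAmple L := by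
  constructor
  · rintro ⟨M, hM, h⟩
    obtain ⟨e⟩ := (mk_eq_iff hM.1 hL).1 h
    exact Groth.Agent.Flat2H.FamDict.isAmple_of_iso e hM
  · intro h
    exact ⟨L, h, rfl⟩

theorem Amp.mul {c d : Pic X} (hc : Amp c) (hd : Amp d) : Amp (c * d) := by
  obtain ⟨L, hL, rfl⟩ := hc
  obtain ⟨M, hM, rfl⟩ := hd
  rw [mk_mul_mk, amp_mk_iff]
  exact K30.AmpleLoc.isAmple_tensorMod' hL hM

theorem amp_pow_iff {c : Pic X} {n : ℕ} (hn : 0 < n) : Amp (c ^ n) ↔ Amp c := by
  obtain ⟨L, hL, rfl⟩ := exists_mk c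
  rw [← mk_tensorPow hL n, amp_mk_iff, amp_mk_iff]
  exact (K30.AmpleLoc.isAmple_iff_tensorPow hL hn).symm

theorem Amp.pull (f : Y ⟶ X) [IsAffineHom f] {c : Pic X} (hc : Amp c) :
    Amp (Groth.Agent.Grpsch.PicGrp.pull f c) := by
  obtain ⟨L, hL, rfl⟩ := hc
  rw [pull_mk, amp_mk_iff]
  exact Groth.Agent.Flat2H.FamOpen.isAmple_pullback_of_isAffineHom f hL

end basic

section prod

variable {R : Type u} [CommRing R] {X Y : Over (Spec (CommRingCat.of R))}

theorem Amp.box {c : Pic X.left} {d : Pic Y.left} (hc : Amp c) (hd : Amp d) :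
    Amp (Groth.Agent.Grpsch.PicGrp.pull (fst X Y).left c * Groth.Agent.Grpsch.PicGrp.pull (snd X Y).left d) := by
  obtain ⟨L, hL, rfl⟩ := hc
  obtain ⟨M, hM, rfl⟩ := hd
  rw [pull_mk, pull_mk, mk_mul_mk, amp_mk_iff]
  have h1 := K451.Box.isRelAmple_box X.hom Y.hom
    (Groth.Agent.Ega2.RelAmp.isRelAmple_iff_isAmple.2 hL) (Groth.Agent.Ega2.RelAmp.isRelAmple_iff_isAmple.2 hM)
  exact Groth.Agent.Ega2.RelAmp.isRelAmple_iff_isAmple.1 h1

/-- `A` is a power of `E` as a scheme. -/
structure IsPw {S : Scheme.{u}} {E A : Over S} {I : Type*} (p : I → (A ⟶ E)) : Prop where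
  exists_lift : ∀ {T : Over S} (f : I → (T ⟶ E)), ∃ g : T ⟶ A, ∀ i, g ≫ p i = f i
  hom_ext : ∀ {T : Over S} {g h : T ⟶ A}, (∀ i, g ≫ p i = h ≫ p i) → g = h

theorem exists_pw (E : Over (Spec (CommRingCat.of R))) (I : Type*) [Finite I] :
    ∃ (B : Over (Spec (CommRingCat.of R))) (p : I → (B ⟶ E)), IsPw p ∧
      ∀ (_ : Fintype I) (c : I → Pic E.left), (∀ i, Amp (c i)) →
        Amp (∏ i, Groth.Agent.Grpsch.PicGrp.pull (p i).left (c i)) := by
  induction I using Finite.induction_empty_option with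
  | of_equiv e ih =>
    obtain ⟨B, p, h1, h2⟩ := ih
    refine ⟨B, fun j ↦ p (e.symm j), ⟨fun f ↦ ?_, fun {T g h} hh ↦ ?_⟩, fun i1 c hc ↦ ?_⟩
    · obtain ⟨g, hg⟩ := h1.exists_lift (fun i ↦ f (e i))
      exact ⟨g, fun j ↦ by rw [hg, Equiv.apply_symm_apply]⟩
    · refine h1.hom_ext fun i ↦ ?_
      have := hh (e i)
      rwa [Equiv.symm_apply_apply] at this
    · have i2 : Fintype _ := Fintype.ofEquiv _ e.symm
      have h3 := h2 i2 (fun i ↦ c (e i)) fun i ↦ hc _
      rw [← Equiv.prod_comp e]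
      simpa using h3
  | h_empty =>
    refine ⟨𝟙_ _, fun i ↦ i.elim, ⟨fun {T} f ↦ ⟨toUnit T, fun i ↦ i.elim⟩, fun _ ↦ toUnit_unique _ _⟩,
      fun i1 c hc ↦ ?_⟩
    rw [Finset.prod_of_isEmpty, one_def, amp_mk_iff]
    have h1 : IsAffine (𝟙_ (Over (Spec (CommRingCat.of R)))).left :=
      inferInstanceAs (IsAffine (Spec (CommRingCat.of R)))
    exact Groth.Agent.Ega2.Weight.isAmple_structureModule _
  | @h_option α hα ih =>
    obtain ⟨B, p, h1, h2⟩ := ih
    refine ⟨E ⊗ B, fun j ↦ j.elim (fst E B) (fun i ↦ snd E B ≫ p i), ⟨fun f ↦ ?_, fun {T g h} hh ↦ ?_⟩,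
      fun i1 c hc ↦ ?_⟩
    · obtain ⟨g, hg⟩ := h1.exists_lift (fun i ↦ f (some i))
      refine ⟨lift (f none) g, fun j ↦ ?_⟩
      cases j with
      | none => exact lift_fst _ _
      | some i => 
        change lift _ _ ≫ snd E B ≫ p i = _
        rw [lift_snd_assoc, hg]
    · ext1
      · exact hh none
      · refine h1.hom_ext fun i ↦ ?_
        have := hh (some i)
        change g ≫ snd E B ≫ p i = h ≫ snd E B ≫ p i at this
        rw [Category.assoc, Category.assoc]
        exact this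
    · have i2 : Fintype α := Fintype.ofFinite α
      have i3 : i1 = (instFintypeOption : Fintype (Option α)) := Subsingleton.elim _ _
      subst i3
      rw [Fintype.prod_option]
      have h3 := h2 i2 (fun i ↦ c (some i)) fun i ↦ hc _
      have h4 := (hc none).box h3
      rw [map_prod] at h4
      refine (congrArg Amp ?_).mp h4
      congr 1
      refine Finset.prod_congr rfl fun i _ ↦ ?_
      rw [← pull_comp]
      rfl

/-- **Products of ample classes are ample on powers.** -/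
theorem amp_prod {E A : Over (Spec (CommRingCat.of R))} {I : Type*} [Fintype I] {p : I → (A ⟶ E)} (hp : IsPw p)
    (c : I → Pic E.left) (hc : ∀ i, Amp (c i)) :
    Amp (∏ i, Groth.Agent.Grpsch.PicGrp.pull (p i).left (c i)) := by
  obtain ⟨B, q, h1, h2⟩ := exists_pw E I
  obtain ⟨f, hf⟩ := h1.exists_lift p
  obtain ⟨g, hg⟩ := hp.exists_lift q
  have e1 : f ≫ g = 𝟙 A := hp.hom_ext fun i ↦ by rw [Category.assoc, hg, hf, Category.id_comp]
  have e2 : g ≫ f = 𝟙 B := h1.hom_ext fun i ↦ by rw [Category.assoc, hf, hg, Category.id_comp]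
  have i1 : IsIso f := ⟨g, e1, e2⟩
  have i2 : IsIso f.left := inferInstanceAs (IsIso ((Over.forget _).map f))
  have h3 := (h2 inferInstance c hc).pull f.left
  rw [map_prod] at h3
  refine (congrArg Amp ?_).mp h3
  refine Finset.prod_congr rfl fun i _ ↦ ?_
  rw [← pull_comp, ← Over.comp_left, hf]

end prod

end K732.HAmp
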