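import Groth.Agent.AbDual.K732.HAdj

/-!
# A class on an isogenous abelian scheme with prescribed restriction to the special fibre

`v : A ⟶ X`, `w : X ⟶ A` quasi-inverse to each other over `S`, `γ : A ⟶ A`, `V = e ∘ v₀` with `V ≫ V = -γ₀` over
`S₀`; then `B = D (w^* c) 1 (w ≫ γ ≫ v)` restricts to `(e^* c₀) ^ (2 m³)`.
-/

set_option autoImplicit false
set_option linter.unusedSectionVars false
universe u

open CategoryTheory Limits MonoidalCategory CartesianMonoidalCategory AlgebraicGeometry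
open scoped MonObj

namespace K732.HBas

open Groth.Agent.Grpsch.PicGrp Groth.Agent.Fga.RigGrp K732.PicZero K732.Prim K732.Dual K732.CubeSec
open K528.MumZero K732.BC K814.MumHom K732.HQuad K732.HPow

section one

variable {S : Scheme.{u}} {A : Over S} [GrpObj A]

/-- `D` of homomorphisms is rigidified. -/
theorem D_rig {X : Over S} [GrpObj X] {c : Pic A.left} (hc : pull (η[A] : 𝟙_ (Over S) ⟶ A).left c = 1)
    (a b : X ⟶ A) [IsMonHom a] [IsMonHom b] : pull (η[X] : 𝟙_ (Over S) ⟶ X).left (D c a b) = 1 := by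
  rw [D_comp, IsMonHom.one_hom, MonObj.one_eq_one, D_one_left hc]

variable [IsCommMonObj A] [IsProper A.hom] [Flat A.hom]
  [LocallyOfFinitePresentation A.hom] [GeometricallyIntegral A.hom]

/-- `D` of homomorphisms is symmetric. -/
theorem D_sym {X : Over S} [GrpObj X] {c : Pic A.left} (hc : pull (η[A] : 𝟙_ (Over S) ⟶ A).left c = 1)
    (a b : X ⟶ A) [IsMonHom a] [IsMonHom b] : pull ((𝟙 X)⁻¹ : X ⟶ X).left (D c a b) = D c a b := by
  rw [D_comp, GrpObj.inv_comp, GrpObj.inv_comp, Category.id_comp, Category.id_comp, D_inv_left hc,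
    D_inv_right hc, inv_inv]

omit [IsProper A.hom] [Flat A.hom] [LocallyOfFinitePresentation A.hom] [GeometricallyIntegral A.hom] in
theorem comp_pow_comp {W : Over S} (a : W ⟶ A) (b : A ⟶ A) [IsMonHom b] (m : ℕ) :
    a ≫ ((𝟙 A : A ⟶ A) ^ m) ≫ b = (a ≫ b) ^ m := by
  rw [MonObj.pow_comp, MonObj.comp_pow, Category.id_comp]

omit [IsProper A.hom] [Flat A.hom] [LocallyOfFinitePresentation A.hom] [GeometricallyIntegral A.hom] in
theorem key_comp {m : ℕ} {V w : A ⟶ A} [IsMonHom V] [IsMonHom w] (h1 : V ≫ w = (𝟙 A : A ⟶ A) ^ m)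
    (h2 : w ≫ V = (𝟙 A : A ⟶ A) ^ m) : (w ≫ (V ≫ V)⁻¹ ≫ V) ≫ w ≫ w = (𝟙 A) ^ (-((m : ℤ) ^ 3)) := by
  have e1 : (w ≫ (V ≫ V)⁻¹ ≫ V) ≫ w ≫ w = (w ≫ V ≫ V ≫ V ≫ w ≫ w)⁻¹ := by
    rw [GrpObj.inv_comp, GrpObj.comp_inv, GrpObj.inv_comp]
    simp only [Category.assoc]
  have e2 : w ≫ V ≫ V ≫ V ≫ w ≫ w = (𝟙 A : A ⟶ A) ^ (m ^ 3) := by
    have e3 : w ≫ V ≫ V ≫ V ≫ w ≫ w = w ≫ V ≫ (V ≫ (V ≫ w) ≫ w) := by simp only [Category.assoc]
    rw [e3, h1, comp_pow_comp, h1, MonObj.comp_pow, MonObj.comp_pow, MonObj.comp_pow, MonObj.comp_pow,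
      Category.comp_id, h2]
    rw [← pow_mul, ← pow_mul]
    congr 1
    ring
  rw [e1, e2, zpow_neg, ← zpow_natCast]
  push_cast
  rfl

end one

section two

variable {S S₀ : Scheme.{u}} (k : S₀ ⟶ S) {A X : Over S} [GrpObj A] [GrpObj X] [IsCommMonObj A]
  [IsProper A.hom] [Smooth A.hom] [GeometricallyConnected A.hom]
  {c : Pic A.left} (hc : pull (η[A] : 𝟙_ (Over S) ⟶ A).left c = 1)
  (hs : pull ((𝟙 A)⁻¹ : A ⟶ A).left c = c)

include hc hs

theorem exists_B [IsCommMonObj X] [IsProper X.hom] [Smooth X.hom] [GeometricallyConnected X.hom]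
    (v : A ⟶ X) (w : X ⟶ A) (γ : A ⟶ A) [IsMonHom v] [IsMonHom w] [IsMonHom γ] {m : ℕ}
    (e : Red.bc k X ≅ Red.bc k A) [IsMonHom e.hom] (V w₀ : Red.bc k A ⟶ Red.bc k A) [IsMonHom V] [IsMonHom w₀]
    (hV : (Over.pullback k).map v ≫ e.hom = V) (hw : (Over.pullback k).map w = e.hom ≫ w₀)
    (hγ : V ≫ V = ((Over.pullback k).map γ)⁻¹) (h1 : V ≫ w₀ = (𝟙 (Red.bc k A) : Red.bc k A ⟶ Red.bc k A) ^ m)
    (h2 : w₀ ≫ V = (𝟙 (Red.bc k A) : Red.bc k A ⟶ Red.bc k A) ^ m)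
    (hadj : IsAdj (pull (pullback.fst A.hom k) c : Pic (Red.bc k A).left) w₀ w₀⁻¹) :
    ∃ B : Pic X.left, pull (η[X] : 𝟙_ (Over S) ⟶ X).left B = 1 ∧
      pull ((𝟙 X)⁻¹ : X ⟶ X).left B = B ∧ pull (pullback.fst X.hom k) B =
        (pull e.hom.left (pull (pullback.fst A.hom k) c)) ^ (2 * (m : ℤ) ^ 3) := by
  have gi : GeometricallyIntegral A.hom := K814.AbBasic.geometricallyIntegral A
  have gX : GeometricallyIntegral X.hom := K814.AbBasic.geometricallyIntegral X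
  have hc' : pull (η[X] : 𝟙_ (Over S) ⟶ X).left (pull w.left c) = 1 := by
    rw [← pull_comp, ← Over.comp_left, IsMonHom.one_hom, hc]
  have hmap : ∀ {Y Z : Over S} (f : Y ⟶ Z) (d : Pic Z.left),
      pull (pullback.fst Y.hom k) (pull f.left d) =
        pull ((Over.pullback k).map f).left (pull (pullback.fst Z.hom k) d) := by
    intro Y Z f d
    rw [← pull_comp, ← pull_comp]
    congr 2
    exact (pullback.lift_fst _ _ _).symm
  refine ⟨D (pull w.left c) (𝟙 X) (w ≫ γ ≫ v), D_rig hc' _ _, D_sym hc' _ _, ?_⟩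
  -- on the special fibre
  let A₀ := Red.bc k A
  let X₀ := Red.bc k X
  let c₀ : Pic A₀.left := pull (pullback.fst A.hom k) c
  have j1 : IsProper A₀.hom := inferInstanceAs (IsProper (pullback.snd A.hom k))
  have j2 : Smooth A₀.hom := inferInstanceAs (Smooth (pullback.snd A.hom k))
  have j3 : GeometricallyConnected A₀.hom :=
    inferInstanceAs (GeometricallyConnected (pullback.snd A.hom k))
  have j4 : GeometricallyIntegral A₀.hom := K814.AbBasic.geometricallyIntegral A₀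
  have hc₀ : pull (η[A₀] : 𝟙_ (Over S₀) ⟶ A₀).left c₀ = 1 := by
    rw [MonObj.one_eq_one, ← up_one, ← pull_comp, up_left_fst]
    exact pull_one_pt hc
  have hs₀ : pull ((𝟙 A₀)⁻¹ : A₀ ⟶ A₀).left c₀ = c₀ := by
    have h := hmap ((𝟙 A)⁻¹ : A ⟶ A) c
    rw [hs] at h
    have h' : (Over.pullback k).map ((𝟙 A)⁻¹ : A ⟶ A) = (𝟙 A₀)⁻¹ := by
      have := Functor.map_inv' (Over.pullback k) (𝟙 A : A ⟶ A)
      rw [this, (Over.pullback k).map_id]
    rw [h'] at h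
    exact h.symm
  have hv : (Over.pullback k).map v = V ≫ e.inv := by
    rw [← hV, Category.assoc, e.hom_inv_id, Category.comp_id]
  have hγ' : (Over.pullback k).map γ = (V ≫ V)⁻¹ := by rw [hγ, inv_inv]
  have i4 : IsMonHom (V ≫ V) := inferInstance
  have e1 : (Over.pullback k).map (w ≫ γ ≫ v) = e.hom ≫ (w₀ ≫ (V ≫ V)⁻¹ ≫ V) ≫ e.inv := by
    rw [Functor.map_comp, Functor.map_comp, hw, hv, hγ']
    simp only [Category.assoc]
  rw [D_bc, hmap, hw, e1, (Over.pullback k).map_id, Over.comp_left, pull_comp]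
  have e2 := D_pull (A := X₀) (B := A₀) (pull w₀.left c₀) e.hom (𝟙 X₀) (e.hom ≫ (w₀ ≫ (V ≫ V)⁻¹ ≫ V) ≫ e.inv)
  refine e2.trans ?_
  have e3 : (e.hom ≫ (w₀ ≫ (V ≫ V)⁻¹ ≫ V) ≫ e.inv) ≫ e.hom = e.hom ≫ (w₀ ≫ (V ≫ V)⁻¹ ≫ V) := by
    simp only [Category.assoc, e.inv_hom_id, Category.comp_id]
  have e4 : 𝟙 X₀ ≫ e.hom = e.hom ≫ 𝟙 A₀ := by rw [Category.id_comp, Category.comp_id]
  rw [e3, e4]
  have e5 := D_comp (A := A₀) (pull w₀.left c₀) e.hom (𝟙 A₀) (w₀ ≫ (V ≫ V)⁻¹ ≫ V)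
  refine e5.symm.trans ?_
  have e6 := D_pull_adj hc₀ hs₀ hadj ((m : ℤ) ^ 3) (key_comp h1 h2)
  rw [e6, map_zpow]

end two

end K732.HBas
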