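import Groth.Agent.AbDual.K732.HNorm

/-!
# The eigenvector half of the construction of CM abelian schemes (node `CMB` of the Honda–Tate project)
-/

set_option autoImplicit false
set_option linter.unusedSectionVars false
universe u

open CategoryTheory Limits MonoidalCategory CartesianMonoidalCategory AlgebraicGeometry
open scoped MonObj NumberField

namespace K732.HCMB

open K511.HT K988.LieModel K732.HLie K732.HLie2 K732.HPsi K732.HNorm

section alg

variable {F : Type} [Field F] [NumberField F] {δ : 𝓞 F}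

theorem monic : (Polynomial.X ^ 2 + Polynomial.C δ : Polynomial (𝓞 F)).Monic := by
  monicity!

theorem exists_repr (b : OD F δ) : ∃ a₀ a₁ : 𝓞 F, b = AdjoinRoot.of _ a₀ + AdjoinRoot.of _ a₁ * AdjoinRoot.root _ := by
  obtain ⟨P, rfl⟩ := AdjoinRoot.mk_surjective b
  induction P using Polynomial.induction_on with
  | C a => exact ⟨a, 0, by rw [map_zero, zero_mul, add_zero]; rfl⟩
  | add P Q hP hQ =>
    obtain ⟨a₀, a₁, h⟩ := hP
    obtain ⟨b₀, b₁, h'⟩ := hQ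
    refine ⟨a₀ + b₀, a₁ + b₁, ?_⟩
    rw [map_add, h, h', map_add, map_add]
    ring
  | monomial n a h =>
    obtain ⟨a₀, a₁, h⟩ := h
    refine ⟨-(δ * a₁), a₀, ?_⟩
    have h1 : AdjoinRoot.root (Polynomial.X ^ 2 + Polynomial.C δ) * AdjoinRoot.root (Polynomial.X ^ 2 + Polynomial.C δ) =
        -AdjoinRoot.of (Polynomial.X ^ 2 + Polynomial.C δ) δ := by
      rw [← root_sq, pow_two (AdjoinRoot.root (Polynomial.X ^ 2 + Polynomial.C δ))]
    rw [pow_succ Polynomial.X n, ← mul_assoc, map_mul, h, AdjoinRoot.mk_X, add_mul, mul_assoc, h1, map_neg, map_mul]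
    ring

instance finite_OD : Module.Finite ℤ (OD F δ) := by
  have h1 : Module.Finite (𝓞 F) (OD F δ) := monic.finite_adjoinRoot
  exact Module.Finite.trans (𝓞 F) (OD F δ)

end alg

section wring

variable {W : Type u} [CommRing W] [IsDomain W] [IsDiscreteValuationRing W] {r : ℕ}
  (hW : IsLocalRing.maximalIdeal W = Ideal.span {(r : W)})

include hW

theorem pow_eq (n : ℕ) : IsLocalRing.maximalIdeal W ^ n = Ideal.span {(r : W) ^ n} := by
  rw [hW, Ideal.span_singleton_pow]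

theorem isUnit_natCast (hr : r.Prime) {m : ℕ} (hm : ¬ r ∣ m) : IsUnit (m : W) := by
  by_contra h
  have h1 : (m : W) ∈ IsLocalRing.maximalIdeal W := (IsLocalRing.mem_maximalIdeal _).2 h
  have h2 : (r : W) ∈ IsLocalRing.maximalIdeal W := by
    rw [hW]
    exact Ideal.mem_span_singleton_self _
  obtain ⟨a, b, hab⟩ := Nat.isCoprime_iff_coprime.2 ((Nat.Prime.coprime_iff_not_dvd hr).2 hm)
  have h3 : (1 : W) = a * r + b * m := by
    have := congrArg (Int.cast : ℤ → W) hab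
    push_cast at this
    exact this.symm
  exact (IsLocalRing.maximalIdeal.isMaximal W).ne_top
    ((Ideal.eq_top_iff_one _).2 (h3 ▸ add_mem (Ideal.mul_mem_left _ _ h2) (Ideal.mul_mem_left _ _ h1)))

theorem exists_notMem {s : W} (hs : s ≠ 0) : ∃ c : ℕ, s ∉ Ideal.span {(r : W) ^ c} := by
  by_contra h
  push Not at h
  apply hs
  have h1 := Ideal.iInf_pow_eq_bot_of_isLocalRing (IsLocalRing.maximalIdeal W)
    (IsLocalRing.maximalIdeal.isMaximal W).ne_top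
  rw [← Ideal.mem_bot, ← h1, Ideal.mem_iInf]
  intro c
  rw [pow_eq hW]
  exact h c

end wring

section core

variable {S : Scheme.{u}} {B : Type u} [CommRing B] (f : Spc B ⟶ S) {A X : Over S} [GrpObj A] [GrpObj X]
  [IsCommMonObj A] [IsCommMonObj X]

/-- `w h v` acts on `v(u)` as `m h` on `u`. -/
theorem lieMap_conj {v : EndAV.Hom A X} {w : EndAV.Hom X A} {h : EndAV.End A} {m : ℕ}
    (hvw : v ≫ w = (m : EndAV.End A)) {u : LL f A} {a : B} (hu : lieMap f h u = a • u) :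
    lieMap f (w ≫ (h : EndAV.Hom A A) ≫ v : EndAV.Hom X X) (lieMap f v u) = (m : B) • a • lieMap f v u := by
  have h1 : lieMap f (w ≫ (h : EndAV.Hom A A) ≫ v : EndAV.Hom X X) (lieMap f v u) =
      lieMap f v (lieMap f h (lieMap f w (lieMap f v u))) := by
    rw [lieMap_comp, lieMap_comp]
    rfl
  have h2 : lieMap f w (lieMap f v u) = (m : B) • u := by
    have h3 : lieMap f w (lieMap f v u) = lieMap f (v ≫ w : EndAV.Hom A A) u := by
      rw [lieMap_comp]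
      rfl
    rw [h3, hvw, lieMap_natCast]
  rw [h1, h2, map_smul, map_smul, hu, map_smul]

end core

section step

variable {W : Type u} [CommRing W] {r : ℕ} {B : Type u} [CommRing B] (h : W →+* B) (hh : Function.Surjective h)
  {n : ℕ} (hker : RingHom.ker h = Ideal.span {(r : W) ^ n}) {m : ℕ} (hm : IsUnit (m : W))

include hh hker hm

/-- One approximate eigenvector. -/
theorem approx {g : ℕ} {A X Y E : Over (Spc W)} [GrpObj A] [GrpObj X] [GrpObj Y] [GrpObj E]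
    [IsCommMonObj A] [IsCommMonObj X] [IsCommMonObj Y] [IsCommMonObj E] (cY : Chart W Y g) (cE : Chart W E 1)
    {v : EndAV.Hom A X} {w : EndAV.Hom X A} (hvw : v ≫ w = (m : EndAV.End A))
    (ε : Red.bc (spm h) Y ≅ Red.bc (spm h) X) (hεm : IsMonHom ε.hom) (u₀ : LL (𝟙 (Spc W)) A) :
    ∃ v₁ : LL (𝟙 (Spc W)) Y,
      (∀ (c : ℕ), c ≤ n → ∀ (p : EndAV.Hom A E), (∃ w', v₁ = (r : W) ^ c • w') →
        cE.co (𝟙 (Spc W)) (lieMap (𝟙 (Spc W)) p u₀) 0 ∈ Ideal.span {(r : W) ^ c}) ∧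
      ∀ (a : EndAV.End Y) (k : EndAV.End A) (τ : W), lieMap (𝟙 (Spc W)) k u₀ = τ • u₀ →
        (∃ κ : EndAV.End (Red.bc (spm h) X),
          ε.inv ≫ (bcEnd (spm h) Y ((m : EndAV.End Y) * a)).toHom ≫ ε.hom =
            (bcEnd (spm h) X ((w ≫ (k : EndAV.Hom A A) ≫ v : EndAV.Hom X X) : EndAV.End X) +
                (r : EndAV.End _) ^ n * κ).toHom) →
        ∃ w', lieMap (𝟙 (Spc W)) a v₁ - τ • v₁ = (r : W) ^ n • w' := by
  have hmu : IsUnit ((m : ℕ) : B) := by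
    have h1 := hm.map h
    rwa [map_natCast] at h1
  have hrn : ((r : ℕ) : B) ^ n = 0 := by
    have h1 : h ((r : W) ^ n) = 0 := by
      rw [← RingHom.mem_ker, hker]
      exact Ideal.mem_span_singleton_self _
    rwa [map_pow, map_natCast] at h1
  obtain ⟨Ψ, hΨ⟩ := exists_psi (spm h) ε
  let f : Spc B ⟶ Spc W := 𝟙 _ ≫ spm h
  let y₀ : LL f X := lieMap f v (rd h A u₀)
  obtain ⟨v₁, hv₁⟩ := rd_surjective h cY hh (Ψ y₀)
  refine ⟨v₁, fun c hc p ↦ ?_, fun a k τ hτ hκ ↦ ?_⟩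
  · rintro ⟨w', hw'⟩
    have h1 : y₀ = h ((r : W) ^ c) • Ψ.symm (rd h Y w') := by
      apply Ψ.injective
      rw [map_smul, LinearEquiv.apply_symm_apply, ← rd_smul, ← hw', hv₁]
    have h2 : lieMap f w y₀ = (m : B) • rd h A u₀ := by
      have h3 : lieMap f w y₀ = lieMap f (v ≫ w : EndAV.Hom A A) (rd h A u₀) := by
        rw [lieMap_comp]
        rfl
      rw [h3, hvw, lieMap_natCast]
    have h3 : lieMap f p (lieMap f w y₀) = (m : B) • rd h E (lieMap (𝟙 (Spc W)) p u₀) := by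
      rw [h2, map_smul, rd_lieMap]
    rw [h1, map_smul, map_smul] at h3
    have h4 := congrArg (fun t ↦ cE.co f t 0) h3
    simp only [map_smul, Pi.smul_apply, smul_eq_mul] at h4
    obtain ⟨t, ht⟩ := hh (cE.co f (lieMap f p (lieMap f w (Ψ.symm (rd h Y w')))) 0)
    have h5 : cE.co f (rd h E (lieMap (𝟙 (Spc W)) p u₀)) 0 =
      h (cE.co (𝟙 (Spc W)) (lieMap (𝟙 (Spc W)) p u₀) 0) := co_rd h cE _ _
    rw [← ht, h5, ← map_natCast h, ← map_mul, ← map_mul] at h4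
    have h6 : (m : W) * cE.co (𝟙 (Spc W)) (lieMap (𝟙 (Spc W)) p u₀) 0 - (r : W) ^ c * t ∈
        Ideal.span {(r : W) ^ c} := by
      have h7 : Ideal.span {(r : W) ^ n} ≤ Ideal.span {(r : W) ^ c} :=
        Ideal.span_singleton_le_span_singleton.2 (pow_dvd_pow _ hc)
      apply h7
      rw [← hker, RingHom.mem_ker, map_sub, h4, sub_self]
    have h7 : (m : W) * cE.co (𝟙 (Spc W)) (lieMap (𝟙 (Spc W)) p u₀) 0 ∈ Ideal.span {(r : W) ^ c} := by
      have h8 := add_mem h6 (Ideal.mul_mem_right t _ (Ideal.mem_span_singleton_self ((r : W) ^ c)))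
      rwa [sub_add_cancel] at h8
    obtain ⟨m', hm'⟩ := hm
    rw [← hm'] at h7
    have h8 := Ideal.mul_mem_left _ (m'⁻¹ : Wˣ).1 h7
    rwa [← mul_assoc, Units.inv_mul, one_mul] at h8
  · obtain ⟨κ, hκ⟩ := hκ
    have h1 := hΨ _ _ κ r n hrn hκ y₀
    have h2 : lieMap f k (rd h A u₀) = h τ • rd h A u₀ := by
      rw [← rd_smul, ← hτ, rd_lieMap]
    have h3 := lieMap_conj f hvw h2
    have h4 : lieMap f ((m : EndAV.End Y) * a : EndAV.End Y) (Ψ y₀) = (m : B) • lieMap f a (Ψ y₀) := by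
      have h5 : lieEnd f Y ((m : EndAV.End Y) * a) (Ψ y₀) = (m : B) • lieEnd f Y a (Ψ y₀) := by
        rw [map_mul, map_natCast, Module.End.mul_apply, Module.End.natCast_apply, Nat.cast_smul_eq_nsmul]
      exact h5
    have h5 : (m : B) • lieMap f a (Ψ y₀) = (m : B) • h τ • Ψ y₀ := by
      rw [← h4, ← map_smul, ← map_smul]
      exact h1.trans (congrArg Ψ h3)
    have h6 : lieMap f a (Ψ y₀) = h τ • Ψ y₀ := by
      obtain ⟨m', hm'⟩ := hmu
      have h7 := congrArg (fun t ↦ (m'⁻¹ : Bˣ).1 • t) h5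
      simp only [← hm', smul_smul, Units.inv_mul, one_smul] at h7
      rw [h7, ← mul_assoc, Units.inv_mul, one_mul]
    refine exists_of_rd_eq_zero h cY hker.le ?_
    rw [map_sub, rd_smul, rd_lieMap, hv₁, sub_eq_zero]
    exact h6

end step

theorem lieOne {S : Scheme.{u}} {B : Type u} [CommRing B] {f : Spc B ⟶ S} {E : Over S} [GrpObj E] [IsCommMonObj E]
    (e : LL f E) : lieMap f (1 : EndAV.End E) e = (1 : B) • e := by
  have h1 : lieEnd f E 1 e = (1 : B) • e := by rw [map_one, Module.End.one_apply, one_smul]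
  exact h1

/-- **CMB**. -/
theorem main : K511.HT.CMB.{u} := by
  intro hA hE hP hXI hEV hREG r hr hr4 W _ _ _ _ _ hW hcard iW hi F _ _ _ δ x y z hx hG
  obtain ⟨D₀⟩ := hE r hr hr4 W hW hcard iW hi
  obtain ⟨D, cE, e, he0, hie⟩ := exists_norm D₀ hi
  let g : ℕ := Module.finrank ℚ F
  have hfr : Module.finrank ℤ (𝓞 F) = g := NumberField.RingOfIntegers.rank F
  let b : Module.Basis (Fin g) ℤ (𝓞 F) := (Module.finBasis ℤ (𝓞 F)).reindex (finCongr hfr)
  obtain ⟨A, _, _, p, hp, hAab⟩ := hP (Spc W) D.E D.ab g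
  obtain ⟨ξ, x1, x2, x3, x4⟩ := hXI F δ x y z r hG hx
  obtain ⟨Y, _, _, hY, ρ, hρ⟩ := hA r hr hr4 W hW D F δ x y z hx hG g b A p hp hAab ξ x1 x2 x3 x4
  refine ⟨Y, _, _, hY, ρ, fun φ t ht htx ↦ ?_⟩
  have hsm := K814.RelDim.of_isAbSch Y g hY
  obtain ⟨cY⟩ := nonempty_chart W Y g
  have ifree := free_LL cY
  have ifin := finite_LL cY
  have hr0 : (r : W) ≠ 0 := Nat.cast_ne_zero.2 hr.ne_zero
  obtain ⟨s, hs0, hs⟩ := hREG F g b W (φ.comp (AdjoinRoot.of _))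
  obtain ⟨u₀, hu₀⟩ := exists_LL_pow (𝟙 (Spc W)) hp (fun j ↦ s j • e)
  obtain ⟨j, hj⟩ : ∃ j, s j ≠ 0 := by
    by_contra h
    push Not at h
    exact hs0 (funext h)
  obtain ⟨c, hc⟩ := exists_notMem hW hj
  have key : ∃ v : LL (𝟙 (Spc W)) Y, v ≠ 0 ∧ ∀ bb : OD F δ,
      ((lieEnd (𝟙 (Spc W)) Y).comp ρ) bb v = φ bb • v := by
    refine hEV W (r : W) hr0 (LL (𝟙 (Spc W)) Y) (OD F δ) ((lieEnd (𝟙 (Spc W)) Y).comp ρ) φ c fun n ↦ ?_
    obtain ⟨N, hN, X, _, _, hX, m, hm, v, w, hvw, hwv, ε, hεm, hε⟩ := hρ (n + c)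
    have hmu := isUnit_natCast hW hr hm
    have hker : RingHom.ker (Ideal.Quotient.mk (IsLocalRing.maximalIdeal W ^ (n + c + 1))) =
        Ideal.span {(r : W) ^ (n + c + 1)} := by rw [Ideal.mk_ker, pow_eq hW]
    obtain ⟨v₁, h1, h2⟩ := approx (Ideal.Quotient.mk (IsLocalRing.maximalIdeal W ^ (n + c + 1)))
      Ideal.Quotient.mk_surjective hker hmu cY cE hvw ε hεm u₀
    refine ⟨v₁, fun ⟨w', hw'⟩ ↦ ?_, fun bb ↦ ?_⟩
    · have h3 := h1 c (by omega) (pj hp j) ⟨w', hw'⟩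
      rw [hu₀, map_smul, Pi.smul_apply, he0, smul_eq_mul, mul_one] at h3
      exact hc h3
    · obtain ⟨a₀, a₁, rfl⟩ := exists_repr bb
      obtain ⟨h₀, hh₀⟩ := exists_isRep hp b 1 a₀
      obtain ⟨h₁, hh₁⟩ := exists_isRep hp b D.i (a₁ * ξ N)
      have k0 := lieMap_rep hp hu₀ hh₀ (τ := 1) (lieOne e) (hs a₀)
      have k1 := lieMap_rep hp hu₀ hh₁ (τ := iW) hie (hs (a₁ * ξ N))
      have k2 : lieMap (𝟙 (Spc W)) (h₀ + h₁ : EndAV.End A) u₀ =
          (φ (AdjoinRoot.of _ a₀) * 1 + φ (AdjoinRoot.of _ (a₁ * ξ N)) * iW) • u₀ := by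
        have k3 : lieEnd (𝟙 (Spc W)) A (h₀ + h₁) u₀ = lieEnd (𝟙 (Spc W)) A h₀ u₀ + lieEnd (𝟙 (Spc W)) A h₁ u₀ := by
          rw [map_add, LinearMap.add_apply]
        refine k3.trans ?_
        rw [add_smul]
        exact congrArg₂ (· + ·) k0 k1
      obtain ⟨w', hw'⟩ := h2 (ρ (AdjoinRoot.of _ a₀ + AdjoinRoot.of _ a₁ * AdjoinRoot.root _)) (h₀ + h₁) _ k2
        (hε a₀ a₁ h₀ h₁ hh₀ hh₁)
      have k3 := num hr hr4 hW hx hG (x1 N) (x2 N) hi φ ht htx
      obtain ⟨q, hq⟩ := Ideal.mem_span_singleton.1 k3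
      obtain ⟨d, hd⟩ : ∃ d, N = n + d := ⟨N - n, by omega⟩
      refine ⟨(r : W) ^ (c + 1) • w' - ((r : W) ^ d * (φ (AdjoinRoot.of _ a₁) * q * iW)) • v₁, ?_⟩
      have k4 : φ (AdjoinRoot.of _ a₀ + AdjoinRoot.of _ a₁ * AdjoinRoot.root _) =
          (φ (AdjoinRoot.of _ a₀) * 1 + φ (AdjoinRoot.of _ (a₁ * ξ N)) * iW) +
            (r : W) ^ n * ((r : W) ^ d * (φ (AdjoinRoot.of _ a₁) * q * iW)) := by
        rw [map_add, map_mul, ht, map_mul (AdjoinRoot.of _), map_mul]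
        rw [hd, pow_add] at hq
        rw [← hd] at hq
        linear_combination φ (AdjoinRoot.of _ a₁) * iW * hq
      have k5 : ((lieEnd (𝟙 (Spc W)) Y).comp ρ) (AdjoinRoot.of _ a₀ + AdjoinRoot.of _ a₁ * AdjoinRoot.root _) v₁ =
          lieMap (𝟙 (Spc W)) (ρ (AdjoinRoot.of _ a₀ + AdjoinRoot.of _ a₁ * AdjoinRoot.root _)) v₁ := rfl
      rw [k5, k4, add_smul, ← sub_sub, hw', smul_sub, smul_smul, smul_smul, ← pow_add]
      rfl
  obtain ⟨v, hv0, hv⟩ := key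
  rw [eig_iff]
  let al : W →+* FractionRing W := algebraMap W (FractionRing W)
  have hal : Function.Injective al := IsFractionRing.injective W (FractionRing W)
  refine ⟨(lieBc (spm al) (𝟙 _) Y).symm (rd al Y v), ?_, fun bb ↦ ?_⟩
  · rw [Ne, LinearEquiv.map_eq_zero_iff]
    intro h
    exact hv0 (rd_injective al cY hal (by rw [h, map_zero]))
  · apply (lieBc (spm al) (𝟙 _) Y).injective
    have h1 := lieBc_lieEnd (spm al) (𝟙 _) Y (ρ bb) ((lieBc (spm al) (𝟙 _) Y).symm (rd al Y v))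
    rw [LinearEquiv.apply_symm_apply] at h1
    rw [map_smul, LinearEquiv.apply_symm_apply]
    refine h1.trans ?_
    have h2 : lieEnd (𝟙 _ ≫ spm al) Y (ρ bb) (rd al Y v) = rd al Y (lieEnd (𝟙 (Spc W)) Y (ρ bb) v) :=
      (rd_lieMap al Y (ρ bb : EndAV.Hom Y Y) v).symm
    rw [h2]
    have h3 : lieEnd (𝟙 (Spc W)) Y (ρ bb) v = φ bb • v := hv bb
    rw [h3, rd_smul]
    rfl

end K732.HCMB
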