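import Mathlib.LinearAlgebra.QuadraticForm.Basic
import Mathlib.LinearAlgebra.Matrix.BilinearForm
import Mathlib.LinearAlgebra.Matrix.ToLinearEquiv
import Mathlib.RingTheory.Localization.Integer

/-!
# Integral diagonalisation of positive definite integral matrices up to finite index
-/

set_option autoImplicit false

namespace K732.HDiag

open Matrix Module

variable {I : Type*} [Fintype I] [DecidableEq I]

/-- A symmetric integral matrix is diagonalised by an integral matrix with non-zero determinant; the diagonal entries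
are the values on non-zero vectors. -/
theorem exists_diag (T : Matrix I I ℤ) (hT : T.IsSymm) (hpos : ∀ x : I → ℤ, x ≠ 0 → 0 < x ⬝ᵥ T *ᵥ x) :
    ∃ (P : Matrix I I ℤ) (d : I → ℤ), P.det ≠ 0 ∧ (∀ i, 0 < d i) ∧ P.transpose * T * P = Matrix.diagonal d := by
  let Tq : Matrix I I ℚ := T.map (Int.cast : ℤ → ℚ)
  let B : LinearMap.BilinForm ℚ (I → ℚ) := Matrix.toBilin' Tq
  have hBa : ∀ x y, B x y = x ⬝ᵥ Tq *ᵥ y := fun x y ↦ Matrix.toBilin'_apply' Tq x y
  have hTq : Tq.transpose = Tq := by
    ext i j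
    simp only [Tq, Matrix.transpose_apply, Matrix.map_apply]
    rw [hT.apply]
  have hB : LinearMap.IsSymm B := by
    refine ⟨fun x y ↦ ?_⟩
    rw [RingHom.id_apply, hBa, hBa, Matrix.dotProduct_mulVec, ← Matrix.mulVec_transpose, hTq, dotProduct_comm]
  have i2 : Invertible (2 : ℚ) := invertibleOfNonzero two_ne_zero
  obtain ⟨v₀, hv₀⟩ := LinearMap.BilinForm.exists_orthogonal_basis hB
  have hcard : Fintype.card I = finrank ℚ (I → ℚ) := (Module.finrank_fintype_fun_eq_card ℚ).symm
  let e : Fin (finrank ℚ (I → ℚ)) ≃ I := (Fintype.equivFinOfCardEq hcard).symm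
  let v : Basis I ℚ (I → ℚ) := v₀.reindex e
  have hv : ∀ a b, a ≠ b → B (v a) (v b) = 0 := by
    intro a b hab
    simp only [v, Basis.reindex_apply]
    exact hv₀ (fun h ↦ hab (e.symm.injective h))
  obtain ⟨N, hN⟩ := IsLocalization.exist_integer_multiples_of_finite (nonZeroDivisors ℤ)
    (fun q : I × I ↦ (v q.2 q.1 : ℚ))
  choose z hz using hN
  have hN0 : ((N : ℤ) : ℚ) ≠ 0 := Int.cast_ne_zero.2 (nonZeroDivisors.coe_ne_zero N)
  let P : Matrix I I ℤ := Matrix.of fun i a ↦ z (i, a)
  have hP : ∀ i a, ((P i a : ℤ) : ℚ) = ((N : ℤ) : ℚ) * v a i := by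
    intro i a
    have := hz (i, a)
    rw [Algebra.smul_def] at this
    exact this
  have hcol : ∀ a, (fun i ↦ ((P i a : ℤ) : ℚ)) = ((N : ℤ) : ℚ) • (v a : I → ℚ) := fun a ↦ by
    ext i
    exact hP i a
  have hent : ∀ a b, (((P.transpose * T * P) a b : ℤ) : ℚ) = ((N : ℤ) : ℚ) ^ 2 * B (v a) (v b) := by
    intro a b
    have h1 : (((P.transpose * T * P) a b : ℤ) : ℚ) =
        (fun i ↦ ((P i a : ℤ) : ℚ)) ⬝ᵥ Tq *ᵥ (fun i ↦ ((P i b : ℤ) : ℚ)) := by
      simp only [Matrix.mul_apply, dotProduct, Matrix.mulVec, Matrix.transpose_apply, Tq, Matrix.map_apply]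
      push_cast
      simp only [Finset.sum_mul, Finset.mul_sum]
      rw [Finset.sum_comm]
      refine Finset.sum_congr rfl fun i _ ↦ Finset.sum_congr rfl fun j _ ↦ ?_
      ring
    rw [h1, ← hBa, hcol, hcol, map_smul, map_smul, LinearMap.smul_apply, smul_eq_mul, smul_eq_mul]
    ring
  refine ⟨P, fun a ↦ (P.transpose * T * P) a a, ?_, fun a ↦ ?_, ?_⟩
  · intro h0
    obtain ⟨x, hx, hx0⟩ := (Matrix.exists_mulVec_eq_zero_iff (M := P)).2 h0
    apply hx
    have h1 : ∑ a, ((x a : ℤ) : ℚ) • (v a : I → ℚ) = 0 := by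
      have h2 : ((N : ℤ) : ℚ) • ∑ a, ((x a : ℤ) : ℚ) • (v a : I → ℚ) = 0 := by
        ext i
        have h3 := congrFun hx0 i
        simp only [Matrix.mulVec, dotProduct, Pi.zero_apply] at h3
        have h4 := congrArg (Int.cast : ℤ → ℚ) h3
        push_cast at h4
        simp only [hP] at h4
        simp only [Pi.smul_apply, Finset.sum_apply, smul_eq_mul, Pi.zero_apply, Finset.mul_sum]
        rw [← h4]
        refine Finset.sum_congr rfl fun a _ ↦ ?_
        ring
      exact (smul_eq_zero.1 h2).resolve_left hN0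
    have h2 := Fintype.linearIndependent_iff.1 v.linearIndependent _ h1
    ext a
    exact_mod_cast h2 a
  · have h1 : (P.transpose * T * P) a a = (fun i ↦ P i a) ⬝ᵥ T *ᵥ (fun i ↦ P i a) := by
      simp only [Matrix.mul_apply, dotProduct, Matrix.mulVec, Matrix.transpose_apply]
      simp only [Finset.sum_mul, Finset.mul_sum]
      rw [Finset.sum_comm]
      refine Finset.sum_congr rfl fun i _ ↦ Finset.sum_congr rfl fun j _ ↦ ?_
      ring
    change 0 < (P.transpose * T * P) a a
    rw [h1]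
    apply hpos
    intro h2
    have h3 : ((N : ℤ) : ℚ) • (v a : I → ℚ) = 0 := by
      rw [← hcol]
      ext i
      have := congrFun h2 i
      simp only [Pi.zero_apply] at this ⊢
      rw [this, Int.cast_zero]
    exact v.ne_zero a ((smul_eq_zero.1 h3).resolve_left hN0)
  · ext a b
    by_cases hab : a = b
    · subst hab
      rw [Matrix.diagonal_apply_eq]
    · rw [Matrix.diagonal_apply_ne _ hab]
      have := hent a b
      rw [hv a b hab, mul_zero] at this
      exact_mod_cast this

end K732.HDiag
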