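import Mathlib.NumberTheory.NumberField.InfinitePlace.TotallyRealComplex
import Mathlib.RingTheory.Trace.Basic
import Mathlib.NumberTheory.NumberField.Norm
import Mathlib.RingTheory.LocalRing.Basic
import Mathlib.LinearAlgebra.Matrix.Symmetric

/-!
# The trace form of a totally real field, and a quaternion identity for matrices
-/

set_option autoImplicit false

open NumberField

namespace K732.HTrace

section form

variable (F : Type) [Field F] [NumberField F]

theorem trace_sq_pos [IsTotallyReal F] {a : F} (ha : a ≠ 0) : 0 < Algebra.trace ℚ F (a * a) := by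
  have h1 : algebraMap ℚ ℂ (Algebra.trace ℚ F (a * a)) = ∑ σ : F →ₐ[ℚ] ℂ, σ (a * a) :=
    trace_eq_sum_embeddings ℂ
  have h2 : ∀ σ : F →ₐ[ℚ] ℂ, 0 < (σ (a * a)).re := by
    intro σ
    have hr : ComplexEmbedding.IsReal (σ : F →+* ℂ) := IsTotallyReal.complexEmbedding_isReal _
    have h3 : ((hr.embedding a : ℝ) : ℂ) = σ a := hr.coe_embedding_apply a
    have h4 : hr.embedding a ≠ 0 := by
      rw [Ne, map_eq_zero]
      exact ha
    rw [map_mul, ← h3, ← Complex.ofReal_mul, Complex.ofReal_re]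
    exact mul_self_pos.2 h4
  have h3 : ((Algebra.trace ℚ F (a * a) : ℚ) : ℝ) = ∑ σ : F →ₐ[ℚ] ℂ, (σ (a * a)).re := by
    have h4 := congrArg Complex.re h1
    rw [Complex.re_sum] at h4
    rw [← h4]
    simp
  have h4 : (0 : ℝ) < ((Algebra.trace ℚ F (a * a) : ℚ) : ℝ) := by
    rw [h3]
    refine Finset.sum_pos (fun σ _ ↦ h2 σ) ?_
    have : Nonempty (F →ₐ[ℚ] ℂ) := ⟨IsAlgClosed.lift⟩
    exact Finset.univ_nonempty
  exact_mod_cast h4

variable {F} {g : ℕ} (b : Module.Basis (Fin g) ℤ (𝓞 F))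

/-- **The trace form.** -/
theorem exists_form [IsTotallyReal F] : ∃ T : Matrix (Fin g) (Fin g) ℤ, T.IsSymm ∧
    (∀ x : Fin g → ℤ, x ≠ 0 → 0 < x ⬝ᵥ (T.mulVec x)) ∧
    ∀ a, (Algebra.leftMulMatrix b a).transpose * T = T * Algebra.leftMulMatrix b a := by
  let T : Matrix (Fin g) (Fin g) ℤ := Matrix.of fun i j ↦ Algebra.trace ℤ (𝓞 F) (b i * b j)
  have hT : ∀ i j, T i j = Algebra.trace ℤ (𝓞 F) (b i * b j) := fun i j ↦ rfl
  have hrep : ∀ (a : 𝓞 F) (j : Fin g), ∑ l, Algebra.leftMulMatrix b a l j • b l = a * b j := by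
    intro a j
    simp only [Algebra.leftMulMatrix_eq_repr_mul]
    exact b.sum_repr _
  refine ⟨T, ?_, fun x hx ↦ ?_, fun a ↦ ?_⟩
  · ext i j
    rw [Matrix.transpose_apply, hT, hT, mul_comm]
  · have e1 : x ⬝ᵥ (T.mulVec x) = Algebra.trace ℤ (𝓞 F) ((∑ i, x i • b i) * (∑ j, x j • b j)) := by
      simp only [dotProduct, Matrix.mulVec, hT, Finset.sum_mul, Finset.mul_sum, map_sum, smul_mul_assoc,
        mul_smul_comm, map_smul, smul_eq_mul]
      rw [Finset.sum_comm]
      refine Finset.sum_congr rfl fun i _ ↦ Finset.sum_congr rfl fun j _ ↦ ?_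
      ring
    rw [e1]
    have h0 : (∑ i, x i • b i) ≠ 0 := by
      intro h
      apply hx
      have := Fintype.linearIndependent_iff.1 b.linearIndependent x h
      ext i
      exact this i
    have h1 : ((∑ i, x i • b i : 𝓞 F) : F) ≠ 0 := by
      rw [Ne, RingOfIntegers.coe_eq_zero_iff]
      exact h0
    have h2 := trace_sq_pos F h1
    have h3 := Algebra.coe_trace_int (K := F) ((∑ i, x i • b i) * (∑ j, x j • b j))
    have h4 : (((∑ i, x i • b i) * (∑ j, x j • b j) : 𝓞 F) : F) =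
        ((∑ i, x i • b i : 𝓞 F) : F) * ((∑ i, x i • b i : 𝓞 F) : F) := map_mul (algebraMap (𝓞 F) F) _ _
    rw [h4] at h3
    rw [← h3] at h2
    exact_mod_cast h2
  · ext i j
    have e1 : (T * Algebra.leftMulMatrix b a) i j = Algebra.trace ℤ (𝓞 F) (b i * (a * b j)) := by
      rw [Matrix.mul_apply, ← hrep a j, Finset.mul_sum, map_sum]
      refine Finset.sum_congr rfl fun l _ ↦ ?_
      rw [hT, mul_smul_comm, map_smul, smul_eq_mul, mul_comm]
    have e2 : ((Algebra.leftMulMatrix b a).transpose * T) i j = Algebra.trace ℤ (𝓞 F) ((a * b i) * b j) := by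
      rw [Matrix.mul_apply, ← hrep a i, Finset.sum_mul, map_sum]
      refine Finset.sum_congr rfl fun l _ ↦ ?_
      rw [hT, Matrix.transpose_apply, smul_mul_assoc, map_smul, smul_eq_mul]
    rw [e1, e2]
    congr 1
    ring

end form

section quat

variable {R : Type*} [Ring R] {O : Type*} [CommRing O] {g : ℕ} (b : Module.Basis (Fin g) ℤ O)

/-- The matrix of `c ⊗ j`. -/
noncomputable def N (c : O) (j : R) : Matrix (Fin g) (Fin g) R :=
  (Algebra.leftMulMatrix b c).map fun n : ℤ => (n : R) * j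

theorem N_mul (c d : O) (j l : R) : N b c j * N b d l = N b (c * d) (j * l) := by
  ext i k
  simp only [N, Matrix.mul_apply, Matrix.map_apply, map_mul]
  push_cast
  rw [Finset.sum_mul]
  refine Finset.sum_congr rfl fun t _ ↦ ?_
  have h := (Int.cast_commute (Algebra.leftMulMatrix b d t k) j).eq
  rw [mul_assoc, ← mul_assoc j, ← h]
  simp only [mul_assoc]

theorem N_add_left (c d : O) (j : R) : N b (c + d) j = N b c j + N b d j := by
  ext i k
  simp [N, add_mul]

theorem N_neg_right (c : O) (j : R) : N b c (-j) = -N b c j := by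
  ext i k
  simp [N]

theorem N_natCast_mul (c : O) (r : ℕ) (j : R) : N b c ((r : R) * j) = N b ((r : O) * c) j := by
  ext i k
  simp only [N, Matrix.map_apply]
  have h : Algebra.leftMulMatrix b ((r : O) * c) i k = (r : ℤ) * Algebra.leftMulMatrix b c i k := by
    rw [map_mul, map_natCast]
    simp [Matrix.mul_apply, Matrix.natCast_apply]
  rw [h]
  push_cast
  rw [← mul_assoc, (Nat.cast_commute r _).eq]

/-- `(a i + y F + z i F)² = -(a² + r (y² + z²))`. -/
theorem sq_eq (i F : R) (r : ℕ) (hi : i * i = -1) (hF : F * F = -(r : R)) (hFi : F * i = -(i * F)) (a y z : O) :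
    (N b a i + N b y F + N b z (i * F)) * (N b a i + N b y F + N b z (i * F)) =
      -N b (a ^ 2 + (r : O) * (y ^ 2 + z ^ 2)) 1 := by
  have e1 : i * (i * F) = -F := by rw [← mul_assoc, hi, neg_one_mul]
  have e2 : F * (i * F) = (r : R) * i := by
    rw [← mul_assoc, hFi, neg_mul, mul_assoc, hF, mul_neg, neg_neg, (Nat.cast_commute r i).eq]
  have e3 : (i * F) * i = F := by rw [mul_assoc, hFi, mul_neg, e1, neg_neg]
  have e4 : (i * F) * F = -((r : R) * i) := by rw [mul_assoc, hF, mul_neg, (Nat.cast_commute r i).eq]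
  have e5 : (i * F) * (i * F) = -(r : R) := by
    rw [mul_assoc, e2, ← mul_assoc, ← (Nat.cast_commute r i).eq, mul_assoc, hi, mul_neg, mul_one]
  simp only [add_mul, mul_add, N_mul, hi, hF, hFi, e1, e2, e3, e4, e5, N_neg_right]
  have e6 : ∀ c : O, N b c (r : R) = N b ((r : O) * c) (1 : R) := fun c ↦ by
    rw [← N_natCast_mul, mul_one]
  rw [e6, e6, N_add_left, N_add_left, mul_comm y a, mul_comm z a, mul_comm z y, ← pow_two, ← pow_two, ← pow_two]
  abel

end quat

end K732.HTrace
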