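import Groth.Agent.AbDual.K732.HMat
import Groth.Agent.AbDual.K732.HAdj
import Groth.Agent.AbDual.K732.HTrace
import Groth.Agent.AbVar.K511.HT.Iface

/-!
# Endomorphisms of powers given by matrices of endomorphisms (interface of the Honda–Tate project)
-/

set_option autoImplicit false
set_option linter.unusedSectionVars false
universe u

open CategoryTheory Limits MonoidalCategory CartesianMonoidalCategory AlgebraicGeometry
open scoped MonObj

namespace K732.HIsMat

open Groth.Agent.Grpsch.PicGrp Groth.Agent.Fga.RigGrp K732.BC K732.HQuad K732.HPow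

section pow

variable {S : Scheme.{u}} {E A : Over S} [GrpObj E] [GrpObj A] {g : ℕ} {p : Fin g → (A ⟶ E)}

theorem isPow_of (h : K511.HT.IsPow E A p) : HPow.IsPow p where
  exists_lift f := (h.lift _ f).exists
  hom_ext {T a b} hab := (h.lift T fun j ↦ b ≫ p j).unique hab fun _ ↦ rfl
  isMonHom := h.hom

/-- Powers are stable under base change. -/
theorem isPow_bc {S' : Scheme.{u}} (k : S' ⟶ S) (h : HPow.IsPow p) :
    HPow.IsPow (E := Red.bc k E) (A := Red.bc k A) fun j ↦ (Over.pullback k).map (p j) where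
  exists_lift {T} f := by
    choose a ha using fun i ↦ exists_up (f i)
    obtain ⟨w, hw⟩ := h.exists_lift a
    refine ⟨up w, fun i ↦ ?_⟩
    have h1 := up_comp w (p i)
    exact h1.symm.trans (by rw [hw, ha])
  hom_ext {T x y} hxy := by
    obtain ⟨a, rfl⟩ := exists_up x
    obtain ⟨b, rfl⟩ := exists_up y
    congr 1
    refine h.hom_ext fun i ↦ up_inj (k := k) ?_
    rw [up_comp, up_comp]
    exact hxy i
  isMonHom j := by
    have := h.isMonHom j
    infer_instance

end pow

section mat

variable {S : Scheme.{u}} {E A : Over S} [GrpObj E] [GrpObj A] [IsCommMonObj E] [IsCommMonObj A] {g : ℕ}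
  {p : Fin g → (A ⟶ E)}

theorem comp_toHom_sum {X : Over S} (f : X ⟶ E) {I : Type*} (s : Finset I) (x : I → EndAV.End E) :
    f ≫ (∑ i ∈ s, x i).toHom = ∏ i ∈ s, f ≫ (x i).toHom := by
  classical
  induction s using Finset.induction_on with
  | empty =>
    rw [Finset.sum_empty, Finset.prod_empty, EndAV.End.toHom_zero, MonObj.comp_one]
  | insert i s hi ih =>
    rw [Finset.sum_insert hi, Finset.prod_insert hi, EndAV.End.toHom_add, MonObj.comp_mul, ih]

theorem prod_comp {X : Over S} {I : Type*} (s : Finset I) (x : I → (X ⟶ E)) (f : E ⟶ E) [IsMonHom f] :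
    (∏ i ∈ s, x i) ≫ f = ∏ i ∈ s, x i ≫ f := by
  classical
  induction s using Finset.induction_on with
  | empty => rw [Finset.prod_empty, Finset.prod_empty, MonObj.one_comp]
  | insert i s hi ih => rw [Finset.prod_insert hi, Finset.prod_insert hi, MonObj.mul_comp, ih]

theorem IsMat.mul {B B' : Matrix (Fin g) (Fin g) (EndAV.End E)} {f f' : EndAV.End A}
    (h : K511.HT.IsMat p B f) (h' : K511.HT.IsMat p B' f') : K511.HT.IsMat p (B * B') (f * f') := by
  intro j
  rw [EndAV.End.toHom_mul, Category.assoc, h j, comp_prod]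
  have e1 : ∀ l, f'.toHom ≫ p l ≫ (B j l).toHom = ∏ m, p m ≫ (B j l * B' l m).toHom := fun l ↦ by
    rw [← Category.assoc, h' l, prod_comp]
    refine Finset.prod_congr rfl fun m _ ↦ ?_
    rw [EndAV.End.toHom_mul, Category.assoc]
  simp only [e1]
  rw [Finset.prod_comm]
  refine Finset.prod_congr rfl fun m _ ↦ ?_
  rw [Matrix.mul_apply, comp_toHom_sum]

theorem IsMat.add (hp : ∀ j, IsMonHom (p j)) {B B' : Matrix (Fin g) (Fin g) (EndAV.End E)} {f f' : EndAV.End A}
    (h : K511.HT.IsMat p B f) (h' : K511.HT.IsMat p B' f') : K511.HT.IsMat p (B + B') (f + f') := by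
  intro j
  have := hp j
  rw [EndAV.End.toHom_add, MonObj.mul_comp, h j, h' j, ← Finset.prod_mul_distrib]
  refine Finset.prod_congr rfl fun l _ ↦ ?_
  rw [Matrix.add_apply, EndAV.End.toHom_add, MonObj.comp_mul]

theorem IsMat.neg (hp : ∀ j, IsMonHom (p j)) {B : Matrix (Fin g) (Fin g) (EndAV.End E)} {f : EndAV.End A}
    (h : K511.HT.IsMat p B f) : K511.HT.IsMat p (-B) (-f) := by
  intro j
  have := hp j
  rw [EndAV.End.toHom_neg, GrpObj.inv_comp, h j, ← Finset.prod_inv_distrib]
  refine Finset.prod_congr rfl fun l _ ↦ ?_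
  rw [Matrix.neg_apply, EndAV.End.toHom_neg, GrpObj.comp_inv]

theorem IsMat.unique (hp : HPow.IsPow p) {B : Matrix (Fin g) (Fin g) (EndAV.End E)} {f f' : EndAV.End A}
    (h : K511.HT.IsMat p B f) (h' : K511.HT.IsMat p B f') : f = f' :=
  EndAV.End.ext (hp.hom_ext fun j ↦ by rw [h j, h' j])

/-- The matrix `μ ⊗ j` in terms of powers. -/
theorem isMat_map_iff {M : Matrix (Fin g) (Fin g) ℤ} {u : EndAV.End E} {f : EndAV.End A} :
    K511.HT.IsMat p (M.map fun n : ℤ => (n : EndAV.End E) * u) f ↔
      ∀ j, f.toHom ≫ p j = ∏ l, (p l ≫ u.toHom) ^ M j l := by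
  have h1 : ∀ j l, p l ≫ ((M.map fun n : ℤ => (n : EndAV.End E) * u) j l).toHom =
      (p l ≫ u.toHom) ^ M j l := fun j l ↦ by
    rw [Matrix.map_apply, EndAV.End.toHom_mul, EndAV.End.toHom_intCast, GrpObj.comp_zpow, Category.comp_id,
      GrpObj.comp_zpow]
  constructor
  · intro h j
    rw [h j]
    exact Finset.prod_congr rfl fun l _ ↦ h1 j l
  · intro h j
    rw [h j]
    exact (Finset.prod_congr rfl fun l _ ↦ h1 j l).symm

/-- Base change as a homomorphism. -/
noncomputable def mapHom {S' : Scheme.{u}} (k : S' ⟶ S) (X : Over S) : (X ⟶ E) →* (Red.bc k X ⟶ Red.bc k E) where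
  toFun f := (Over.pullback k).map f
  map_one' := Functor.map_one (Over.pullback k)
  map_mul' f f' := Functor.map_mul (Over.pullback k) f f'

/-- Integral matrices on the base change. -/
theorem isMat_bc {S' : Scheme.{u}} (k : S' ⟶ S) {M : Matrix (Fin g) (Fin g) ℤ} {X : A ⟶ A}
    (hX : K732.HMat.IsMat p M X) :
    K732.HMat.IsMat (E := Red.bc k E) (A := Red.bc k A) (fun j ↦ (Over.pullback k).map (p j)) M
      ((Over.pullback k).map X) := by
  intro i
  have h1 : mapHom k A (X ≫ p i) = mapHom k A (∏ j, p j ^ M i j) := by rw [hX i]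
  rw [map_prod] at h1
  refine ((Over.pullback k).map_comp X (p i)).symm.trans (h1.trans ?_)
  refine Finset.prod_congr rfl fun j _ ↦ ?_
  exact map_zpow (mapHom k A) (p j) (M i j)

end mat

end K732.HIsMat
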