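import Groth.Agent.AbDual.K732.HMat
import Groth.Agent.AbDual.K732.HAmp
import Groth.Agent.AbDual.K732.HDiag
import Groth.Agent.S0052
import Groth.Agent.Grpsch.MulFin

/-!
# `Q_T` is ample for `T` positive definite
-/

set_option autoImplicit false
set_option linter.unusedSectionVars false
universe u

open CategoryTheory Limits MonoidalCategory CartesianMonoidalCategory AlgebraicGeometry
open scoped MonObj

namespace K732.HPos

open Groth.Agent.Grpsch.PicGrp K732.HQuad K732.HPow K732.HMat K732.HAmp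

variable {k : Type u} [Field k] {E A : Over (Spec (CommRingCat.of k))} [GrpObj E] [GrpObj A] [IsCommMonObj E]
  [IsProper E.hom] [GeometricallyIntegral E.hom] [IsProper A.hom] [GeometricallyIntegral A.hom]
  {I : Type*} [Fintype I] [DecidableEq I] {p : I → (A ⟶ E)} (hp : IsPow p)

include hp

/-- A matrix with non-zero determinant gives a finite surjective morphism. -/
theorem isFinite_of_det {M : Matrix I I ℤ} (hM : M.det ≠ 0) {X : A ⟶ A} (hX : IsMat p M X) :
    IsFinite X.left ∧ Surjective X.left := by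
  obtain ⟨Y, hY⟩ := exists_isMat hp (M.det • M.adjugate)
  have e1 := hX.comp hY
  have e2 := hY.comp hX
  have hn : (M.det • M.adjugate) * M = ((M.det.natAbs ^ 2 : ℕ) : ℤ) • (1 : Matrix I I ℤ) := by
    rw [Matrix.smul_mul, Matrix.adjugate_mul, smul_smul]
    congr 1
    push_cast
    rw [sq_abs, pow_two]
  have hn' : M * (M.det • M.adjugate) = ((M.det.natAbs ^ 2 : ℕ) : ℤ) • (1 : Matrix I I ℤ) := by
    rw [Matrix.mul_smul, Matrix.mul_adjugate, smul_smul]
    congr 1
    push_cast
    rw [sq_abs, pow_two]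
  rw [hn] at e1
  rw [hn'] at e2
  have h0 : 1 ≤ M.det.natAbs ^ 2 := Nat.one_le_pow _ _ (Int.natAbs_pos.2 hM)
  have e3 : X ≫ Y = (𝟙 A : A ⟶ A) ^ (M.det.natAbs ^ 2) := by
    rw [e1.unique hp (isMat_smul_one hp _), zpow_natCast]
  have e4 : Y ≫ X = (𝟙 A : A ⟶ A) ^ (M.det.natAbs ^ 2) := by
    rw [e2.unique hp (isMat_smul_one hp _), zpow_natCast]
  have f1 := Groth.Agent.Grpsch.MulFin.isFinite_pow A _ h0
  have f2 := Groth.Agent.Grpsch.MulFin.surjective_pow A _ h0
  rw [← e3, Over.comp_left] at f1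
  rw [← e4, Over.comp_left] at f2
  have hs : IsSeparated Y.left := by
    have : IsSeparated (Y.left ≫ A.hom) := by
      rw [Over.w]
      infer_instance
    exact IsSeparated.of_comp Y.left A.hom
  exact ⟨IsFinite.of_comp X.left Y.left, Surjective.of_comp Y.left X.left⟩

variable {c : Pic E.left} (hc : pull (η[E] : 𝟙_ (Over (Spec (CommRingCat.of k))) ⟶ E).left c = 1)
  (hs : pull ((𝟙 E)⁻¹ : E ⟶ E).left c = c)

include hc hs

omit hp [GrpObj A] [IsProper A.hom] [GeometricallyIntegral A.hom] in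
theorem Q_diagonal (d : I → ℤ) : Q c p (Matrix.diagonal d) = ∏ i, pull (p i).left (c ^ (2 * d i)) := by
  refine Finset.prod_congr rfl fun i _ ↦ ?_
  rw [Finset.prod_eq_single i]
  · rw [Matrix.diagonal_apply_eq, D_self hc hs, map_zpow, zpow_mul]
    rfl
  · intro j _ hj
    rw [Matrix.diagonal_apply_ne _ hj.symm, zpow_zero]
  · intro h
    exact absurd (Finset.mem_univ i) h

/-- **`Q_T` is ample for positive definite `T`.** -/
theorem amp_Q (hamp : Amp c) (T : Matrix I I ℤ) (hT : T.IsSymm)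
    (hpos : ∀ x : I → ℤ, x ≠ 0 → 0 < dotProduct x (T.mulVec x)) : Amp (Q c p T) := by
  obtain ⟨P, d, h1, h2, h3⟩ := K732.HDiag.exists_diag T hT hpos
  obtain ⟨X, hX⟩ := exists_isMat hp P
  obtain ⟨f1, f2⟩ := isFinite_of_det hp h1 hX
  have h4 := pull_Q_mat hc (T := T) hX
  rw [h3, Q_diagonal hc hs] at h4
  have h5 : Amp (∏ i, pull (p i).left (c ^ (2 * d i))) := by
    refine amp_prod ⟨hp.exists_lift, hp.hom_ext⟩ _ fun i ↦ ?_
    obtain ⟨n, hn⟩ := Int.eq_ofNat_of_zero_le (h2 i).le
    rw [hn]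
    have hn0 : 0 < n := by
      have := h2 i
      rw [hn] at this
      exact_mod_cast this
    have e : c ^ (2 * (n : ℤ)) = c ^ (2 * n) := by
      rw [← zpow_natCast]
      push_cast
      rfl
    rw [e]
    exact (amp_pow_iff (by omega)).2 hamp
  rw [← h4] at h5
  obtain ⟨L, hL, hLQ⟩ := exists_mk (Q c p T)
  rw [hLQ] at h5 ⊢
  rw [pull_mk, amp_mk_iff] at h5
  rw [amp_mk_iff]
  have hk : IsNoetherianRing (CommRingCat.of k) := inferInstanceAs (IsNoetherianRing k)
  exact (Groth.Agent.S0052.result k A.hom A.hom X.left (Over.w X) L hL).2 h5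

end K732.HPos
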