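import Groth.Agent.AbDual.K732.HQuo

/-!
# Lifts of symmetric classes over quotients of a discrete valuation ring
-/

set_option autoImplicit false
set_option linter.unusedSectionVars false
universe u

open CategoryTheory Limits MonoidalCategory CartesianMonoidalCategory AlgebraicGeometry
open scoped MonObj

namespace K732.HStep

open Groth.Agent.Grpsch.PicGrp Groth.Agent.Fga.RigGrp K732.PicZero K732.Prim K732.Dual K732.CubeSec
open K528.MumZero K732.BC K814.MumHom K732.HQuad K732.HLift K732.HQuo K732.HAmp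
open K511.HT (Spc spm)
open Groth.Agent IsLocalRing

section ring

variable (W : Type u) [CommRing W] [IsLocalRing W] (n : ℕ)

theorem quot_ne_top : maximalIdeal W ^ (n + 1) ≠ ⊤ := fun h ↦
  (maximalIdeal.isMaximal W).ne_top (top_le_iff.mp (h ▸ Ideal.pow_le_self (by omega)))

instance nontrivial_quot : Nontrivial (W ⧸ maximalIdeal W ^ (n + 1)) :=
  Ideal.Quotient.nontrivial_iff.mpr (quot_ne_top W n)

instance isLocalRing_quot : IsLocalRing (W ⧸ maximalIdeal W ^ (n + 1)) :=
  IsLocalRing.of_surjective' (Ideal.Quotient.mk _) Ideal.Quotient.mk_surjective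

theorem map_maximal : (maximalIdeal W).map (Ideal.Quotient.mk (maximalIdeal W ^ (n + 1))) =
    maximalIdeal (W ⧸ maximalIdeal W ^ (n + 1)) := by
  apply IsLocalRing.eq_maximalIdeal
  apply Ideal.IsMaximal.map_of_surjective_of_ker_le Ideal.Quotient.mk_surjective
  rw [Ideal.mk_ker]
  exact Ideal.pow_le_self (by omega)

theorem maximal_pow : maximalIdeal (W ⧸ maximalIdeal W ^ (n + 1)) ^ (n + 1) = ⊥ := by
  rw [← map_maximal, ← Ideal.map_pow, Ideal.map_quotient_self]

instance isArtinian_quot [IsNoetherianRing W] : IsArtinianRing (W ⧸ maximalIdeal W ^ (n + 1)) := by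
  rw [isArtinianRing_iff_isNilpotent_maximalIdeal]
  exact ⟨n + 1, maximal_pow W n⟩

/-- The residue fields agree. -/
theorem exists_res : ∃ ψ : ResidueField W →+* ResidueField (W ⧸ maximalIdeal W ^ (n + 1)),
    Function.Bijective ψ ∧ ψ.comp (residue W) =
      (residue (W ⧸ maximalIdeal W ^ (n + 1))).comp (Ideal.Quotient.mk (maximalIdeal W ^ (n + 1))) := by
  have h1 : IsLocalHom (Ideal.Quotient.mk (maximalIdeal W ^ (n + 1))) :=
    IsLocalHom.of_surjective _ Ideal.Quotient.mk_surjective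
  refine ⟨ResidueField.map (Ideal.Quotient.mk (maximalIdeal W ^ (n + 1))), ⟨RingHom.injective _, ?_⟩,
    ResidueField.map_comp_residue _⟩
  intro y
  obtain ⟨z, rfl⟩ := residue_surjective y
  obtain ⟨w, rfl⟩ := Ideal.Quotient.mk_surjective z
  exact ⟨residue W w, rfl⟩

/-- The isomorphism of closed points. -/
theorem exists_iso : ∃ e : Spc (ResidueField (W ⧸ maximalIdeal W ^ (n + 1))) ⟶ Spc (ResidueField W), IsIso e ∧
    spm (residue (W ⧸ maximalIdeal W ^ (n + 1))) ≫ CohB1.specQuot (maximalIdeal W) n =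
      e ≫ spm (residue W) := by
  obtain ⟨ψ, h1, h2⟩ := exists_res W n
  refine ⟨spm ψ, ?_, ?_⟩
  · have h3 : IsIso (CommRingCat.ofHom ψ) := (ConcreteCategory.isIso_iff_bijective _).2 h1
    infer_instance
  · rw [spm, spm, spm, CohB1.specQuot, ← Spec.map_comp, ← Spec.map_comp, ← CommRingCat.ofHom_comp,
      ← CommRingCat.ofHom_comp, h2]

end ring

theorem pull_inj {X Y : Scheme.{u}} (t : X ⟶ Y) [IsIso t] {c d : Pic Y} (h : pull t c = pull t d) : c = d := by
  have h1 := congrArg (pull (inv t)) h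
  rwa [← pull_comp, ← pull_comp, IsIso.inv_hom_id, pull_id, pull_id] at h1

theorem amp_pull_iso {X Y : Scheme.{u}} (t : X ⟶ Y) [IsIso t] {c : Pic Y} (h : Amp c) : Amp (pull t c) :=
  h.pull t

/-- **The lifting step.** -/
theorem lift_step (hL : K511.HT.LIFT.{u}) {r : ℕ} {W : Type u} [CommRing W] [IsLocalRing W] [IsNoetherianRing W]
    (hr : (r : W) ∈ maximalIdeal W) {X : Over (Spc W)} [GrpObj X] [IsCommMonObj X] {g : ℕ}
    (hX : AgPol.IsAbSch X g) (n : ℕ) {d : Pic (Red.bc (spm (residue W)) X).left}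
    (hd : pull ((𝟙 (Red.bc (spm (residue W)) X))⁻¹ : Red.bc (spm (residue W)) X ⟶ _).left d = d) (hamp : Amp d)
    {M : ℕ} (hM : 0 < M) (hMr : Nat.Coprime M r) {B : Pic X.left}
    (hB : pull ((𝟙 X)⁻¹ : X ⟶ X).left B = B)
    (hB3 : pull (pullback.fst X.hom (spm (residue W))) B = d ^ (2 * (M : ℤ))) :
    ∃ L : Pic (Red.bc (CohB1.specQuot (maximalIdeal W) n) X).left,
      K511.HT.IsSymm (Red.bc (CohB1.specQuot (maximalIdeal W) n) X) L ∧
      ∀ s : (Red.bc (spm (residue W)) X).left ⟶ (Red.bc (CohB1.specQuot (maximalIdeal W) n) X).left,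
        s ≫ pullback.fst X.hom (CohB1.specQuot (maximalIdeal W) n) = pullback.fst X.hom (spm (residue W)) →
        pull s L = d ^ 2 := by
  let R := W ⧸ maximalIdeal W ^ (n + 1)
  let q : Spc R ⟶ Spc W := CohB1.specQuot (maximalIdeal W) n
  let k : Spc (ResidueField R) ⟶ Spc R := spm (residue R)
  obtain ⟨e, he, hke⟩ := exists_iso W n
  let Y : Over (Spc R) := Red.bc q X
  have hY : AgPol.IsAbSch Y g := K533.PolBC.isAbSch_bc q hX
  have y1 := hY.smooth
  have y2 := hY.proper
  have y3 := hY.geomConnected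
  have yc : IsCommMonObj Y := K533.PolBC.isCommMonObj_bc q
  let t : (Red.bc k Y).left ⟶ (Red.bc (spm (residue W)) X).left := tr (spm (residue W)) q k e hke X
  have ht : IsIso t := isIso_tr _ _ _ _ hke X
  let c₀ : Pic (Red.bc k Y).left := pull t d
  let Bn : Pic Y.left := pull (pullback.fst X.hom q) B
  have hBn : pull (pullback.fst Y.hom k) Bn = c₀ ^ (2 * (M : ℤ)) := by
    change pull (pullback.fst Y.hom k) (pull (pullback.fst X.hom q) B) = pull t d ^ (2 * (M : ℤ))
    rw [← pull_comp, ← map_zpow, ← hB3, ← pull_comp]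
    congr 2
    exact (tr_fst (spm (residue W)) q k e hke X).symm
  have hampn : Amp (c₀ ^ (2 * (M : ℤ))) := by
    have h1 : c₀ ^ (2 * (M : ℤ)) = c₀ ^ (2 * M) := by
      rw [← zpow_natCast]
      push_cast
      rfl
    rw [h1]
    exact (amp_pow_iff (by omega)).2 (hamp.pull t)
  obtain ⟨N, hN, hN'⟩ := exists_mk Bn
  have hrel : RelAmple.IsRelAmple Y.hom N := by
    refine K732.HLbu.isRelAmple_of_special Y.hom hN ?_
    have h1 : Amp (pull (pullback.fst Y.hom k) (mk N hN)) := by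
      rw [← hN', hBn]
      exact hampn
    rw [pull_mk, amp_mk_iff] at h1
    exact h1
  obtain ⟨At, gAt, cAt, φ, ξ, d1, d2, d3, d4, d5, -⟩ := K814.DualNode.exists_dual hY hN hrel
  have hY₀ : AgPol.IsAbSch (Red.bc k Y) g := K533.PolBC.isAbSch_bc k hY
  have z1 := hY₀.smooth
  have z2 := hY₀.proper
  have z3 := hY₀.geomConnected
  have z4 : GeometricallyIntegral (Red.bc k Y).hom := K814.AbBasic.geometricallyIntegral (Red.bc k Y)
  have zc : IsCommMonObj (Red.bc k Y) := K533.PolBC.isCommMonObj_bc k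
  have zc' : IsCommMonObj (Red.bc k At) := K533.PolBC.isCommMonObj_bc k
  have hD' := isDualAV_bc (k := k) d2
  have hc1 : pull (η[Red.bc k Y] : 𝟙_ (Over _) ⟶ Red.bc k Y).left c₀ = 1 := K732.HLbu.pull_one c₀
  have hcs : pull ((𝟙 (Red.bc k Y))⁻¹ : Red.bc k Y ⟶ Red.bc k Y).left c₀ = c₀ :=
    pull_inv_tr (spm (residue W)) q k e hke hd
  have hmon : IsMonHom (hom (AgPol.bcDual k Y At φ) c₀) := isMonHom_hom hD' hc1
  have hrR : ((r : ℕ) : R) ∈ maximalIdeal R := by
    rw [← map_maximal W n]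
    have h1 := Ideal.mem_map_of_mem (Ideal.Quotient.mk (maximalIdeal W ^ (n + 1))) hr
    rwa [map_natCast] at h1
  let f₀ : EndAV.Hom (Red.bc k Y) (Red.bc k At) := EndAV.Hom.of (hom (AgPol.bcDual k Y At φ) c₀)
  obtain ⟨f, hf⟩ := (hL R (maximalIdeal R) r n (maximalIdeal.isMaximal R).ne_top hrR (maximal_pow W n) Y At g g
    hY d1).2 f₀
  have hf' : (Over.pullback k).map f.toHom = (hom (AgPol.bcDual k Y At φ) c₀) ^ (r ^ n) := by
    have h1 := congrArg EndAV.Hom.toHom hf
    exact h1.trans (EndAV.Hom.toHom_nsmul (r ^ n) f₀)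
  have hMq : IsCoprime (M : ℤ) ((r ^ n : ℕ) : ℤ) := Nat.isCoprime_iff_coprime.2 (hMr.pow_right n)
  have hB1 : pull (η[Y] : 𝟙_ (Over _) ⟶ Y).left Bn = 1 := K732.HLbu.pull_one Bn
  have hB2 : pull ((𝟙 Y)⁻¹ : Y ⟶ Y).left Bn = Bn := pull_inv_fst q hB
  obtain ⟨c, l1, l2, l3⟩ := K732.HLift.exists_lift k d2 hc1 hcs (M : ℤ) (r ^ n) hMq hB1 hB2 hBn f.toHom hf'
  refine ⟨c, ?_, fun s hs ↦ ?_⟩
  · rw [K732.HLbu.inv_eq] at l2
    exact l2
  · have m1 : IsClosedImmersion q := IsClosedImmersion.spec_of_surjective _ Ideal.Quotient.mk_surjective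
    have m2 : IsClosedImmersion (pullback.fst X.hom q) := inferInstance
    have e1 : t ≫ s = pullback.fst Y.hom k := by
      rw [← cancel_mono (pullback.fst X.hom q), Category.assoc]
      change t ≫ s ≫ pullback.fst X.hom (CohB1.specQuot (maximalIdeal W) n) = _
      rw [hs]
      exact tr_fst (spm (residue W)) q k e hke X
    refine pull_inj t ?_
    rw [← pull_comp, e1, l3, map_pow]

end K732.HStep
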