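import Groth.Agent.AbDual.K732.HIsMat
import Groth.Agent.AbDual.K732.HStep
import Groth.Agent.AbDual.K732.HPos

/-!
# Polarizations of CM abelian schemes modulo powers of the uniformizer (node `LB` of the Honda–Tate project)
-/

set_option autoImplicit false
set_option linter.unusedSectionVars false
universe u

open CategoryTheory Limits MonoidalCategory CartesianMonoidalCategory AlgebraicGeometry
open scoped MonObj NumberField

namespace K732.HLb

open Groth.Agent.Grpsch.PicGrp Groth.Agent.Fga.RigGrp K732.PicZero K732.Prim K732.Dual K732.CubeSec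
open K528.MumZero K732.BC K814.MumHom K732.HQuad K732.HPow K732.HAdj K732.HAmp K732.HQuo K732.HStep K732.HIsMat
open K511.HT (Spc spm bcEnd bcHom)
open Groth.Agent IsLocalRing

section prelim

variable {S : Scheme.{u}} {E A : Over S} [GrpObj E] [GrpObj A] [IsCommMonObj E] [IsCommMonObj A]

theorem toHom_neg_one : (-1 : EndAV.End E).toHom = (𝟙 E)⁻¹ := by
  rw [EndAV.End.toHom_neg, EndAV.End.toHom_one]

theorem toHom_neg_natCast (r : ℕ) : (-(r : EndAV.End E)).toHom = ((𝟙 E : E ⟶ E) ^ r)⁻¹ := by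
  rw [EndAV.End.toHom_neg, EndAV.End.toHom_natCast]

/-- A class fixed by a square root of `-1` is symmetric. -/
theorem symm_of_i {i : EndAV.End E} (hi : i * i = -1) {c : Pic E.left} (hc : pull i.toHom.left c = c) :
    pull ((𝟙 E)⁻¹ : E ⟶ E).left c = c := by
  rw [← toHom_neg_one, ← hi, EndAV.End.toHom_mul, Over.comp_left, pull_comp, hc, hc]

variable [IsProper E.hom] [Flat E.hom] [LocallyOfFinitePresentation E.hom] [GeometricallyIntegral E.hom]
  {c : Pic E.left} (hc : pull (η[E] : 𝟙_ (Over S) ⟶ E).left c = 1) {g : ℕ} {p : Fin g → (A ⟶ E)}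
  (hp : HPow.IsPow p) {O : Type} [CommRing O] (b : Module.Basis (Fin g) ℤ O)
  {T : Matrix (Fin g) (Fin g) ℤ} (hT : T.IsSymm)
  (hT' : ∀ a, (Algebra.leftMulMatrix b a).transpose * T = T * Algebra.leftMulMatrix b a)

include hc hp hT hT'

/-- An endomorphism `a ⊗ u` with `u` anti-selfadjoint is anti-selfadjoint. -/
theorem adj_rep {u : EndAV.End E} (hu : IsAdj c u.toHom (u.toHom)⁻¹) {a : O} {f : EndAV.End A}
    (hf : K511.HT.IsRep p b u a f) : IsAdj (Q c p T) f.toHom (f.toHom)⁻¹ := by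
  have h1 := isMat_map_iff.1 hf
  have i1 : IsMonHom (u.toHom)⁻¹ := inferInstance
  refine isAdj_Q hp hc hT hu (hT' a) h1 fun j ↦ ?_
  have := hp.isMonHom j
  rw [GrpObj.inv_comp, h1 j, ← Finset.prod_inv_distrib]
  refine Finset.prod_congr rfl fun l _ ↦ ?_
  rw [GrpObj.comp_inv, inv_zpow]

end prelim

section fib

variable {k : Type u} [Field k] {E : Over (Spec (CommRingCat.of k))} [GrpObj E] [IsCommMonObj E]
  [IsProper E.hom] [Smooth E.hom] [GeometricallyConnected E.hom]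
  {c : Pic E.left}

/-- `i`, `F` and `i F` are anti-selfadjoint. -/
theorem adj_iF {r : ℕ} (hr : 1 ≤ r) {i F : EndAV.End E} (hi : i * i = -1) (hF : F * F = -(r : EndAV.End E))
    (hFi : F * i = -(i * F)) (hi' : pull i.toHom.left c = c) (hF' : pull F.toHom.left c = c ^ r) :
    IsAdj c i.toHom (i.toHom)⁻¹ ∧ IsAdj c F.toHom (F.toHom)⁻¹ ∧ IsAdj c (i * F).toHom ((i * F).toHom)⁻¹ := by
  have gi : GeometricallyIntegral E.hom := K814.AbBasic.geometricallyIntegral E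
  have hc : pull (η[E] : 𝟙_ (Over _) ⟶ E).left c = 1 := K732.HLbu.pull_one c
  obtain ⟨Et, gEt, φ, -, hD, -⟩ := K732.DualField.exists_dual E
  have e1 : i.toHom ≫ i.toHom = (𝟙 E)⁻¹ := by rw [← toHom_neg_one, ← hi, EndAV.End.toHom_mul]
  have e2 : F.toHom ≫ F.toHom = ((𝟙 E : E ⟶ E) ^ r)⁻¹ := by
    rw [← toHom_neg_natCast, ← hF, EndAV.End.toHom_mul]
  have a1 : IsAdj c i.toHom (i.toHom)⁻¹ := isAdj_of_pull hi' e1
  have a2 : IsAdj c F.toHom (F.toHom)⁻¹ := isAdj_of_pull_pow hc hD hF' e2 (epi_pow hr)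
  refine ⟨a1, a2, ?_⟩
  have a3 := a2.comp a1
  have e3 : (i * F).toHom = F.toHom ≫ i.toHom := EndAV.End.toHom_mul _ _
  have e4 : i.toHom ≫ F.toHom = (F.toHom ≫ i.toHom)⁻¹ := by
    have h := congrArg EndAV.End.toHom hFi
    rw [EndAV.End.toHom_neg, EndAV.End.toHom_mul, EndAV.End.toHom_mul] at h
    exact h
  have e5 : (i.toHom)⁻¹ ≫ (F.toHom)⁻¹ = (F.toHom ≫ i.toHom)⁻¹ := by
    rw [GrpObj.inv_comp, GrpObj.comp_inv, inv_inv, e4]
  rw [e3]
  rw [e5] at a3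
  exact a3

end fib

/-- `V V = -γ` on the special fibre. -/
theorem sq_V {S : Scheme.{u}} {E A : Over S} [GrpObj E] [GrpObj A] [IsCommMonObj E] [IsCommMonObj A] {g : ℕ}
    {p : Fin g → (A ⟶ E)} (hp : HPow.IsPow p) {O : Type} [CommRing O] (b : Module.Basis (Fin g) ℤ O) {r : ℕ}
    {i F : EndAV.End E} (hi : i * i = -1) (hF : F * F = -(r : EndAV.End E)) (hFi : F * i = -(i * F)) {a y z : O}
    {V₁ V₂ V₃ : EndAV.End A} (h1 : K511.HT.IsRep p b i a V₁) (h2 : K511.HT.IsRep p b F y V₂)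
    (h3 : K511.HT.IsRep p b (i * F) z V₃) {γ : EndAV.End A}
    (hγ : K732.HMat.IsMat p (Algebra.leftMulMatrix b (a ^ 2 + (r : O) * (y ^ 2 + z ^ 2))) γ.toHom) :
    (V₁ + V₂ + V₃).toHom ≫ (V₁ + V₂ + V₃).toHom = (γ.toHom)⁻¹ := by
  have e1 : K511.HT.IsMat p (K732.HTrace.N b a i + K732.HTrace.N b y F + K732.HTrace.N b z (i * F))
      (V₁ + V₂ + V₃) := HIsMat.IsMat.add hp.isMonHom (HIsMat.IsMat.add hp.isMonHom h1 h2) h3
  have e2 := HIsMat.IsMat.mul e1 e1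
  rw [K732.HTrace.sq_eq b i F r hi hF hFi] at e2
  have e3 : K511.HT.IsMat p (K732.HTrace.N b (a ^ 2 + (r : O) * (y ^ 2 + z ^ 2)) (1 : EndAV.End E)) γ := by
    refine isMat_map_iff.2 fun j ↦ ?_
    rw [hγ j]
    refine Finset.prod_congr rfl fun l _ ↦ ?_
    rw [EndAV.End.toHom_one, Category.comp_id]
  have e4 := HIsMat.IsMat.unique hp e2 (HIsMat.IsMat.neg hp.isMonHom e3)
  rw [← EndAV.End.toHom_mul, e4, EndAV.End.toHom_neg]

/-- **LB**. -/
theorem main (hL : K511.HT.LIFT.{u}) : K511.HT.LB.{u} := by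
  intro r hr _ W _ _ _ _ hW D F _ _ _ g b A _ _ p hp hA
  let κ : Spc (ResidueField W) ⟶ Spc W := spm (residue W)
  -- the elliptic curve
  have a1 := D.ab.smooth
  have a2 := D.ab.proper
  have a3 := D.ab.geomConnected
  have a4 : GeometricallyIntegral D.E.hom := K814.AbBasic.geometricallyIntegral D.E
  have hc : pull (η[D.E] : 𝟙_ (Over _) ⟶ D.E).left D.M₀ = 1 := K732.HLbu.pull_one D.M₀
  have hcs : pull ((𝟙 D.E)⁻¹ : D.E ⟶ D.E).left D.M₀ = D.M₀ := symm_of_i D.i_sq D.i_M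
  have hE₀ : AgPol.IsAbSch (Red.bc κ D.E) 1 := K533.PolBC.isAbSch_bc κ D.ab
  have b1 := hE₀.smooth
  have b2 := hE₀.proper
  have b3 := hE₀.geomConnected
  have b4 : GeometricallyIntegral (Red.bc κ D.E).hom := K814.AbBasic.geometricallyIntegral (Red.bc κ D.E)
  let c₀ : Pic (Red.bc κ D.E).left := pull (pullback.fst D.E.hom κ) D.M₀
  have hc₀ : pull (η[Red.bc κ D.E] : 𝟙_ (Over _) ⟶ Red.bc κ D.E).left c₀ = 1 := K732.HLbu.pull_one c₀
  have hcs₀ : pull ((𝟙 (Red.bc κ D.E))⁻¹ : Red.bc κ D.E ⟶ Red.bc κ D.E).left c₀ = c₀ := pull_inv_fst κ hcs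
  have m1 : IsClosedImmersion κ := IsClosedImmersion.spec_of_surjective _ residue_surjective
  have hamp₀ : Amp c₀ := by
    obtain ⟨L, hL', hL''⟩ := D.ample
    exact Amp.pull (pullback.fst D.E.hom κ) ⟨L, hL', hL''.symm⟩
  let i₀ : EndAV.End (Red.bc κ D.E) := bcEnd κ D.E D.i
  have hi₀ : i₀ * i₀ = -1 := by
    change bcEnd κ D.E D.i * bcEnd κ D.E D.i = -1
    rw [← map_mul, D.i_sq, map_neg, map_one]
  have hi₀' : pull i₀.toHom.left c₀ = c₀ := by
    have h1 : pull (pullback.fst D.E.hom κ) (pull D.i.toHom.left D.M₀) = c₀ := by rw [D.i_M]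
    rw [← pull_comp, ← map_fst, pull_comp] at h1
    exact h1
  obtain ⟨j1, j2, j3⟩ := adj_iF hr.one_lt.le hi₀ D.F_sq D.F_i hi₀' D.F_M
  -- the power
  have c1 := hA.smooth
  have c2 := hA.proper
  have c3 := hA.geomConnected
  have c4 : GeometricallyIntegral A.hom := K814.AbBasic.geometricallyIntegral A
  have hA₀ : AgPol.IsAbSch (Red.bc κ A) g := K533.PolBC.isAbSch_bc κ hA
  have d1 := hA₀.smooth
  have d2 := hA₀.proper
  have d3 := hA₀.geomConnected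
  have d4 : GeometricallyIntegral (Red.bc κ A).hom := K814.AbBasic.geometricallyIntegral (Red.bc κ A)
  have hp' : HPow.IsPow p := isPow_of hp
  have hp₀ := isPow_bc κ hp'
  obtain ⟨T, hT1, hT2, hT3⟩ := K732.HTrace.exists_form (F := F) b
  let MT : Pic (Red.bc κ A).left := Q c₀ (fun j ↦ (Over.pullback κ).map (p j)) T
  have hMT : pull (pullback.fst A.hom κ) (Q D.M₀ p T) = MT := Q_bc κ
  have hampT : Amp MT := K732.HPos.amp_Q hp₀ hc₀ hcs₀ hamp₀ T hT1 hT2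
  have hMTs : pull ((𝟙 (Red.bc κ A))⁻¹ : Red.bc κ A ⟶ Red.bc κ A).left MT = MT := Q_symm hp₀ hc₀
  refine ⟨MT, ?_, ?_, ?_⟩
  · obtain ⟨L, hL', hL''⟩ := hampT
    exact ⟨L, hL', hL''.symm⟩
  · rw [K511.HT.IsSymm, ← K732.HLbu.inv_eq]
    exact hMTs
  intro x y z ξ _ V₁ V₂ V₃ h1 h2 h3 X _ _ hX m v w e _ hm hvw hwv hV n
  have f1 := hX.smooth
  have f2 := hX.proper
  have f3 := hX.geomConnected
  have hm1 : 1 ≤ m := Nat.one_le_iff_ne_zero.2 fun h ↦ hm (by rw [h, Nat.cast_zero])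
  -- `V` is anti-selfadjoint
  let V : EndAV.End (Red.bc κ A) := V₁ + V₂ + V₃
  have hc1 : pull (η[Red.bc κ A] : 𝟙_ (Over _) ⟶ Red.bc κ A).left MT = 1 := K732.HLbu.pull_one MT
  have v1 := adj_rep hc₀ hp₀ b hT1 hT3 j1 h1
  have v2 := adj_rep hc₀ hp₀ b hT1 hT3 j2 h2
  have v3 := adj_rep hc₀ hp₀ b hT1 hT3 j3 h3
  have hVadj : IsAdj MT V.toHom (V.toHom)⁻¹ := by
    have v4 := (v1.mul hc1 v2).mul hc1 v3
    rw [← mul_inv, ← mul_inv] at v4
    exact v4
  -- `γ`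
  obtain ⟨γ, hγ⟩ := K732.HMat.exists_isMat hp' (Algebra.leftMulMatrix b ((ξ + x) ^ 2 + r * (y ^ 2 + z ^ 2)))
  have hγm : IsMonHom γ := hγ.isMonHom hp'
  have hγ₀ := isMat_bc κ hγ
  have hVV : V.toHom ≫ V.toHom = ((Over.pullback κ).map γ)⁻¹ :=
    sq_V hp₀ b hi₀ D.F_sq D.F_i h1 h2 h3 (γ := EndAV.End.of ((Over.pullback κ).map γ)) hγ₀
  -- `w₀`
  let w₀ : Red.bc κ A ⟶ Red.bc κ A := e.inv ≫ (Over.pullback κ).map w.toHom
  have i1 : IsMonHom w₀ := inferInstance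
  have hw : (Over.pullback κ).map w.toHom = e.hom ≫ w₀ := (e.hom_inv_id_assoc _).symm
  have hV' : (Over.pullback κ).map v.toHom ≫ e.hom = V.toHom := hV
  have k1 : V.toHom ≫ w₀ = (𝟙 (Red.bc κ A) : Red.bc κ A ⟶ Red.bc κ A) ^ m := by
    have e1 := congrArg EndAV.End.toHom (congrArg (bcEnd κ A) hvw)
    rw [map_natCast, EndAV.End.toHom_natCast] at e1
    rw [← e1, ← hV', Category.assoc, e.hom_inv_id_assoc]
    exact ((Over.pullback κ).map_comp v.toHom w.toHom).symm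
  have k2 : w₀ ≫ V.toHom = (𝟙 (Red.bc κ A) : Red.bc κ A ⟶ Red.bc κ A) ^ m := by
    have e1 := congrArg EndAV.End.toHom (congrArg (bcEnd κ X) hwv)
    rw [map_natCast, EndAV.End.toHom_natCast] at e1
    have e2 : (Over.pullback κ).map w.toHom ≫ (Over.pullback κ).map v.toHom = (𝟙 (Red.bc κ X)) ^ m :=
      ((Over.pullback κ).map_comp w.toHom v.toHom).symm.trans e1
    rw [← hV']
    change (e.inv ≫ (Over.pullback κ).map w.toHom) ≫ (Over.pullback κ).map v.toHom ≫ e.hom = _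
    rw [Category.assoc, reassoc_of% e2, MonObj.pow_comp, MonObj.comp_pow, Category.id_comp, e.inv_hom_id]
  obtain ⟨At₀, gAt₀, φ₀, -, hD₀, -⟩ := K732.DualField.exists_dual (Red.bc κ A)
  have hadj : IsAdj MT w₀ w₀⁻¹ := isAdj_of_quasi_inv hc1 hD₀ hVadj k1 k2 (epi_pow hm1)
  have hadj' : IsAdj (pull (pullback.fst A.hom κ) (Q D.M₀ p T) : Pic (Red.bc κ A).left) w₀ w₀⁻¹ := by
    rw [hMT]
    exact hadj
  -- the class on `X`
  have hQs : pull ((𝟙 A)⁻¹ : A ⟶ A).left (Q D.M₀ p T) = Q D.M₀ p T := Q_symm hp' hc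
  obtain ⟨B, -, l2, l3⟩ := K732.HBas.exists_B κ (K732.HLbu.pull_one (Q D.M₀ p T)) hQs v.toHom w.toHom γ e
    V.toHom w₀ hV' hw hVV k1 k2 hadj'
  rw [hMT] at l3
  -- the lift
  have i2 : IsIso e.hom.left := inferInstanceAs (IsIso ((Over.forget _).map e.hom))
  have hrW : (r : W) ∈ maximalIdeal W := by
    rw [hW]
    exact Ideal.mem_span_singleton_self _
  have hmr : Nat.Coprime (m ^ 3) r := by
    refine Nat.Coprime.pow_left 3 ((Nat.coprime_comm).1 ((Nat.Prime.coprime_iff_not_dvd hr).2 fun hd ↦ ?_))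
    obtain ⟨t, rfl⟩ := hd
    apply hm
    have h4 : ((r : ℕ) : ResidueField W) = 0 := by
      have h5 := (residue_eq_zero_iff (r : W)).2 hrW
      rwa [map_natCast] at h5
    rw [Nat.cast_mul, h4, zero_mul]
  have hds : pull ((𝟙 (Red.bc κ X))⁻¹ : Red.bc κ X ⟶ Red.bc κ X).left (pull e.hom.left MT) =
      pull e.hom.left MT := by
    rw [← pull_comp, ← Over.comp_left, GrpObj.inv_comp, Category.id_comp]
    have h5 : (e.hom)⁻¹ = e.hom ≫ (𝟙 (Red.bc κ A))⁻¹ := by rw [GrpObj.comp_inv, Category.comp_id]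
    rw [h5, Over.comp_left, pull_comp, hMTs]
  have hB3 : pull (pullback.fst X.hom κ) B = (pull e.hom.left MT) ^ (2 * ((m ^ 3 : ℕ) : ℤ)) := by
    rw [l3]
    push_cast
    rfl
  obtain ⟨L, n1, n2⟩ := lift_step hL hrW hX n hds (hampT.pull e.hom.left) (Nat.pos_of_ne_zero (by positivity)) hmr
    l2 hB3
  refine ⟨L, n1, fun s hs ↦ ?_⟩
  rw [n2 s hs, map_pow]

end K732.HLb
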