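import Groth.Agent.AbDual.K732.HLift
import Groth.Agent.AgPol.K814.DualNode
import Groth.Agent.AbVar.K511.HT.Iface
import Groth.Agent.S12128
import Groth.Agent.Flat2H.FamOpen
import Groth.Agent.Flat2H.FamDict

/-!
# Uniqueness of symmetric lifts over Artinian local rings (node `LBU` of the Honda–Tate project)
-/

set_option autoImplicit false
set_option linter.unusedSectionVars false
universe u

open CategoryTheory Limits MonoidalCategory CartesianMonoidalCategory AlgebraicGeometry
open scoped MonObj

namespace K732.HLbu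

open Groth.Agent.Grpsch.PicGrp Groth.Agent.Fga.RigGrp K732.PicZero K732.Prim K732.Dual K732.CubeSec
open K528.MumZero K732.BC K814.MumHom K732.HQuad K732.HLift
open K511.HT (Spc spm)
open Groth.Agent

section local_ring

variable {R : Type u} [CommRing R] [IsLocalRing R] [IsArtinianRing R]

omit [IsLocalRing R] [IsArtinianRing R] in
theorem map_eq_zero [IsLocalRing R] [IsArtinianRing R] {K : Type*} [CommRing K] [IsDomain K] (φ : R →+* K)
    {x : R} (h1 : x ∈ IsLocalRing.maximalIdeal R) : φ x = 0 := by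
  obtain ⟨n, hn⟩ := IsArtinianRing.isNilpotent_jacobson_bot (R := R)
  rw [IsLocalRing.jacobson_eq_maximalIdeal ⊥ bot_ne_top] at hn
  have h2 : x ^ n ∈ (⊥ : Ideal R) := by
    have h3 := Ideal.pow_mem_pow h1 n
    rw [hn] at h3
    exact h3
  rw [Ideal.mem_bot] at h2
  have h3 : φ x ^ n = 0 := by rw [← map_pow, h2, map_zero]
  exact eq_zero_of_pow_eq_zero h3

/-- Points with values in domains factor through the closed point. -/
theorem exists_fac {K : CommRingCat.{u}} [IsDomain K] (t : Spec K ⟶ Spc R) :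
    ∃ u : Spec K ⟶ Spc (IsLocalRing.ResidueField R), u ≫ spm (IsLocalRing.residue R) = t := by
  obtain ⟨φ, rfl⟩ := Spec.map_surjective t
  let ψ : IsLocalRing.ResidueField R →+* K :=
    Ideal.Quotient.lift (IsLocalRing.maximalIdeal R) φ.hom (fun x hx ↦ map_eq_zero φ.hom hx)
  refine ⟨Spec.map (CommRingCat.ofHom ψ), ?_⟩
  rw [← Spec.map_comp, ← CommRingCat.ofHom_comp]
  rfl

instance subsingleton_spc : Subsingleton ↥(Spc R) := by
  refine ⟨fun x y ↦ ?_⟩
  have h : ∀ z : PrimeSpectrum R, z = IsLocalRing.closedPoint R := fun z ↦ by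
    have h1 : z.asIdeal.IsMaximal := inferInstance
    exact PrimeSpectrum.ext (IsLocalRing.eq_maximalIdeal h1)
  exact (h x).trans (h y).symm

instance : Surjective (spm (IsLocalRing.residue R)) :=
  ⟨fun _ ↦ ⟨IsLocalRing.closedPoint _, Subsingleton.elim _ _⟩⟩

instance : PreconnectedSpace ↥(Spc R) := inferInstance

/-- Ampleness on the special fibre gives relative ampleness. -/
theorem isRelAmple_of_special {X : Scheme.{u}} (f : X ⟶ Spc R) [IsProper f] [LocallyOfFinitePresentation f]
    {L : X.Modules} (hL : PicF.IsInvertible L)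
    (h : CohB1.IsAmple ((Scheme.Modules.pullback (pullback.fst f (spm (IsLocalRing.residue R)))).obj L)) :
    RelAmple.IsRelAmple f L := by
  refine (S12128.result f L hL).2 fun s ↦ ?_
  obtain ⟨u, hu⟩ := exists_fac ((Spc R).fromSpecResidueField s)
  have hw : f.fiberι s ≫ f = (f.fiberToSpecResidueField s ≫ u) ≫ spm (IsLocalRing.residue R) := by
    rw [Category.assoc, hu]
    exact pullback.condition
  let l : f.fiber s ⟶ pullback f (spm (IsLocalRing.residue R)) := pullback.lift _ _ hw
  have hl : l ≫ pullback.fst f (spm (IsLocalRing.residue R)) = f.fiberι s := pullback.lift_fst _ _ _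
  have ha : IsAffineHom l := by
    have h1 : IsAffineHom (l ≫ pullback.fst f (spm (IsLocalRing.residue R))) := by
      rw [hl]
      have h0 : IsAffineHom ((Spc R).fromSpecResidueField s) := inferInstance
      exact MorphismProperty.of_isPullback (P := @IsAffineHom) (IsPullback.of_hasPullback f _).flip h0
    exact IsAffineHom.of_comp l (pullback.fst f (spm (IsLocalRing.residue R)))
  have h2 := Groth.Agent.Flat2H.FamOpen.isAmple_pullback_of_isAffineHom l h
  refine Groth.Agent.Flat2H.FamDict.isAmple_of_iso ?_ h2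
  exact (Scheme.Modules.pullbackComp l _).app L ≪≫ (Scheme.Modules.pullbackCongr hl).app L

theorem isUnit_two (h : ((2 : ℕ) : IsLocalRing.ResidueField R) ≠ 0) : IsUnit ((2 : ℕ) : Γ(Spc R, ⊤)) := by
  have h1 : IsUnit ((2 : ℕ) : R) := by
    by_contra h2
    apply h
    have h3 : ((2 : ℕ) : R) ∈ IsLocalRing.maximalIdeal R := (IsLocalRing.mem_maximalIdeal _).2 h2
    rw [← IsLocalRing.residue_eq_zero_iff, map_natCast] at h3
    exact h3
  have h2 := h1.map (Scheme.ΓSpecIso (CommRingCat.of R)).inv.hom
  rwa [map_natCast] at h2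

end local_ring

theorem inv_eq {S : Scheme.{u}} (X : Over S) [GrpObj X] : (𝟙 X)⁻¹ = (ι[X] : X ⟶ X) := by
  rw [Hom.inv_def, Category.id_comp]

/-- A class on an abelian scheme over an Artinian local ring is rigidified. -/
theorem pull_one {R : Type u} [CommRing R] [IsLocalRing R] {X : Over (Spc R)} [GrpObj X] (c : Pic X.left) :
    pull (η[X] : 𝟙_ (Over (Spc R)) ⟶ X).left c = 1 :=
  pic_spec_local R (pull (η[X] : 𝟙_ (Over (Spc R)) ⟶ X).left c)

/-- **LBU**. -/
theorem main : K511.HT.LBU.{u} := by
  intro R _ _ _ h2 X _ _ g hX L L' hL hL' h hamp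
  have i1 := hX.smooth
  have i2 := hX.proper
  have i3 := hX.geomConnected
  obtain ⟨M, hM, hLM⟩ := exists_mk L
  subst hLM
  obtain ⟨N, hN, hN'⟩ := hamp
  have hrel : RelAmple.IsRelAmple X.hom M := by
    refine isRelAmple_of_special X.hom hM ?_
    rw [pull_mk] at hN'
    obtain ⟨e⟩ := (mk_eq_iff _ _).1 hN'
    exact Groth.Agent.Flat2H.FamDict.isAmple_of_iso e.symm hN
  obtain ⟨At, gAt, cAt, φ, ξ, d1, d2, d3, d4, d5, -⟩ := K814.DualNode.exists_dual hX hM hrel
  have j1 := d1.smooth
  have j2 := d1.proper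
  have j3 := d1.geomConnected
  have i4 : LocallyOfFiniteType (spm (IsLocalRing.residue R)) := by
    have : IsClosedImmersion (spm (IsLocalRing.residue R)) :=
      IsClosedImmersion.spec_of_surjective _ IsLocalRing.residue_surjective
    infer_instance
  have key : mk M hM * L'⁻¹ = 1 := by
    refine eq_one_of_pull (spm (IsLocalRing.residue R)) d2 (isUnit_two h2) (pull_one _) ?_ ?_
    · rw [inv_eq, map_mul, map_inv]
      rw [hL, hL']
    · rw [map_mul, map_inv, h, mul_inv_cancel]
  exact mul_inv_eq_one.1 key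

end K732.HLbu
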