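import Groth.Agent.AbVar.K511.HT.LieChart
import Groth.Agent.AbVar.K511.HT.BC

/-!
# Reduction of Lie algebras of smooth group schemes over a local ring

`rd h G : LL (𝟙) G →+ LL (𝟙 ≫ spm h) G` for a ring homomorphism `h : R →+* B`; linearity, functoriality, coordinates,
surjectivity and kernel.
-/

set_option autoImplicit false
set_option linter.unusedSectionVars false
universe u

open CategoryTheory Limits MonoidalCategory CartesianMonoidalCategory AlgebraicGeometry
open scoped MonObj

namespace K732.HLie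

open K511.HT K988.LieModel

section cast

variable {S : Scheme.{u}} {B : Type u} [CommRing B] {f f' : Spc B ⟶ S} (e : f = f')
variable (G : Over S) {H : Over S} [GrpObj G] [GrpObj H]

/-- Transport along an equality of structure morphisms. -/
noncomputable def cst : LL f G ≃ₗ[B] LL f' G := by
  subst e
  exact LinearEquiv.refl B _

theorem cst_rfl (v : LL f G) : cst rfl G v = v := rfl

theorem lieMap_cst [IsCommMonObj G] [IsCommMonObj H] (φ : EndAV.Hom G H) (v : LL f G) :
    cst e H (lieMap f φ v) = lieMap f' φ (cst e G v) := by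
  subst e
  rfl

end cast

section co

variable {R : Type u} [CommRing R] {G : Over (Spc R)} [GrpObj G] {g : ℕ} (c : Chart R G g) {B : Type u} [CommRing B]

theorem co_cst {f f' : Spc B ⟶ Spc R} (e : f = f') (v : LL f G) : c.co f' (cst e G v) = c.co f v := by
  subst e
  rfl

end co

section rd

variable {R : Type u} [CommRing R] {B : Type u} [CommRing B] (h : R →+* B) (G : Over (Spc R)) {H : Over (Spc R)}
  [GrpObj G] [GrpObj H]

theorem comm_id : spm h ≫ 𝟙 (Spc R) = 𝟙 (Spc B) ≫ spm h := by rw [Category.comp_id, Category.id_comp]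

/-- Reduction. -/
noncomputable def rd : LL (𝟙 (Spc R)) G →+ LL (𝟙 (Spc B) ≫ spm h) G :=
  (cst (comm_id h) G).toLinearMap.toAddMonoidHom.comp (liePull (𝟙 (Spc R)) h G)

theorem rd_apply (v : LL (𝟙 (Spc R)) G) : rd h G v = cst (comm_id h) G (liePull (𝟙 (Spc R)) h G v) := rfl

theorem rd_smul (a : R) (v : LL (𝟙 (Spc R)) G) : rd h G (a • v) = h a • rd h G v := by
  rw [rd_apply, rd_apply, liePull_smul, map_smul]

theorem rd_lieMap [IsCommMonObj G] [IsCommMonObj H] (φ : EndAV.Hom G H) (v : LL (𝟙 (Spc R)) G) :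
    rd h H (lieMap (𝟙 (Spc R)) φ v) = lieMap (𝟙 (Spc B) ≫ spm h) φ (rd h G v) := by
  rw [rd_apply, rd_apply, liePull_lieMap, lieMap_cst]

variable {G} {g : ℕ} (c : Chart R G g)

theorem co_rd (v : LL (𝟙 (Spc R)) G) (i : Fin g) :
    c.co (𝟙 (Spc B) ≫ spm h) (rd h G v) i = h (c.co (𝟙 (Spc R)) v i) := by
  rw [rd_apply, co_cst, c.co_pull]

include c in
theorem rd_surjective (hh : Function.Surjective h) : Function.Surjective (rd h G) := by
  intro w
  choose t ht using fun i ↦ hh (c.co (𝟙 (Spc B) ≫ spm h) w i)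
  obtain ⟨v, hv⟩ := c.co_surjective (𝟙 (Spc R)) t
  refine ⟨v, c.co_injective _ (funext fun i ↦ ?_)⟩
  rw [co_rd, hv, ht]

include c in
/-- The kernel of reduction. -/
theorem exists_of_rd_eq_zero {a : R} (hk : RingHom.ker h ≤ Ideal.span {a}) {v : LL (𝟙 (Spc R)) G}
    (hv : rd h G v = 0) : ∃ w : LL (𝟙 (Spc R)) G, v = a • w := by
  have h1 : ∀ i, ∃ t, c.co (𝟙 (Spc R)) v i = a * t := fun i ↦ by
    have h2 : h (c.co (𝟙 (Spc R)) v i) = 0 := by
      rw [← co_rd, hv, map_zero]
      rfl
    exact Ideal.mem_span_singleton.1 (hk h2)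
  choose t ht using h1
  obtain ⟨w, hw⟩ := c.co_surjective (𝟙 (Spc R)) t
  refine ⟨w, c.co_injective _ (funext fun i ↦ ?_)⟩
  rw [map_smul, hw, Pi.smul_apply, smul_eq_mul, ht]

include c in
theorem rd_injective (hh : Function.Injective h) : Function.Injective (rd h G) := by
  intro v w hvw
  refine c.co_injective _ (funext fun i ↦ hh ?_)
  rw [← co_rd, ← co_rd, hvw]

include c in
theorem free_LL : Module.Free R (LL (𝟙 (Spc R)) G) := Module.Free.of_equiv (c.coE (𝟙 (Spc R))).symm

include c in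
theorem finite_LL : Module.Finite R (LL (𝟙 (Spc R)) G) := Module.Finite.equiv (c.coE (𝟙 (Spc R))).symm

end rd

section pw

variable {S : Scheme.{u}} {B : Type u} [CommRing B] (f : Spc B ⟶ S) {E A : Over S} [GrpObj E] [GrpObj A]
  [IsCommMonObj E] [IsCommMonObj A] {g : ℕ} {p : Fin g → (A ⟶ E)} (hp : IsPow E A p)

/-- The projections as homomorphisms. -/
noncomputable def pj (j : Fin g) : EndAV.Hom A E :=
  haveI := hp.hom j
  EndAV.Hom.of (p j)

theorem pj_toHom (j : Fin g) : (pj hp j).toHom = p j := rfl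

theorem LL_pow_ext {u u' : LL f A} (h : ∀ j, lieMap f (pj hp j) u = lieMap f (pj hp j) u') : u = u' := by
  apply LL_ext
  refine (hp.lift _ fun j ↦ (un f A u').1 ≫ p j).unique (fun j ↦ ?_) fun j ↦ rfl
  exact congrArg (fun t ↦ (un f E t).1) (h j)

/-- Tangent vectors of a power. -/
theorem exists_LL_pow (t : Fin g → LL f E) : ∃ u : LL f A, ∀ j, lieMap f (pj hp j) u = t j := by
  obtain ⟨w, hw, -⟩ := hp.lift _ fun j ↦ (un f E (t j)).1
  have h1 : w ∈ LieS.Lie A B f := by
    rw [LieS.mem_Lie_iff]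
    refine (hp.lift _ fun j ↦ 1).unique (fun j ↦ ?_) fun j ↦ ?_
    · rw [Category.assoc]
      have h2 := hw j
      rw [h2]
      exact (LieS.mem_Lie_iff _ B f _).1 (un f E (t j)).2
    · have := hp.hom j
      exact MonObj.one_comp _
  exact ⟨K988.LieModel.mk f A ⟨w, h1⟩, fun j ↦ LL_ext f (hw j)⟩

end pw

end K732.HLie
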