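import Groth.Agent.AbDual.K732.HLie
import Groth.Agent.AbDual.K732.HIsMat
import Groth.Agent.AgPol.K814.RelDim

/-!
# Matrices acting on the Lie algebra of a power; comparison of Lie algebras through an isomorphism
-/

set_option autoImplicit false
set_option linter.unusedSectionVars false
universe u

open CategoryTheory Limits MonoidalCategory CartesianMonoidalCategory AlgebraicGeometry
open scoped MonObj

namespace K732.HLie2

open K511.HT K988.LieModel K732.HLie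

section rep

variable {S : Scheme.{u}} {E A : Over S} [GrpObj E] [GrpObj A] [IsCommMonObj E] [IsCommMonObj A] {g : ℕ}
  {p : Fin g → (A ⟶ E)} (hp : K511.HT.IsPow E A p)

theorem toHom_sum {X Y : Over S} [GrpObj X] [GrpObj Y] [IsCommMonObj X] [IsCommMonObj Y] {I : Type*} (s : Finset I)
    (x : I → EndAV.Hom X Y) : (∑ i ∈ s, x i).toHom = ∏ i ∈ s, (x i).toHom := by
  classical
  induction s using Finset.induction_on with
  | empty => rw [Finset.sum_empty, Finset.prod_empty, EndAV.Hom.toHom_zero]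
  | insert i s hi ih => rw [Finset.sum_insert hi, Finset.prod_insert hi, EndAV.Hom.toHom_add, ih]

include hp in
/-- Existence of the endomorphism `μ(a) ⊗ u`. -/
theorem exists_isRep {O : Type} [CommRing O] (b : Module.Basis (Fin g) ℤ O) (u : EndAV.End E) (a : O) :
    ∃ f : EndAV.End A, IsRep p b u a f := by
  have hp' := K732.HIsMat.isPow_of hp
  obtain ⟨X, hX⟩ := hp'.exists_lift fun j ↦ ∏ l, (p l ≫ u.toHom) ^ Algebra.leftMulMatrix b a j l
  have hm : IsMonHom X := by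
    refine K732.Bidual.isMonHom_of_mul _ fun W x y ↦ hp'.hom_ext fun i ↦ ?_
    have hmi := hp'.isMonHom i
    have hmj : ∀ j, ((x * y) ≫ p j) = (x ≫ p j) * (y ≫ p j) := fun j ↦ by
      have := hp'.isMonHom j
      exact MonObj.mul_comp _ _ _
    have h0 : ((x ≫ X) * (y ≫ X)) ≫ p i = ((x ≫ X) ≫ p i) * ((y ≫ X) ≫ p i) := MonObj.mul_comp _ _ _
    rw [h0, Category.assoc, Category.assoc, Category.assoc, hX i, K732.HPow.comp_prod, K732.HPow.comp_prod,
      K732.HPow.comp_prod, ← Finset.prod_mul_distrib]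
    refine Finset.prod_congr rfl fun j _ ↦ ?_
    rw [GrpObj.comp_zpow, GrpObj.comp_zpow, GrpObj.comp_zpow, ← Category.assoc, ← Category.assoc,
      ← Category.assoc, hmj, MonObj.mul_comp, mul_zpow]
  exact ⟨EndAV.End.of X, K732.HIsMat.isMat_map_iff.2 hX⟩

theorem rep_comp {O : Type} [CommRing O] {b : Module.Basis (Fin g) ℤ O} {u : EndAV.End E} {a : O}
    {f : EndAV.End A} (hf : IsRep p b u a f) (j : Fin g) :
    (f ≫ pj hp j : EndAV.Hom A E) = ∑ l, Algebra.leftMulMatrix b a j l • (pj hp l ≫ u : EndAV.Hom A E) := by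
  apply EndAV.Hom.ext
  rw [toHom_sum]
  refine (K732.HIsMat.isMat_map_iff.1 hf j).trans (Finset.prod_congr rfl fun l _ ↦ ?_)
  rw [EndAV.Hom.toHom_zsmul]
  rfl

end rep

section lie

variable {R : Type u} [CommRing R] {E A : Over (Spc R)} [GrpObj E] [GrpObj A] [IsCommMonObj E] [IsCommMonObj A]
  {g : ℕ} {p : Fin g → (A ⟶ E)} (hp : K511.HT.IsPow E A p) {e : LL (𝟙 (Spc R)) E} {s : Fin g → R}
  {u₀ : LL (𝟙 (Spc R)) A} (hu₀ : ∀ j, lieMap (𝟙 (Spc R)) (pj hp j) u₀ = s j • e)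

include hu₀

/-- `μ(a) ⊗ u` acts on the eigenvector `s ⊗ e` as `φ(a) μ`. -/
theorem lieMap_rep {O : Type} [CommRing O] {b : Module.Basis (Fin g) ℤ O} {u : EndAV.End E} {a : O}
    {f : EndAV.End A} (hf : IsRep p b u a f) {τ φa : R} (hu : lieMap (𝟙 (Spc R)) u e = τ • e)
    (hs : ((Algebra.leftMulMatrix b a).map (Int.cast : ℤ → R)).mulVec s = φa • s) :
    lieMap (𝟙 (Spc R)) f u₀ = (φa * τ) • u₀ := by
  refine LL_pow_ext _ hp fun j ↦ ?_
  have h1 : lieMap (𝟙 (Spc R)) (pj hp j) (lieMap (𝟙 (Spc R)) f u₀) =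
      lieMap (𝟙 (Spc R)) (f ≫ pj hp j : EndAV.Hom A E) u₀ := by
    rw [lieMap_comp]
    rfl
  have h2 : ∀ l, lieMap (𝟙 (Spc R)) (pj hp l ≫ u : EndAV.Hom A E) u₀ = s l • τ • e := fun l ↦ by
    have h3 : lieMap (𝟙 (Spc R)) (pj hp l ≫ u : EndAV.Hom A E) u₀ =
        lieMap (𝟙 (Spc R)) u (lieMap (𝟙 (Spc R)) (pj hp l) u₀) := by
      rw [lieMap_comp]
      rfl
    rw [h3, hu₀, map_smul, hu]
  have h4 : lieMap (𝟙 (Spc R)) (f ≫ pj hp j : EndAV.Hom A E) u₀ =
      ∑ l, (Algebra.leftMulMatrix b a j l) • s l • τ • e := by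
    rw [rep_comp hp hf]
    have h5 := map_sum (lieMapAdd (𝟙 (Spc R)) A E)
      (fun l ↦ Algebra.leftMulMatrix b a j l • (pj hp l ≫ u : EndAV.Hom A E)) Finset.univ
    have h6 := congrArg (fun t : LL (𝟙 (Spc R)) A →ₗ[R] LL (𝟙 (Spc R)) E ↦ t u₀) h5
    refine h6.trans ?_
    rw [LinearMap.sum_apply]
    refine Finset.sum_congr rfl fun l _ ↦ ?_
    have h7 := lieMap_zsmul (𝟙 (Spc R)) (Algebra.leftMulMatrix b a j l) (pj hp l ≫ u : EndAV.Hom A E)
    have h8 := congrArg (fun t : LL (𝟙 (Spc R)) A →ₗ[R] LL (𝟙 (Spc R)) E ↦ t u₀) h7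
    refine h8.trans ?_
    rw [LinearMap.smul_apply, h2]
  have h9 := congrFun hs j
  simp only [Matrix.mulVec, dotProduct, Matrix.map_apply, Pi.smul_apply, smul_eq_mul] at h9
  rw [h1, h4, map_smul, hu₀, smul_smul]
  have h10 : (φa * τ * s j) = (φa * s j) * τ := by ring
  rw [h10, ← h9, Finset.sum_mul, Finset.sum_smul]
  refine Finset.sum_congr rfl fun l _ ↦ ?_
  rw [← Int.cast_smul_eq_zsmul R, smul_smul, smul_smul, mul_assoc]

end lie

end K732.HLie2
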