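import Groth.Agent.AbDual.K732.HQuad
import Groth.Agent.AbSch.K449.Rigid2
import Groth.Agent.AgPol.K814.ExactOrder
import Groth.Agent.AbDual.K732.Constr
import Groth.Agent.Sga1.Transit

/-!
# Lifting symmetric classes on abelian schemes along `S₀ ⟶ S`

`S` connected, `k : S₀ ⟶ S`, `X / S` an abelian scheme with dual `(At, φ, ξ)`.

* `eq_one_of_bc`, `eq_of_bc` : homomorphisms which agree over `S₀` agree;
* `eq_one_of_pull` : a symmetric rigidified class trivial over `S₀` is trivial (`2` invertible on `S`, `k` surjective);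
* `exists_lift` : the square of a symmetric class on `X₀` lifts if a multiple prime to `q` does and `q`-multiples of
  homomorphisms lift.
-/

set_option autoImplicit false
set_option linter.unusedSectionVars false
universe u

open CategoryTheory Limits MonoidalCategory CartesianMonoidalCategory AlgebraicGeometry
open scoped MonObj

namespace K732.HLift

open Groth.Agent.Grpsch.PicGrp Groth.Agent.Fga.RigGrp K732.PicZero K732.Prim K732.Dual K732.CubeSec
open K528.MumZero K732.BC K814.MumHom K732.HQuad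

section rigid

variable {S S₀ : Scheme.{u}} (k : S₀ ⟶ S) [PreconnectedSpace S] [Nonempty S₀]

/-- A homomorphism which is trivial over `S₀` is trivial. -/
theorem eq_one_of_bc {X Y : Over S} [GrpObj X] [GrpObj Y] [IsProper X.hom] [Smooth X.hom]
    [GeometricallyConnected X.hom] [IsSeparated Y.hom] (f : X ⟶ Y) [IsMonHom f]
    (h : (Over.pullback k).map f = 1) : f = 1 := by
  have he : η[X].left ≫ X.hom = 𝟙 S := Over.w η[X]
  have h1 : η[X] ≫ f = η[Y] := IsMonHom.one_hom f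
  have h1' : η[X].left ≫ f.left = η[Y].left := by rw [← Over.comp_left, h1]
  have h2 : (1 : X ⟶ Y).left = X.hom ≫ η[Y].left := rfl
  have h3 : (Over.pullback k).map (1 : X ⟶ Y) = 1 := by
    have h4 : (Over.pullback k).map ((1 : X ⟶ Y) * 1) = (Over.pullback k).map (1 : X ⟶ Y) *
      (Over.pullback k).map (1 : X ⟶ Y) := Functor.map_mul _ _ _
    rw [_root_.one_mul] at h4
    exact mul_eq_left.1 h4.symm
  have h4 : ∀ g : X ⟶ Y, ((Over.pullback k).map g).left ≫ pullback.fst Y.hom k =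
      pullback.fst X.hom k ≫ g.left := fun g ↦ pullback.lift_fst _ _ _
  have h5 : pullback.fst X.hom k ≫ f.left = pullback.fst X.hom k ≫ X.hom ≫ η[X].left ≫ f.left := by
    rw [← h4, h, ← h3, h4, h2, h1']
  have h6 := K449.Rigid2.eq_of_connected X.hom X.hom.isClosedMap X.hom.isOpenMap
    (fun V ↦ K814.AbBasic.isIso_app (A := X) V) η[X].left he Y.hom f.left (Over.w f) S₀ k h5
  ext1
  rw [h6, h2, h1']

omit [PreconnectedSpace S] in
/-- The difference of homomorphisms into a commutative group is a homomorphism. -/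
theorem isMonHom_div {X Y : Over S} [GrpObj X] [GrpObj Y] [IsCommMonObj Y] (f g : X ⟶ Y) [IsMonHom f]
    [IsMonHom g] : IsMonHom (f * g⁻¹) := by
  refine K732.Bidual.isMonHom_of_mul _ fun W a b ↦ ?_
  simp only [MonObj.comp_mul, GrpObj.comp_inv, MonObj.mul_comp, mul_inv]
  rw [mul_mul_mul_comm]

/-- Homomorphisms which agree over `S₀` agree. -/
theorem eq_of_bc {X Y : Over S} [GrpObj X] [GrpObj Y] [IsCommMonObj Y] [IsProper X.hom] [Smooth X.hom]
    [GeometricallyConnected X.hom] [IsSeparated Y.hom] (f g : X ⟶ Y) [IsMonHom f] [IsMonHom g]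
    (h : (Over.pullback k).map f = (Over.pullback k).map g) : f = g := by
  have h1 : IsMonHom (f * g⁻¹) := isMonHom_div f g
  have h2 : (Over.pullback k).map (f * g⁻¹) = 1 := by
    have h4 : (Over.pullback k).map ((f * g⁻¹) * g) = (Over.pullback k).map (f * g⁻¹) *
      (Over.pullback k).map g := Functor.map_mul _ _ _
    rw [inv_mul_cancel_right, h] at h4
    exact mul_eq_right.1 h4.symm
  exact mul_inv_eq_one.1 (eq_one_of_bc k _ h2)

end rigid

section uniq

variable {S S₀ : Scheme.{u}} (k : S₀ ⟶ S) [PreconnectedSpace S] [Nonempty S₀] {X At : Over S} [GrpObj X]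
  [GrpObj At] [IsProper X.hom] [Smooth X.hom] [GeometricallyConnected X.hom] [IsCommMonObj X]
  [IsProper At.hom] [Smooth At.hom] [GeometricallyConnected At.hom]
  {φ : ∀ T : Over S, PicF.Cl (PicF.XT X.hom T) → (T ⟶ At)}
  (hD : AbDual.IsDualAV Scheme.fppfPrecoverage X At φ)

include hD

/-- A class trivial over `S₀` has `φ_c = 0`. -/
theorem hom_eq_one {c : Pic X.left} (h1 : pull (η[X] : 𝟙_ (Over S) ⟶ X).left c = 1)
    (h0 : pull (pullback.fst X.hom k) c = 1) : hom φ c = 1 := by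
  have gi : GeometricallyIntegral X.hom := K814.AbBasic.geometricallyIntegral X
  have hm : IsMonHom (hom φ c) := isMonHom_hom hD h1
  refine eq_one_of_bc k _ ?_
  have h2 := hom_bc hD k c
  rw [h0] at h2
  rw [h2]
  have h3 : mumCl (Red.bc k X) (1 : Pic (Red.bc k X).left) = 1 := by
    refine ext_ev fun W a b ↦ ?_
    rw [ev_mum, map_one, map_one, map_one, map_one, inv_one, _root_.mul_one, _root_.mul_one]
  have h4 := isDualAV_bc (k := k) hD
  change cm _ (mumCl (Red.bc k X) 1) = 1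
  rw [h3]
  exact cm_one h4

/-- A class with `φ_c = 0` is additive. -/
theorem D_eq_one {c : Pic X.left} (h1 : pull (η[X] : 𝟙_ (Over S) ⟶ X).left c = 1) (h : hom φ c = 1)
    {W : Over S} (a b : W ⟶ X) : D c a b = 1 := by
  have gi : GeometricallyIntegral X.hom := K814.AbBasic.geometricallyIntegral X
  obtain ⟨ξ, e1, e2, e3⟩ := exists_poinc hD (bijective_XTproj X.hom)
  have e4 := ev_hom hD e1 e2 e3 h1 a b
  rw [h, MonObj.comp_one, poinc_one hD e1 e2 e3] at e4
  exact e4.symm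

/-- A symmetric class with `φ_c = 0` has order two. -/
theorem sq_eq_one {c : Pic X.left} (h1 : pull (η[X] : 𝟙_ (Over S) ⟶ X).left c = 1)
    (hs : pull ((𝟙 X)⁻¹ : X ⟶ X).left c = c) (h : hom φ c = 1) : c ^ 2 = 1 := by
  have gi : GeometricallyIntegral X.hom := K814.AbBasic.geometricallyIntegral X
  have e1 := D_self h1 hs (𝟙 X)
  rw [D_eq_one hD h1 h, Over.id_left] at e1
  rw [e1]
  congr 1
  exact (pull_id c).symm

omit hD [PreconnectedSpace S] [Nonempty S₀] [GrpObj At] [IsProper X.hom] [Smooth X.hom]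
  [GeometricallyConnected X.hom] [IsCommMonObj X] [IsProper At.hom] [Smooth At.hom]
  [GeometricallyConnected At.hom] in
theorem ev_fst (c : Pic X.left) {T W : Over S} (a : W ⟶ X) (g : W ⟶ T) :
    ev a g (pull (fst X T).left c : Pic (PicF.XT X.hom T)) = pull a.left c := by
  rw [ev_def]
  rw [← pull_comp, ← Over.comp_left, lift_fst]

/-- **Uniqueness of symmetric lifts.** -/
theorem eq_one_of_pull [Surjective k] [LocallyOfFiniteType k] (h2 : IsUnit ((2 : ℕ) : Γ(S, ⊤)))
    {c : Pic X.left} (h1 : pull (η[X] : 𝟙_ (Over S) ⟶ X).left c = 1)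
    (hs : pull ((𝟙 X)⁻¹ : X ⟶ X).left c = c) (h0 : pull (pullback.fst X.hom k) c = 1) : c = 1 := by
  have gi : GeometricallyIntegral X.hom := K814.AbBasic.geometricallyIntegral X
  have hsq := sq_eq_one hD h1 hs (hom_eq_one k hD h1 h0)
  let c' : Pic (PicF.XT X.hom (𝟙_ (Over S))) := pull (fst X (𝟙_ (Over S))).left c
  have hr : c' ∈ rg X (𝟙_ (Over S)) := by
    rw [mem_rg_iff, ev_fst, pull_one_pt h1]
  have e0 : pull (PicF.XTmap X.hom (toUnit (Over.mk k))) c' = 1 := by
    refine ext_ev fun W a g ↦ ?_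
    rw [ev_XTmap, ev_fst, map_one]
    -- the point `a` factors through `X₀`
    have e1 : a.left = pullback.lift a.left g.left (by
        have := Over.w a
        have h3 := Over.w g
        exact this.trans h3.symm) ≫ pullback.fst X.hom k := (pullback.lift_fst _ _ _).symm
    rw [e1, pull_comp, h0, map_one]
  have hk : (toUnit (Over.mk k)).left = k := rfl
  have hz : c' ∈ pz X.hom (𝟙_ (Over S)) := by
    let V : Unit → Scheme.{u} := fun _ ↦ S₀
    let j : ∀ i, V i ⟶ (𝟙_ (Over S)).left := fun _ ↦ k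
    have i1 : ∀ i, LocallyOfFiniteType (j i) := fun _ ↦ inferInstanceAs (LocallyOfFiniteType k)
    refine mem_gz_of_cover (PicF.XTproj X.hom (𝟙_ (Over S))) V j (fun t ↦ ?_) (fun _ ↦ PicF.XT X.hom (Over.mk k))
      (fun _ ↦ PicF.XTproj X.hom (Over.mk k)) (fun _ ↦ PicF.XTmap X.hom (toUnit (Over.mk k)))
      (fun _ ↦ isPullback_XTmap _) fun _ ↦ ?_
    · obtain ⟨s, hs⟩ := k.surjective t
      exact ⟨(), s, hs⟩
    · rw [e0]
      exact one_mem _
  -- the corresponding point of the dual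
  have e1 : cm φ c' = 1 := by
    have e2 : cm φ c' ^ 2 = 1 := by
      rw [pow_two, ← cm_mul hD hz hz]
      have e3 : c' * c' = 1 := by
        change pull _ c * pull _ c = 1
        rw [← map_mul, ← pow_two, hsq, map_one]
      rw [e3, cm_one hD]
    have e4 : toUnit (Over.mk k) ≫ cm φ c' = 1 := by
      rw [← cm_pull hD _ hz, e0, cm_one hD]
    have e5 := K814.AbBasic.etale_pow At h2
    have i2 : PreconnectedSpace ↥(𝟙_ (Over S)).left := inferInstanceAs (PreconnectedSpace S)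
    have i3 := K814.AbBasic.isProper_left At (𝟙 At ^ 2 : At ⟶ At)
    have i4 : IsSeparated (𝟙 At ^ 2 : At ⟶ At).left := inferInstance
    ext1
    refine Groth.Agent.Sga1.Transit.eq_of_connected (𝟙 At ^ 2 : At ⟶ At).left (cm φ c').left
      (1 : 𝟙_ (Over S) ⟶ At).left ?_ k ?_
    · rw [← Over.comp_left, ← Over.comp_left, MonObj.comp_pow, MonObj.comp_pow, Category.comp_id,
        Category.comp_id, e2, one_pow]
    · have e6 : toUnit (Over.mk k) ≫ cm φ c' = toUnit (Over.mk k) ≫ 1 := by rw [e4, MonObj.comp_one]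
      exact congrArg CommaMorphism.left e6
  have e8 : c' = 1 := cm_inj hD (bijective_XTproj X.hom) hz (one_mem _) hr (one_mem _) (by rw [e1, cm_one hD])
  have e9 := ev_fst c (𝟙 X) (toUnit X)
  change ev (𝟙 X) (toUnit X) c' = _ at e9
  rw [e8, map_one, Over.id_left] at e9
  exact (pull_id c).symm.trans e9.symm

end uniq

section exist

variable {S S₀ : Scheme.{u}} (k : S₀ ⟶ S) {X At : Over S} [GrpObj X]
  [GrpObj At] [IsProper X.hom] [Smooth X.hom] [GeometricallyConnected X.hom] [IsCommMonObj X]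
  {φ : ∀ T : Over S, PicF.Cl (PicF.XT X.hom T) → (T ⟶ At)}
  (hD : AbDual.IsDualAV Scheme.fppfPrecoverage X At φ)

include hD

/-- The Poincaré class is multiplicative in the second variable. -/
theorem ev_poinc_pow {ξ : Pic (PicF.XT X.hom At)} (e1 : ξ ∈ pz X.hom At) (e2 : ξ ∈ rg X At) (e3 : cm φ ξ = 𝟙 At)
    {W : Over S} (a : W ⟶ X) (y : W ⟶ At) (q : ℕ) : ev a (y ^ q) ξ = ev a y ξ ^ q := by
  have gi : GeometricallyIntegral X.hom := K814.AbBasic.geometricallyIntegral X
  have hm : ∀ y y' : W ⟶ At, ev a (y * y') ξ = ev a y ξ * ev a y' ξ := by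
    intro y y'
    have h := congrArg (ev a (𝟙 W)) (K732.Constr.pull_mul_poinc hD (bijective_XTproj X.hom) e1 e2 e3 y y')
    rw [map_mul, ev_XTmap, ev_XTmap, ev_XTmap, Category.id_comp, Category.id_comp, Category.id_comp] at h
    exact h
  induction q with
  | zero => rw [pow_zero, pow_zero, poinc_one hD e1 e2 e3]
  | succ q ih => rw [pow_succ, pow_succ, hm, ih]

/-- The class `(1, lam)^* ξ` restricts to `c₀ ^ (2 q)` if `lam` restricts to `φ_{c₀} ^ q`. -/
theorem pull_ev_lam {ξ : Pic (PicF.XT X.hom At)} (e1 : ξ ∈ pz X.hom At) (e2 : ξ ∈ rg X At) (e3 : cm φ ξ = 𝟙 At)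
    {c₀ : Pic (Red.bc k X).left} (h1 : pull (η[Red.bc k X] : 𝟙_ (Over S₀) ⟶ Red.bc k X).left c₀ = 1)
    (hs : pull ((𝟙 (Red.bc k X))⁻¹ : Red.bc k X ⟶ Red.bc k X).left c₀ = c₀) (q : ℕ) (lam : X ⟶ At)
    (hl : (Over.pullback k).map lam = (hom (AgPol.bcDual k X At φ) c₀) ^ q) :
    pull (pullback.fst X.hom k) (ev (𝟙 X) lam ξ) = c₀ ^ (2 * q) := by
  have j1 : IsProper (Red.bc k X).hom := inferInstanceAs (IsProper (pullback.snd X.hom k))
  have j2 : Smooth (Red.bc k X).hom := inferInstanceAs (Smooth (pullback.snd X.hom k))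
  have j3 : GeometricallyConnected (Red.bc k X).hom :=
    inferInstanceAs (GeometricallyConnected (pullback.snd X.hom k))
  have j4 : GeometricallyIntegral (Red.bc k X).hom := K814.AbBasic.geometricallyIntegral (Red.bc k X)
  have hD' := isDualAV_bc (k := k) hD
  have e1' := bcXi_mem_pz (k := k) e1
  have e2' := bcXi_mem_rg (k := k) e2
  have e3' : cm (At := Red.bc k At) (AgPol.bcDual k X At φ) (bcXi k X At ξ) = 𝟙 (Red.bc k At) := by
    rw [cm_bcXi hD e1, e3]
    exact (Over.pullback k).map_id At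
  have h2 : pull (pullback.fst X.hom k) (ev (𝟙 X) lam ξ) = ev (prj k X) (prj k X ≫ lam) ξ := by
    have h3 := pull_ev (prj k X) (𝟙 X) lam ξ
    rw [Category.comp_id] at h3
    exact h3
  rw [h2, ← ev_bcXi, up_comp, up_prj, Category.id_comp, hl, ev_poinc_pow hD' e1' e2' e3']
  have h4 := ev_hom hD' e1' e2' e3' h1 (𝟙 (Red.bc k X)) (𝟙 (Red.bc k X))
  rw [Category.id_comp] at h4
  have j5 : IsCommMonObj (Red.bc k X) := K814.AbBasic.isCommMonObj (Red.bc k X)
  rw [h4, ← D_def, D_self h1 hs, Over.id_left, pow_mul]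
  congr 2
  exact pull_id c₀

/-- `(1, lam)^* ξ` is symmetric and rigidified. -/
theorem ev_lam_symm {ξ : Pic (PicF.XT X.hom At)} (e1 : ξ ∈ pz X.hom At) (e2 : ξ ∈ rg X At) (e3 : cm φ ξ = 𝟙 At)
    (lam : X ⟶ At) [IsMonHom lam] : pull (η[X] : 𝟙_ (Over S) ⟶ X).left (ev (𝟙 X) lam ξ) = 1 ∧
      pull ((𝟙 X)⁻¹ : X ⟶ X).left (ev (𝟙 X) lam ξ) = ev (𝟙 X) lam ξ := by
  have gi : GeometricallyIntegral X.hom := K814.AbBasic.geometricallyIntegral X
  have hm : ∀ {W : Over S} (a : W ⟶ X) (y y' : W ⟶ At), ev a (y * y') ξ = ev a y ξ * ev a y' ξ := by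
    intro W a y y'
    have h := congrArg (ev a (𝟙 W)) (K732.Constr.pull_mul_poinc hD (bijective_XTproj X.hom) e1 e2 e3 y y')
    rw [map_mul, ev_XTmap, ev_XTmap, ev_XTmap, Category.id_comp, Category.id_comp, Category.id_comp] at h
    exact h
  have h1 : ∀ {W : Over S} (a : W ⟶ X) (y : W ⟶ At), ev a⁻¹ y ξ = (ev a y ξ)⁻¹ := by
    intro W a y
    have h := K814.PrimGeom.prim e1 e2 a a⁻¹ y
    rw [mul_inv_cancel, ev_one_of_mem e2] at h
    exact eq_inv_of_mul_eq_one_right h.symm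
  have h2 : ∀ {W : Over S} (a : W ⟶ X) (y : W ⟶ At), ev a y⁻¹ ξ = (ev a y ξ)⁻¹ := by
    intro W a y
    have h := hm a y y⁻¹
    rw [mul_inv_cancel, poinc_one hD e1 e2 e3] at h
    exact eq_inv_of_mul_eq_one_right h.symm
  constructor
  · rw [pull_ev, Category.comp_id, MonObj.one_eq_one, ev_one_of_mem e2]
  · rw [pull_ev, Category.comp_id, GrpObj.inv_comp, Category.id_comp, h1, h2, inv_inv]

/-- **Existence of a symmetric lift of `c₀²`.** -/
theorem exists_lift {c₀ : Pic (Red.bc k X).left}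
    (h1 : pull (η[Red.bc k X] : 𝟙_ (Over S₀) ⟶ Red.bc k X).left c₀ = 1)
    (hs : pull ((𝟙 (Red.bc k X))⁻¹ : Red.bc k X ⟶ Red.bc k X).left c₀ = c₀) (M : ℤ) (q : ℕ)
    (hMq : IsCoprime M (q : ℤ)) {B : Pic X.left} (hB1 : pull (η[X] : 𝟙_ (Over S) ⟶ X).left B = 1)
    (hB2 : pull ((𝟙 X)⁻¹ : X ⟶ X).left B = B) (hB3 : pull (pullback.fst X.hom k) B = c₀ ^ (2 * M))
    (lam : X ⟶ At) [IsMonHom lam]
    (hl : (Over.pullback k).map lam = (hom (AgPol.bcDual k X At φ) c₀) ^ q) :
    ∃ c : Pic X.left, pull (η[X] : 𝟙_ (Over S) ⟶ X).left c = 1 ∧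
      pull ((𝟙 X)⁻¹ : X ⟶ X).left c = c ∧ pull (pullback.fst X.hom k) c = c₀ ^ 2 := by
  have gi : GeometricallyIntegral X.hom := K814.AbBasic.geometricallyIntegral X
  obtain ⟨ξ, e1, e2, e3⟩ := exists_poinc hD (bijective_XTproj X.hom)
  obtain ⟨u, v, huv⟩ := hMq
  obtain ⟨f1, f2⟩ := ev_lam_symm hD e1 e2 e3 lam
  have f3 := pull_ev_lam k hD e1 e2 e3 h1 hs q lam hl
  refine ⟨B ^ u * ev (𝟙 X) lam ξ ^ v, ?_, ?_, ?_⟩
  · rw [map_mul, map_zpow, map_zpow, hB1, f1, one_zpow, one_zpow, _root_.one_mul]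
  · rw [map_mul, map_zpow, map_zpow, hB2, f2]
  · rw [map_mul, map_zpow, map_zpow, hB3, f3]
    have h2 : c₀ ^ (2 * q) = c₀ ^ ((2 * q : ℕ) : ℤ) := (zpow_natCast _ _).symm
    have h3 : c₀ ^ 2 = c₀ ^ ((2 : ℕ) : ℤ) := (zpow_natCast _ _).symm
    rw [h2, ← zpow_mul, ← zpow_mul, ← zpow_add, h3]
    congr 1
    push_cast
    linear_combination 2 * huv

end exist

end K732.HLift
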