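import Groth.Agent.AbDual.K732.HPow

/-!
# Integral matrices acting on powers

* `IsMat p M X` : the endomorphism `X` of `A = E^I` is given by the integral matrix `M`;
* `exists_isMat`, `IsMat.comp`, `IsMat.isMonHom`, `isMat_smul_one`;
* `pull_Q_mat` : `X^* Q_T = Q_(Mᵀ T M)`.
-/

set_option autoImplicit false
set_option linter.unusedSectionVars false
universe u

open CategoryTheory Limits MonoidalCategory CartesianMonoidalCategory AlgebraicGeometry
open scoped MonObj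

namespace K732.HMat

open Groth.Agent.Grpsch.PicGrp K732.HQuad K732.HPow

variable {S : Scheme.{u}} {E A : Over S} [GrpObj E] [GrpObj A] [IsCommMonObj E] {I : Type*} [Fintype I]
  {p : I → (A ⟶ E)}

/-- The endomorphism `X` is given by the integral matrix `M`. -/
def IsMat (p : I → (A ⟶ E)) (M : Matrix I I ℤ) (X : A ⟶ A) : Prop := ∀ i, X ≫ p i = ∏ j, p j ^ M i j

theorem exists_isMat (hp : IsPow p) (M : Matrix I I ℤ) : ∃ X : A ⟶ A, IsMat p M X :=
  hp.exists_lift _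

theorem IsMat.comp {M N : Matrix I I ℤ} {X Y : A ⟶ A} (hX : IsMat p M X) (hY : IsMat p N Y) :
    IsMat p (N * M) (X ≫ Y) := by
  intro i
  rw [Category.assoc, hY, comp_prod]
  simp only [GrpObj.comp_zpow, hX _, Matrix.mul_apply, zpow_sum, ← Finset.prod_zpow, ← zpow_mul]
  rw [Finset.prod_comm]
  refine Finset.prod_congr rfl fun l _ ↦ Finset.prod_congr rfl fun j _ ↦ ?_
  rw [mul_comm]

theorem IsMat.isMonHom (hp : IsPow p) {M : Matrix I I ℤ} {X : A ⟶ A} (hX : IsMat p M X) : IsMonHom X := by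
  refine K732.Bidual.isMonHom_of_mul _ fun W a b ↦ hp.hom_ext fun i ↦ ?_
  have hm := hp.isMonHom i
  have hmj : ∀ j, ((a * b) ≫ p j) = (a ≫ p j) * (b ≫ p j) := fun j ↦ by
    have := hp.isMonHom j
    exact MonObj.mul_comp _ _ _
  have h0 : ((a ≫ X) * (b ≫ X)) ≫ p i = ((a ≫ X) ≫ p i) * ((b ≫ X) ≫ p i) := MonObj.mul_comp _ _ _
  rw [h0, Category.assoc, Category.assoc, Category.assoc, hX i, comp_prod, comp_prod, comp_prod,
    ← Finset.prod_mul_distrib]
  refine Finset.prod_congr rfl fun j _ ↦ ?_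
  rw [GrpObj.comp_zpow, GrpObj.comp_zpow, GrpObj.comp_zpow, hmj, mul_zpow]

theorem isMat_smul_one [DecidableEq I] (hp : IsPow p) (n : ℤ) :
    IsMat p (n • (1 : Matrix I I ℤ)) ((𝟙 A : A ⟶ A) ^ n) := by
  intro i
  have hm := hp.isMonHom i
  have h1 : ((𝟙 A : A ⟶ A) ^ n) ≫ p i = p i ^ n := by
    rw [GrpObj.zpow_comp, Category.id_comp]
  rw [h1, Finset.prod_eq_single i]
  · simp
  · intro j _ hj
    rw [Matrix.smul_apply, Matrix.one_apply_ne hj.symm]
    simp
  · intro h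
    exact absurd (Finset.mem_univ i) h

theorem IsMat.unique (hp : IsPow p) {M : Matrix I I ℤ} {X Y : A ⟶ A} (hX : IsMat p M X) (hY : IsMat p M Y) :
    X = Y := hp.hom_ext fun i ↦ by rw [hX i, hY i]

section pull

variable {c : Pic E.left} [IsProper E.hom] [Flat E.hom]
  [LocallyOfFinitePresentation E.hom] [GeometricallyIntegral E.hom]
  (hc : pull (η[E] : 𝟙_ (Over S) ⟶ E).left c = 1)

include hc

theorem bil_mat_left {T M : Matrix I I ℤ} {X : A ⟶ A} (hX : IsMat p M X) {W : Over S} (a b : W ⟶ A) :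
    bil c p T (a ≫ X) b = bil c p (M.transpose * T) a b := by
  have e1 : ∀ i, (a ≫ X) ≫ p i = ∏ l, (a ≫ p l) ^ M i l := fun i ↦ by
    rw [Category.assoc, hX i, comp_prod]
    refine Finset.prod_congr rfl fun l _ ↦ ?_
    rw [GrpObj.comp_zpow]
  simp only [bil, e1, D_prod_left hc, D_zpow_left hc, Matrix.mul_apply, Matrix.transpose_apply, zpow_sum,
    ← Finset.prod_zpow, ← zpow_mul]
  calc _ = ∏ i, ∏ l, ∏ j, D c (a ≫ p l) (b ≫ p j) ^ (M i l * T i j) :=
        Finset.prod_congr rfl fun i _ ↦ Finset.prod_comm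
    _ = ∏ l, ∏ i, ∏ j, D c (a ≫ p l) (b ≫ p j) ^ (M i l * T i j) := Finset.prod_comm
    _ = _ := Finset.prod_congr rfl fun l _ ↦ Finset.prod_comm

theorem bil_mat_right {T M : Matrix I I ℤ} {X : A ⟶ A} (hX : IsMat p M X) {W : Over S} (a b : W ⟶ A) :
    bil c p T a (b ≫ X) = bil c p (T * M) a b := by
  have e2 : ∀ j, (b ≫ X) ≫ p j = ∏ l, (b ≫ p l) ^ M j l := fun j ↦ by
    rw [Category.assoc, hX j, comp_prod]
    refine Finset.prod_congr rfl fun l _ ↦ ?_
    rw [GrpObj.comp_zpow]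
  simp only [bil, e2, D_prod_right hc, D_zpow_right hc, Matrix.mul_apply, zpow_sum,
    ← Finset.prod_zpow, ← zpow_mul]
  refine Finset.prod_congr rfl fun i _ ↦ ?_
  rw [Finset.prod_comm]
  refine Finset.prod_congr rfl fun l _ ↦ Finset.prod_congr rfl fun j _ ↦ ?_
  rw [mul_comm]

/-- `X^* Q_T = Q_(Mᵀ T M)`. -/
theorem pull_Q_mat {T M : Matrix I I ℤ} {X : A ⟶ A} (hX : IsMat p M X) :
    pull X.left (Q c p T) = Q c p (M.transpose * T * M) := by
  rw [pull_Q, Q_eq_bil]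
  have h1 := bil_mat_left hc (T := T) hX (𝟙 A) X
  have h2 := bil_mat_right hc (T := M.transpose * T) hX (𝟙 A) (𝟙 A)
  rw [Category.id_comp] at h1 h2
  rw [h1, h2]

end pull

end K732.HMat
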