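import Groth.Agent.AbDual.K732.HPsi
import Groth.Agent.AbDual.K732.HLb

/-!
# Normalisation of `i` on the tangent line and congruences for square roots of `δ`
-/

set_option autoImplicit false
set_option linter.unusedSectionVars false
universe u

open CategoryTheory Limits MonoidalCategory CartesianMonoidalCategory AlgebraicGeometry
open scoped MonObj NumberField

namespace K732.HNorm

open K511.HT K988.LieModel K732.HLie Groth.Agent.Grpsch.PicGrp

section norm

variable {r : ℕ} {W : Type u} [CommRing W] [IsLocalRing W]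

/-- `EData` with `i` replaced by `-i`. -/
noncomputable def neg (D : EData r W) : EData r W where
  E := D.E
  ab := D.ab
  i := -D.i
  i_sq := by rw [neg_mul_neg, D.i_sq]
  F := D.F
  F_sq := D.F_sq
  F_i := by rw [map_neg, mul_neg, D.F_i, neg_mul]
  M₀ := D.M₀
  ample := D.ample
  i_M := by
    have h1 : (-D.i).toHom = D.i.toHom ≫ (𝟙 D.E)⁻¹ := by
      rw [EndAV.End.toHom_neg, GrpObj.comp_inv, Category.comp_id]
    rw [h1, Over.comp_left, pull_comp, K732.HLb.symm_of_i D.i_sq D.i_M, D.i_M]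
  F_M := D.F_M

/-- `i` acts on the tangent line by `iW`. -/
theorem exists_norm [IsDomain W] (D₀ : EData r W) {iW : W} (hi : iW ^ 2 = -1) :
    ∃ (D : EData r W) (c : Chart W D.E 1) (e : LL (𝟙 (Spc W)) D.E), c.co (𝟙 (Spc W)) e 0 = 1 ∧
      lieMap (𝟙 (Spc W)) D.i e = iW • e := by
  have hs := K814.RelDim.of_isAbSch D₀.E 1 D₀.ab
  obtain ⟨c⟩ := nonempty_chart W D₀.E 1
  obtain ⟨e, he⟩ := c.co_surjective (𝟙 (Spc W)) (fun _ ↦ 1)
  have he0 : c.co (𝟙 (Spc W)) e 0 = 1 := congrFun he 0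
  have hgen : ∀ v, v = c.co (𝟙 (Spc W)) v 0 • e := fun v ↦ by
    refine c.co_injective _ (funext fun i ↦ ?_)
    rw [Subsingleton.elim i 0, map_smul, Pi.smul_apply, he0, smul_eq_mul, mul_one]
  obtain ⟨t, ht⟩ : ∃ t, lieMap (𝟙 (Spc W)) D₀.i e = t • e := ⟨_, hgen _⟩
  have h1 : t ^ 2 = -1 := by
    have h2 : lieEnd (𝟙 (Spc W)) D₀.E (D₀.i * D₀.i) e = -e := by
      rw [D₀.i_sq, map_neg, map_one, LinearMap.neg_apply, Module.End.one_apply]
    rw [map_mul, Module.End.mul_apply] at h2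
    have h3 : lieEnd (𝟙 (Spc W)) D₀.E D₀.i e = t • e := ht
    rw [h3, map_smul, h3, smul_smul, ← pow_two] at h2
    have h4 := congrArg (fun v ↦ c.co (𝟙 (Spc W)) v 0) h2
    simp only [map_smul, map_neg, Pi.smul_apply, Pi.neg_apply, he0, smul_eq_mul, mul_one] at h4
    exact h4
  have h2 : (t - iW) * (t + iW) = 0 := by
    linear_combination h1 - hi
  rcases mul_eq_zero.1 h2 with h3 | h3
  · refine ⟨D₀, c, e, he0, ?_⟩
    rw [ht, sub_eq_zero.1 h3]
  · refine ⟨neg D₀, c, e, he0, ?_⟩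
    have h4 : lieEnd (𝟙 (Spc W)) D₀.E (-D₀.i) e = iW • e := by
      have h5 : lieEnd (𝟙 (Spc W)) D₀.E D₀.i e = t • e := ht
      rw [map_neg, LinearMap.neg_apply, h5, ← neg_smul, eq_neg_of_add_eq_zero_left h3, neg_neg]
    exact h4

end norm

section num

variable {r : ℕ} {W : Type u} [CommRing W] [IsDomain W] [IsDiscreteValuationRing W] {F : Type} [Field F]
  [NumberField F] {δ x y z ξ : 𝓞 F}

theorem root_sq : (AdjoinRoot.root (Polynomial.X ^ 2 + Polynomial.C δ : Polynomial (𝓞 F))) ^ 2 =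
    -AdjoinRoot.of (Polynomial.X ^ 2 + Polynomial.C δ) δ := by
  have h := AdjoinRoot.eval₂_root (Polynomial.X ^ 2 + Polynomial.C δ : Polynomial (𝓞 F))
  rw [Polynomial.eval₂_add, Polynomial.eval₂_pow, Polynomial.eval₂_X, Polynomial.eval₂_C] at h
  exact eq_neg_of_add_eq_zero_left h

/-- The square root `t` of `φ(δ)` near `φ(x)` is congruent to `φ(ξ)`. -/
theorem num (hr : r.Prime) (hr4 : r % 4 = 3) (hW : IsLocalRing.maximalIdeal W = Ideal.span {(r : W)})
    (hx : x ^ 2 + r * (y ^ 2 + z ^ 2) = δ) (hG : Good F δ r) {N : ℕ} (h1 : ξ ^ 2 - δ ∈ Ideal.span {(r : 𝓞 F) ^ N})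
    (h2 : ξ - x ∈ Ideal.span {(r : 𝓞 F)}) {iW : W} (hi : iW ^ 2 = -1) (φ : OD F δ →+* W) {t : W}
    (ht : φ (AdjoinRoot.root _) = t * iW) (htx : t - φ (AdjoinRoot.of _ x) ∈ IsLocalRing.maximalIdeal W) :
    t - φ (AdjoinRoot.of _ ξ) ∈ Ideal.span {(r : W) ^ N} := by
  let φ₀ : 𝓞 F →+* W := φ.comp (AdjoinRoot.of _)
  have e1 : t ^ 2 = φ₀ δ := by
    have h3 := congrArg φ (root_sq (δ := δ))
    rw [map_pow, ht, map_neg, mul_pow, hi] at h3
    have h4 : -(t ^ 2) = -φ₀ δ := by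
      rw [← mul_neg_one, h3]
      rfl
    exact neg_injective h4
  have e2 : φ₀ (ξ ^ 2 - δ) ∈ Ideal.span {(r : W) ^ N} := by
    have h3 := Ideal.mem_map_of_mem φ₀ h1
    rw [Ideal.map_span, Set.image_singleton, map_pow, map_natCast] at h3
    exact h3
  have e3 : (t - φ₀ ξ) * (t + φ₀ ξ) ∈ Ideal.span {(r : W) ^ N} := by
    have h3 : (t - φ₀ ξ) * (t + φ₀ ξ) = -φ₀ (ξ ^ 2 - δ) := by
      rw [map_sub, map_pow, ← e1]
      ring
    rw [h3]
    exact neg_mem e2
  have hrm : (r : W) ∈ IsLocalRing.maximalIdeal W := by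
    rw [hW]
    exact Ideal.mem_span_singleton_self _
  have e4 : φ₀ ξ - φ₀ x ∈ IsLocalRing.maximalIdeal W := by
    have h3 := Ideal.mem_map_of_mem φ₀ h2
    rw [Ideal.map_span, Set.image_singleton, map_natCast, ← hW, map_sub] at h3
    exact h3
  have e5 : IsUnit (t + φ₀ ξ) := by
    by_contra h3
    have h4 : t + φ₀ ξ ∈ IsLocalRing.maximalIdeal W := (IsLocalRing.mem_maximalIdeal _).2 h3
    have h5 : 2 * φ₀ x ∈ IsLocalRing.maximalIdeal W := by
      have h6 : 2 * φ₀ x = (t + φ₀ ξ) - (t - φ₀ x) - (φ₀ ξ - φ₀ x) := by ring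
      rw [h6]
      exact sub_mem (sub_mem h4 htx) e4
    rcases (IsLocalRing.maximalIdeal.isMaximal W).isPrime.mem_or_mem h5 with h6 | h6
    · have h7 : (1 : W) ∈ IsLocalRing.maximalIdeal W := by
        obtain ⟨k, hk⟩ : ∃ k, r = 2 * k + 1 := ⟨r / 2, by omega⟩
        have h8 : (1 : W) = r - 2 * k := by
          rw [hk]
          push_cast
          ring
        rw [h8]
        exact sub_mem hrm (Ideal.mul_mem_right _ _ h6)
      exact (IsLocalRing.maximalIdeal.isMaximal W).ne_top ((Ideal.eq_top_iff_one _).2 h7)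
    · have h7 : φ₀ δ ∈ IsLocalRing.maximalIdeal W := by
        rw [← hx, map_add, map_mul, map_natCast, map_pow, pow_two]
        exact add_mem (Ideal.mul_mem_right _ _ h6) (Ideal.mul_mem_right _ _ hrm)
      let v : Ideal (𝓞 F) := (IsLocalRing.maximalIdeal W).comap φ₀
      have h8 : (r : 𝓞 F) ∈ v := by
        rw [Ideal.mem_comap, map_natCast]
        exact hrm
      have h9 : v.IsPrime := Ideal.comap_isPrime φ₀ _
      have h10 : v ≠ ⊥ := by
        intro h
        rw [h, Ideal.mem_bot] at h8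
        exact hr.ne_zero (by exact_mod_cast h8)
      exact hG.unit v (h9.isMaximal h10) h8 h7
  obtain ⟨w, hw⟩ := e5
  have h3 := Ideal.mul_mem_right (w⁻¹.1) _ e3
  rw [mul_assoc, ← hw, Units.mul_inv, mul_one] at h3
  exact h3

end num

end K732.HNorm
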