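import Groth.Agent.AbDual.K732.HQuad
import Mathlib.LinearAlgebra.Matrix.Symmetric

/-!
# Line bundle classes on powers of an abelian scheme attached to symmetric integral matrices

`A` a power of `E` (abstractly: `IsPow p`), `c` a symmetric class on `E` with `c(0) = 1`, `T` a matrix over `ℤ`.

* `Q c p T` : the class `∏ (D c (p i) (p j)) ^ T i j`;
* `pull_Q`, `D_Q` : `a^* Q = b(a, a)`, `D Q a b = b(a, b)²` with `b(a, b) = ∏ D c (a i) (b j) ^ T i j`, `T` symmetric;
* `Q_symm`, `Q_one`, `Q_bc`;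
* `IsAdj`, `isAdj_mat` : the adjoint of an endomorphism `R ⊗ u` with respect to `Q`.
-/

set_option autoImplicit false
set_option linter.unusedSectionVars false
universe u

open CategoryTheory Limits MonoidalCategory CartesianMonoidalCategory AlgebraicGeometry
open scoped MonObj

namespace K732.HPow

open Groth.Agent.Grpsch.PicGrp Groth.Agent.Fga.RigGrp K732.PicZero K732.Prim K732.Dual K732.CubeSec
open K528.MumZero K732.BC K814.MumHom K732.HQuad

section adj

variable {S : Scheme.{u}} {A : Over S} [GrpObj A]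

/-- `u` and `v` are adjoint with respect to `D c`. -/
def IsAdj (c : Pic A.left) (u v : A ⟶ A) : Prop :=
  ∀ (W : Over S) (a b : W ⟶ A), D c (a ≫ u) b = D c a (b ≫ v)

theorem isAdj_iff {c : Pic A.left} {u v : A ⟶ A} :
    IsAdj c u v ↔ D c (fst A A ≫ u) (snd A A) = D c (fst A A) (snd A A ≫ v) := by
  refine ⟨fun h ↦ h _ _ _, fun h W a b ↦ ?_⟩
  have h1 := congrArg (pull (lift a b).left) h
  rw [D_comp, D_comp, lift_fst_assoc, lift_snd, lift_fst, lift_snd_assoc] at h1
  exact h1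

theorem IsAdj.comp {c : Pic A.left} {u v u' v' : A ⟶ A} (h : IsAdj c u v) (h' : IsAdj c u' v') :
    IsAdj c (u ≫ u') (v' ≫ v) := by
  intro W a b
  rw [← Category.assoc, h' W, h W, Category.assoc]

theorem IsAdj.symm [IsCommMonObj A] {c : Pic A.left} {u v : A ⟶ A} (h : IsAdj c u v) : IsAdj c v u := by
  intro W a b
  rw [D_comm, ← h W, D_comm]

theorem IsAdj.id (c : Pic A.left) : IsAdj c (𝟙 A) (𝟙 A) := by
  intro W a b
  rw [Category.comp_id, Category.comp_id]

variable [IsCommMonObj A] [IsProper A.hom] [Flat A.hom]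
  [LocallyOfFinitePresentation A.hom] [GeometricallyIntegral A.hom]
  {c : Pic A.left} (hc : pull (η[A] : 𝟙_ (Over S) ⟶ A).left c = 1)

include hc

theorem IsAdj.mul {u v u' v' : A ⟶ A} (h : IsAdj c u v) (h' : IsAdj c u' v') :
    IsAdj c (u * u') (v * v') := by
  intro W a b
  rw [MonObj.comp_mul, MonObj.comp_mul, D_mul_left hc, D_mul_right hc, h W, h' W]

theorem IsAdj.inv {u v : A ⟶ A} (h : IsAdj c u v) : IsAdj c u⁻¹ v⁻¹ := by
  intro W a b
  rw [GrpObj.comp_inv, GrpObj.comp_inv, D_inv_left hc, D_inv_right hc, h W]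

theorem IsAdj.one : IsAdj c 1 1 := by
  intro W a b
  rw [MonObj.comp_one, MonObj.comp_one, D_one_left hc, D_one_right hc]

theorem IsAdj.zpow {u v : A ⟶ A} (h : IsAdj c u v) (n : ℤ) : IsAdj c (u ^ n) (v ^ n) := by
  intro W a b
  rw [GrpObj.comp_zpow, GrpObj.comp_zpow, D_zpow_left hc, D_zpow_right hc, h W]

theorem IsAdj.prod {I : Type*} (s : Finset I) {u v : I → (A ⟶ A)} (h : ∀ i ∈ s, IsAdj c (u i) (v i)) :
    IsAdj c (∏ i ∈ s, u i) (∏ i ∈ s, v i) := by
  classical
  induction s using Finset.induction_on with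
  | empty => simpa using IsAdj.one hc
  | insert i s hi ih =>
    rw [Finset.prod_insert hi, Finset.prod_insert hi]
    exact (h i (Finset.mem_insert_self _ _)).mul hc (ih fun j hj ↦ h j (Finset.mem_insert_of_mem hj))

/-- If `v` is adjoint to `v⁻¹` and `v ≫ v ≫ w = [-N]` then `D (v^* c) 1 w = c ^ (2 N)`. -/
theorem D_pull_adj (hs : pull ((𝟙 A)⁻¹ : A ⟶ A).left c = c) {v w : A ⟶ A} [IsMonHom v] (hv : IsAdj c v v⁻¹)
    (N : ℤ) (hw : w ≫ v ≫ v = (𝟙 A) ^ (-N)) :
    D (pull v.left c) (𝟙 A) w = c ^ (2 * N) := by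
  rw [D_pull, Category.id_comp]
  have h1 := hv A (𝟙 A) (w ≫ v)
  rw [Category.id_comp, Category.assoc, GrpObj.comp_inv, GrpObj.comp_inv] at h1
  rw [h1, hw, zpow_neg, inv_inv, D_zpow_right hc, D_self hc hs, Over.id_left]
  have h2 : pull (𝟙 A.left) c = c := pull_id c
  rw [h2, zpow_mul]
  rfl

end adj

section pow

variable {S : Scheme.{u}} {E A : Over S} [GrpObj E] [GrpObj A] {I : Type*}

/-- `A` is a power of `E` with projections `p i`. -/
structure IsPow (p : I → (A ⟶ E)) : Prop where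
  exists_lift : ∀ {T : Over S} (f : I → (T ⟶ E)), ∃ g : T ⟶ A, ∀ i, g ≫ p i = f i
  hom_ext : ∀ {T : Over S} {g h : T ⟶ A}, (∀ i, g ≫ p i = h ≫ p i) → g = h
  isMonHom : ∀ i, IsMonHom (p i)

theorem comp_prod [IsCommMonObj E] {X Y : Over S} (f : X ⟶ Y) (s : Finset I) (g : I → (Y ⟶ E)) :
    f ≫ ∏ i ∈ s, g i = ∏ i ∈ s, f ≫ g i := by
  classical
  induction s using Finset.induction_on with
  | empty => rw [Finset.prod_empty, Finset.prod_empty, MonObj.comp_one]
  | insert i s hi ih => rw [Finset.prod_insert hi, Finset.prod_insert hi, MonObj.comp_mul, ih]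

theorem zpow_sum {G : Type*} [CommGroup G] (s : Finset I) (x : G) (f : I → ℤ) :
    x ^ (∑ i ∈ s, f i) = ∏ i ∈ s, x ^ f i := by
  classical
  induction s using Finset.induction_on with
  | empty => simp
  | insert i s hi ih => rw [Finset.sum_insert hi, Finset.prod_insert hi, zpow_add, ih]

variable [Fintype I]

/-- `∏ D c (a i) (b j) ^ T i j`. -/
noncomputable def bil (c : Pic E.left) (p : I → (A ⟶ E)) (T : Matrix I I ℤ) {W : Over S} (a b : W ⟶ A) :
    Pic W.left := ∏ i, ∏ j, D c (a ≫ p i) (b ≫ p j) ^ T i j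

/-- The class attached to the matrix `T`. -/
noncomputable def Q (c : Pic E.left) (p : I → (A ⟶ E)) (T : Matrix I I ℤ) : Pic A.left :=
  ∏ i, ∏ j, D c (p i) (p j) ^ T i j

variable {c : Pic E.left} {p : I → (A ⟶ E)} {T : Matrix I I ℤ}

theorem pull_Q {W : Over S} (a : W ⟶ A) : pull a.left (Q c p T) = bil c p T a a := by
  simp only [Q, bil, map_prod, map_zpow, D_comp]

theorem Q_eq_bil : Q c p T = bil c p T (𝟙 A) (𝟙 A) := by
  simp only [Q, bil, Category.id_comp]

theorem pull_bil {W W' : Over S} (w : W' ⟶ W) (a b : W ⟶ A) :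
    pull w.left (bil c p T a b) = bil c p T (w ≫ a) (w ≫ b) := by
  simp only [bil, map_prod, map_zpow, D_comp, Category.assoc]

theorem bil_comm [IsCommMonObj E] (hT : T.IsSymm) {W : Over S} (a b : W ⟶ A) : bil c p T a b = bil c p T b a := by
  rw [bil, bil, Finset.prod_comm]
  refine Finset.prod_congr rfl fun j _ ↦ Finset.prod_congr rfl fun i _ ↦ ?_
  rw [D_comm, hT.apply]

section cls

variable (c p T)

theorem Q_zpow (n : ℤ) : Q c p T ^ n = Q c p (n • T) := by
  simp only [Q, ← Finset.prod_zpow]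
  refine Finset.prod_congr rfl fun i _ ↦ Finset.prod_congr rfl fun j _ ↦ ?_
  rw [← zpow_mul, Matrix.smul_apply, smul_eq_mul, mul_comm]

theorem Q_add (T' : Matrix I I ℤ) : Q c p (T + T') = Q c p T * Q c p T' := by
  simp only [Q, ← Finset.prod_mul_distrib]
  refine Finset.prod_congr rfl fun i _ ↦ Finset.prod_congr rfl fun j _ ↦ ?_
  rw [Matrix.add_apply, zpow_add]

end cls

variable (hp : IsPow p)

include hp

theorem bil_one_left (hc : pull (η[E] : 𝟙_ (Over S) ⟶ E).left c = 1) {W : Over S} (b : W ⟶ A) :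
    bil c p T 1 b = 1 := by
  have h : ∀ i, (1 : W ⟶ A) ≫ p i = 1 := fun i ↦ by
    have := hp.isMonHom i
    exact MonObj.one_comp _
  simp only [bil, h, D_one_left hc, one_zpow, Finset.prod_const_one]

theorem Q_one (hc : pull (η[E] : 𝟙_ (Over S) ⟶ E).left c = 1) :
    pull (η[A] : 𝟙_ (Over S) ⟶ A).left (Q c p T) = 1 := by
  have h := pull_Q (c := c) (p := p) (T := T) (η[A] : 𝟙_ (Over S) ⟶ A)
  rw [MonObj.one_eq_one] at h ⊢
  rw [h, bil_one_left hp hc]

omit hp in
theorem bil_bc {S' : Scheme.{u}} (k : S' ⟶ S) {W : Over S} (a b : W ⟶ A) :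
    pull (pullback.fst W.hom k) (bil c p T a b) =
      bil (E := Red.bc k E) (A := Red.bc k A) (W := Red.bc k W) (pull (pullback.fst E.hom k) c)
        (fun i ↦ (Over.pullback k).map (p i)) T ((Over.pullback k).map a) ((Over.pullback k).map b) := by
  simp only [bil, map_prod, map_zpow]
  refine Finset.prod_congr rfl fun i _ ↦ Finset.prod_congr rfl fun j _ ↦ ?_
  rw [D_bc, Functor.map_comp, Functor.map_comp]

omit hp in
theorem Q_bc {S' : Scheme.{u}} (k : S' ⟶ S) :
    pull (pullback.fst A.hom k) (Q c p T) =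
      Q (E := Red.bc k E) (A := Red.bc k A) (pull (pullback.fst E.hom k) c)
        (fun i ↦ (Over.pullback k).map (p i)) T := by
  simp only [Q, map_prod, map_zpow]
  refine Finset.prod_congr rfl fun i _ ↦ Finset.prod_congr rfl fun j _ ↦ ?_
  rw [D_bc]

variable [IsCommMonObj E] [IsProper E.hom] [Flat E.hom]
  [LocallyOfFinitePresentation E.hom] [GeometricallyIntegral E.hom]
  (hc : pull (η[E] : 𝟙_ (Over S) ⟶ E).left c = 1)

include hc

theorem bil_mul_left {W : Over S} (a a' b : W ⟶ A) :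
    bil c p T (a * a') b = bil c p T a b * bil c p T a' b := by
  have h : ∀ i, (a * a') ≫ p i = (a ≫ p i) * (a' ≫ p i) := fun i ↦ by
    have := hp.isMonHom i
    exact MonObj.mul_comp _ _ _
  simp only [bil, h, D_mul_left hc, mul_zpow, Finset.prod_mul_distrib]

theorem bil_mul_right {W : Over S} (a b b' : W ⟶ A) :
    bil c p T a (b * b') = bil c p T a b * bil c p T a b' := by
  have h : ∀ i, (b * b') ≫ p i = (b ≫ p i) * (b' ≫ p i) := fun i ↦ by
    have := hp.isMonHom i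
    exact MonObj.mul_comp _ _ _
  simp only [bil, h, D_mul_right hc, mul_zpow, Finset.prod_mul_distrib]

theorem bil_inv_left {W : Over S} (a b : W ⟶ A) :
    bil c p T a⁻¹ b = (bil c p T a b)⁻¹ := by
  have h := bil_mul_left (T := T) hp hc a a⁻¹ b
  rw [mul_inv_cancel, bil_one_left hp hc] at h
  exact eq_inv_of_mul_eq_one_right h.symm

theorem bil_inv_right {W : Over S} (a b : W ⟶ A) :
    bil c p T a b⁻¹ = (bil c p T a b)⁻¹ := by
  have h1 : bil c p T a 1 = 1 := by
    have h := bil_mul_right (T := T) hp hc a 1 1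
    rw [one_mul] at h
    exact mul_eq_left.1 h.symm
  have h := bil_mul_right (T := T) hp hc a b b⁻¹
  rw [mul_inv_cancel, h1] at h
  exact eq_inv_of_mul_eq_one_right h.symm

/-- `D Q a b = b(a, b)²`. -/
theorem D_Q (hT : T.IsSymm) {W : Over S} (a b : W ⟶ A) : D (Q c p T) a b = bil c p T a b ^ 2 := by
  rw [D, pull_Q, pull_Q, pull_Q, bil_mul_left hp hc, bil_mul_right hp hc, bil_mul_right hp hc,
    bil_comm hT b a, mul_inv_eq_iff_eq_mul, mul_inv_eq_iff_eq_mul, pow_two]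
  ac_rfl

theorem Q_symm : pull ((𝟙 A)⁻¹ : A ⟶ A).left (Q c p T) = Q c p T := by
  rw [pull_Q, bil_inv_left hp hc, bil_inv_right hp hc, inv_inv, Q_eq_bil]

/-- **Adjoints**: an endomorphism `R ⊗ u` has adjoint `R' ⊗ u'` if `u` and `u'` are adjoint and `Rᵀ T = T R'`. -/
theorem bil_adj {u u' : E ⟶ E} [IsMonHom u] [IsMonHom u'] (hu : IsAdj c u u') {R R' : Matrix I I ℤ}
    (hR : R.transpose * T = T * R') {X X' : A ⟶ A} (hX : ∀ i, X ≫ p i = ∏ j, (p j ≫ u) ^ R i j)
    (hX' : ∀ i, X' ≫ p i = ∏ j, (p j ≫ u') ^ R' i j) {W : Over S} (a b : W ⟶ A) :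
    bil c p T (a ≫ X) b = bil c p T a (b ≫ X') := by
  have e1 : ∀ i, (a ≫ X) ≫ p i = ∏ l, (a ≫ p l ≫ u) ^ R i l := fun i ↦ by
    rw [Category.assoc, hX, comp_prod]
    refine Finset.prod_congr rfl fun l _ ↦ ?_
    rw [GrpObj.comp_zpow]
  have e2 : ∀ j, (b ≫ X') ≫ p j = ∏ l, (b ≫ p l ≫ u') ^ R' j l := fun j ↦ by
    rw [Category.assoc, hX', comp_prod]
    refine Finset.prod_congr rfl fun l _ ↦ ?_
    rw [GrpObj.comp_zpow]
  have h1 : bil c p T (a ≫ X) b = ∏ l, ∏ j, D c (a ≫ p l ≫ u) (b ≫ p j) ^ (R.transpose * T) l j := by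
    simp only [bil, e1, D_prod_left hc, D_zpow_left hc, Matrix.mul_apply, Matrix.transpose_apply, zpow_sum,
      ← Finset.prod_zpow, ← zpow_mul]
    calc _ = ∏ i, ∏ l, ∏ j, D c (a ≫ p l ≫ u) (b ≫ p j) ^ (R i l * T i j) :=
          Finset.prod_congr rfl fun i _ ↦ Finset.prod_comm
      _ = ∏ l, ∏ i, ∏ j, D c (a ≫ p l ≫ u) (b ≫ p j) ^ (R i l * T i j) := Finset.prod_comm
      _ = _ := Finset.prod_congr rfl fun l _ ↦ Finset.prod_comm
  have h3 : bil c p T a (b ≫ X') = ∏ l, ∏ j, D c (a ≫ p l) (b ≫ p j ≫ u') ^ (T * R') l j := by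
    simp only [bil, e2, D_prod_right hc, D_zpow_right hc, Matrix.mul_apply, zpow_sum,
      ← Finset.prod_zpow, ← zpow_mul]
    refine Finset.prod_congr rfl fun i _ ↦ ?_
    rw [Finset.prod_comm]
    refine Finset.prod_congr rfl fun l _ ↦ Finset.prod_congr rfl fun j _ ↦ ?_
    rw [mul_comm]
  rw [h1, h3, hR]
  refine Finset.prod_congr rfl fun l _ ↦ Finset.prod_congr rfl fun j _ ↦ ?_
  rw [← Category.assoc a, hu W, Category.assoc]

/-- The same for the class `Q`. -/
theorem isAdj_Q (hT : T.IsSymm) {u u' : E ⟶ E} [IsMonHom u] [IsMonHom u'] (hu : IsAdj c u u')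
    {R R' : Matrix I I ℤ} (hR : R.transpose * T = T * R') {X X' : A ⟶ A}
    (hX : ∀ i, X ≫ p i = ∏ j, (p j ≫ u) ^ R i j) (hX' : ∀ i, X' ≫ p i = ∏ j, (p j ≫ u') ^ R' i j) :
    IsAdj (Q c p T) X X' := by
  intro W a b
  rw [D_Q hp hc hT, D_Q hp hc hT, bil_adj hp hc hu hR hX hX']

end pow

end K732.HPow
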