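import Groth.Agent.AbDual.K732.HLie2
import Groth.Agent.AbVar.K511.HT.Iface4

/-!
# Comparison of Lie algebras through an isomorphism of reductions; congruences for square roots
-/

set_option autoImplicit false
set_option linter.unusedSectionVars false
universe u

open CategoryTheory Limits MonoidalCategory CartesianMonoidalCategory AlgebraicGeometry
open scoped MonObj NumberField

namespace K732.HPsi

open K511.HT K988.LieModel K732.HLie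

section psi

variable {S : Scheme.{u}} {B : Type u} [CommRing B] (q : Spc B ⟶ S) {X Y : Over S} [GrpObj X] [GrpObj Y]
  [IsCommMonObj X] [IsCommMonObj Y] (ε : Red.bc q Y ≅ Red.bc q X) [IsMonHom ε.hom]

theorem lieMap_natCast {T : Scheme.{u}} (f : Spc B ⟶ T) (G : Over T) [GrpObj G] [IsCommMonObj G] (m : ℕ)
    (v : LL f G) : lieMap f (m : EndAV.End G) v = (m : B) • v := by
  have h1 : lieEnd f G (m : EndAV.End G) v = (m : B) • v := by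
    rw [map_natCast, Module.End.natCast_apply, Nat.cast_smul_eq_nsmul]
  exact h1

/-- The comparison of the Lie algebras. -/
theorem exists_psi : ∃ Ψ : LL (𝟙 (Spc B) ≫ q) X ≃ₗ[B] LL (𝟙 (Spc B) ≫ q) Y,
    ∀ (a : EndAV.End Y) (b : EndAV.End X) (κ : EndAV.End (Red.bc q X)) (r N : ℕ), (r : B) ^ N = 0 →
      ε.inv ≫ (bcEnd q Y a).toHom ≫ ε.hom = (bcEnd q X b + (r : EndAV.End _) ^ N * κ).toHom →
      ∀ y, lieMap (𝟙 (Spc B) ≫ q) a (Ψ y) = Ψ (lieMap (𝟙 (Spc B) ≫ q) b y) := by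
  let e1 : EndAV.Hom (Red.bc q Y) (Red.bc q X) := EndAV.Hom.of ε.hom
  let e2 : EndAV.Hom (Red.bc q X) (Red.bc q Y) := EndAV.Hom.of ε.inv
  have h12 : (e1 ≫ e2 : EndAV.Hom (Red.bc q Y) (Red.bc q Y)) = 𝟙 _ := EndAV.Hom.ext ε.hom_inv_id
  have h21 : (e2 ≫ e1 : EndAV.Hom (Red.bc q X) (Red.bc q X)) = 𝟙 _ := EndAV.Hom.ext ε.inv_hom_id
  have k12 : ∀ v, lieMap (𝟙 (Spc B)) e2 (lieMap (𝟙 (Spc B)) e1 v) = v := fun v ↦ by
    have h := lieMap_comp (𝟙 (Spc B)) e1 e2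
    rw [h12, lieMap_id] at h
    exact (congrArg (fun t : LL (𝟙 (Spc B)) (Red.bc q Y) →ₗ[B] LL (𝟙 (Spc B)) (Red.bc q Y) ↦ t v) h).symm
  have k21 : ∀ v, lieMap (𝟙 (Spc B)) e1 (lieMap (𝟙 (Spc B)) e2 v) = v := fun v ↦ by
    have h := lieMap_comp (𝟙 (Spc B)) e2 e1
    rw [h21, lieMap_id] at h
    exact (congrArg (fun t : LL (𝟙 (Spc B)) (Red.bc q X) →ₗ[B] LL (𝟙 (Spc B)) (Red.bc q X) ↦ t v) h).symm
  let E : LL (𝟙 (Spc B)) (Red.bc q X) ≃ₗ[B] LL (𝟙 (Spc B)) (Red.bc q Y) :=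
    LinearEquiv.ofLinearMap (lieMap (𝟙 (Spc B)) e2) (lieMap (𝟙 (Spc B)) e1) (LinearMap.ext k12) (LinearMap.ext k21)
  refine ⟨(lieBc q (𝟙 (Spc B)) X).symm ≪≫ₗ E ≪≫ₗ lieBc q (𝟙 (Spc B)) Y, fun a b κ r N hr hε y ↦ ?_⟩
  obtain ⟨z, rfl⟩ := (lieBc q (𝟙 (Spc B)) X).surjective y
  have h3 : lieMap (𝟙 (Spc B) ≫ q) b (lieBc q (𝟙 (Spc B)) X z) =
      lieBc q (𝟙 (Spc B)) X (lieMap (𝟙 (Spc B)) (bcEnd q X b) z) :=
    (lieBc_lieEnd q (𝟙 (Spc B)) X b z).symm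
  rw [h3]
  simp only [LinearEquiv.trans_apply, LinearEquiv.symm_apply_apply]
  have h4 : lieMap (𝟙 (Spc B) ≫ q) a (lieBc q (𝟙 (Spc B)) Y (E z)) =
      lieBc q (𝟙 (Spc B)) Y (lieMap (𝟙 (Spc B)) (bcEnd q Y a) (E z)) :=
    (lieBc_lieEnd q (𝟙 (Spc B)) Y a (E z)).symm
  rw [h4]
  congr 1
  change lieMap (𝟙 (Spc B)) (bcEnd q Y a) (lieMap (𝟙 (Spc B)) e2 z) = lieMap (𝟙 (Spc B)) e2
    (lieMap (𝟙 (Spc B)) (bcEnd q X b) z)
  have h5 : (e2 ≫ (bcEnd q Y a : EndAV.Hom _ _) ≫ e1 : EndAV.Hom (Red.bc q X) (Red.bc q X)) =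
      (bcEnd q X b + (r : EndAV.End _) ^ N * κ : EndAV.End _) := EndAV.Hom.ext hε
  have h6 : lieMap (𝟙 (Spc B)) (bcEnd q X b + (r : EndAV.End _) ^ N * κ : EndAV.End _) z =
      lieMap (𝟙 (Spc B)) (bcEnd q X b) z := by
    have h7 : lieEnd (𝟙 (Spc B)) (Red.bc q X) (bcEnd q X b + (r : EndAV.End _) ^ N * κ) z =
        lieEnd (𝟙 (Spc B)) (Red.bc q X) (bcEnd q X b) z := by
      rw [map_add, map_mul, map_pow, map_natCast, LinearMap.add_apply, Module.End.mul_apply]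
      have h8 : ∀ w : LL (𝟙 (Spc B)) (Red.bc q X),
          (((r : ℕ) : Module.End B (LL (𝟙 (Spc B)) (Red.bc q X))) ^ N) w = 0 := fun w ↦ by
        rw [← Nat.cast_pow, Module.End.natCast_apply, ← Nat.cast_smul_eq_nsmul B, Nat.cast_pow, hr, zero_smul]
      rw [h8, add_zero]
    exact h7
  rw [← h5] at h6
  have h9 : lieMap (𝟙 (Spc B)) (e2 ≫ (bcEnd q Y a : EndAV.Hom _ _) ≫ e1 : EndAV.Hom (Red.bc q X) (Red.bc q X)) z =
      lieMap (𝟙 (Spc B)) e1 (lieMap (𝟙 (Spc B)) (bcEnd q Y a) (lieMap (𝟙 (Spc B)) e2 z)) := by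
    rw [lieMap_comp, lieMap_comp]
    rfl
  rw [← h6, h9, k12]

end psi

end K732.HPsi
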