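import Groth.Agent.AgPol.K814.MumHom
import Groth.Agent.AgPol.K814.PrimGeom

/-!
# Quadratic calculus of line bundle classes on an abelian scheme, over any base

`D c a b = (a + b)^* c - a^* c - b^* c` for `T`-valued points `a b` of an abelian scheme `A / S` and a class `c` on
`A` trivial along the unit section.

* `D_mul_left`, `D_mul_right`, `D_comm`, `D_zpow_left` : it is biadditive and symmetric;
* `D_comp`, `D_pull`, `D_bc` : functoriality;
* `D_self` : `D c a a = (a^* c)²` if `c` is symmetric;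
* `IsAdj c u v` : `D c (a ≫ u) b = D c a (b ≫ v)`.
-/

set_option autoImplicit false
set_option linter.unusedSectionVars false
universe u

open CategoryTheory Limits MonoidalCategory CartesianMonoidalCategory AlgebraicGeometry
open scoped MonObj

namespace K732.HQuad

open Groth.Agent.Grpsch.PicGrp Groth.Agent.Fga.RigGrp K732.PicZero K732.Prim K732.Dual K732.CubeSec
open K528.MumZero K732.BC K814.MumHom

section basic

variable {S : Scheme.{u}} {A B : Over S} [GrpObj A] [GrpObj B]

/-- `(a + b)^* c - a^* c - b^* c`. -/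
noncomputable def D (c : Pic A.left) {W : Over S} (a b : W ⟶ A) : Pic W.left :=
  pull (a * b).left c * (pull a.left c)⁻¹ * (pull b.left c)⁻¹

theorem D_def (c : Pic A.left) {W : Over S} (a b : W ⟶ A) :
    D c a b = pull (a * b).left c * (pull a.left c)⁻¹ * (pull b.left c)⁻¹ := rfl

theorem D_eq_ev (c : Pic A.left) {W : Over S} (a b : W ⟶ A) : D c a b = ev a b (mumCl A c) :=
  (ev_mum c a b).symm

theorem pull_mul_pt (c : Pic A.left) {W : Over S} (a b : W ⟶ A) :
    pull (a * b).left c = D c a b * (pull a.left c * pull b.left c) := by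
  rw [D, mul_comm (pull a.left c), ← mul_assoc, inv_mul_cancel_right, inv_mul_cancel_right]

theorem D_comp (c : Pic A.left) {W W' : Over S} (w : W' ⟶ W) (a b : W ⟶ A) :
    pull w.left (D c a b) = D c (w ≫ a) (w ≫ b) := by
  simp only [D, map_mul, map_inv, ← pull_comp, ← Over.comp_left, MonObj.comp_mul]

theorem D_pull (c : Pic B.left) (f : A ⟶ B) [IsMonHom f] {W : Over S} (a b : W ⟶ A) :
    D (pull f.left c) a b = D c (a ≫ f) (b ≫ f) := by
  simp only [D, ← pull_comp, ← Over.comp_left, MonObj.mul_comp]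

theorem D_mul_class (c d : Pic A.left) {W : Over S} (a b : W ⟶ A) : D (c * d) a b = D c a b * D d a b := by
  simp only [D, map_mul, mul_inv]
  ac_rfl

theorem D_one_class {W : Over S} (a b : W ⟶ A) : D (1 : Pic A.left) a b = 1 := by
  simp [D]

/-- `c ↦ D c a b` as a homomorphism. -/
noncomputable def Dhom {W : Over S} (a b : W ⟶ A) : Pic A.left →* Pic W.left where
  toFun c := D c a b
  map_one' := D_one_class a b
  map_mul' c d := D_mul_class c d a b

theorem D_inv_class (c : Pic A.left) {W : Over S} (a b : W ⟶ A) : D c⁻¹ a b = (D c a b)⁻¹ :=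
  map_inv (Dhom a b) c

theorem D_zpow_class (c : Pic A.left) {W : Over S} (a b : W ⟶ A) (n : ℤ) : D (c ^ n) a b = D c a b ^ n :=
  map_zpow (Dhom a b) c n

theorem D_pow_class (c : Pic A.left) {W : Over S} (a b : W ⟶ A) (n : ℕ) : D (c ^ n) a b = D c a b ^ n :=
  map_pow (Dhom a b) c n

theorem D_prod_class {I : Type*} (s : Finset I) (c : I → Pic A.left) {W : Over S} (a b : W ⟶ A) :
    D (∏ i ∈ s, c i) a b = ∏ i ∈ s, D (c i) a b :=
  map_prod (Dhom a b) c s

theorem D_comm [IsCommMonObj A] (c : Pic A.left) {W : Over S} (a b : W ⟶ A) : D c a b = D c b a := by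
  rw [D, D, mul_comm a b, mul_right_comm]

theorem pull_one_pt {c : Pic A.left} (hc : pull (η[A] : 𝟙_ (Over S) ⟶ A).left c = 1) {W : Over S} :
    pull (1 : W ⟶ A).left c = 1 := pull_one_left c hc W

theorem D_one_left {c : Pic A.left} (hc : pull (η[A] : 𝟙_ (Over S) ⟶ A).left c = 1) {W : Over S}
    (b : W ⟶ A) : D c 1 b = 1 := by
  rw [D, one_mul, pull_one_pt hc, inv_one, mul_one, mul_inv_cancel]

theorem D_one_right {c : Pic A.left} (hc : pull (η[A] : 𝟙_ (Over S) ⟶ A).left c = 1) {W : Over S}
    (a : W ⟶ A) : D c a 1 = 1 := by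
  rw [D, mul_one, pull_one_pt hc, inv_one, mul_one, mul_inv_cancel]

end basic

section bc

variable {S S' : Scheme.{u}} {A : Over S} [GrpObj A] (k : S' ⟶ S)

/-- Base change of `D`. -/
theorem D_bc (c : Pic A.left) {W : Over S} (a b : W ⟶ A) :
    pull (pullback.fst W.hom k) (D c a b) =
      D (A := Red.bc k A) (W := Red.bc k W) (pull (pullback.fst A.hom k) c) ((Over.pullback k).map a)
        ((Over.pullback k).map b) := by
  have h : ∀ a : W ⟶ A, pull ((Over.pullback k).map a).left (pull (pullback.fst A.hom k) c) =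
      pull (pullback.fst W.hom k) (pull a.left c) := by
    intro a
    rw [← pull_comp, ← pull_comp]
    congr 2
    exact pullback.lift_fst _ _ _
  have hm : (Over.pullback k).map (a * b) = (Over.pullback k).map a * (Over.pullback k).map b :=
    Functor.map_mul _ _ _
  simp only [D, map_mul, map_inv]
  rw [← h, ← h, ← h, hm]

end bc

section mul

variable {S : Scheme.{u}} {A B : Over S} [GrpObj A] [GrpObj B] [IsCommMonObj A] [IsProper A.hom] [Flat A.hom]
  [LocallyOfFinitePresentation A.hom] [GeometricallyIntegral A.hom]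
  {c : Pic A.left} (hc : pull (η[A] : 𝟙_ (Over S) ⟶ A).left c = 1)

include hc

theorem D_mul_left {W : Over S} (a a' b : W ⟶ A) : D c (a * a') b = D c a b * D c a' b := by
  rw [D_eq_ev, D_eq_ev, D_eq_ev]
  exact K814.PrimGeom.prim (mum_pz c) (mum_mem_rg hc) a a' b

theorem D_mul_right {W : Over S} (a b b' : W ⟶ A) : D c a (b * b') = D c a b * D c a b' := by
  rw [D_comm, D_mul_left hc, D_comm c b, D_comm c b']

/-- `D c a -` as a homomorphism. -/
noncomputable def DR {W : Over S} (a : W ⟶ A) : (W ⟶ A) →* Pic W.left where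
  toFun b := D c a b
  map_one' := D_one_right hc a
  map_mul' b b' := D_mul_right hc a b b'

/-- `D c - b` as a homomorphism. -/
noncomputable def DL {W : Over S} (b : W ⟶ A) : (W ⟶ A) →* Pic W.left where
  toFun a := D c a b
  map_one' := D_one_left hc b
  map_mul' a a' := D_mul_left hc a a' b

theorem D_inv_left {W : Over S} (a b : W ⟶ A) : D c a⁻¹ b = (D c a b)⁻¹ := map_inv (DL hc b) a

theorem D_inv_right {W : Over S} (a b : W ⟶ A) : D c a b⁻¹ = (D c a b)⁻¹ := map_inv (DR hc a) b

theorem D_zpow_left {W : Over S} (a b : W ⟶ A) (n : ℤ) : D c (a ^ n) b = D c a b ^ n :=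
  map_zpow (DL hc b) a n

theorem D_zpow_right {W : Over S} (a b : W ⟶ A) (n : ℤ) : D c a (b ^ n) = D c a b ^ n :=
  map_zpow (DR hc a) b n

theorem D_prod_left {I : Type*} (s : Finset I) {W : Over S} (a : I → (W ⟶ A)) (b : W ⟶ A) :
    D c (∏ i ∈ s, a i) b = ∏ i ∈ s, D c (a i) b := map_prod (DL hc b) a s

theorem D_prod_right {I : Type*} (s : Finset I) {W : Over S} (a : W ⟶ A) (b : I → (W ⟶ A)) :
    D c a (∏ i ∈ s, b i) = ∏ i ∈ s, D c a (b i) := map_prod (DR hc a) b s

/-- `D c a a = (a^* c)²` for `c` symmetric. -/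
theorem D_self (hs : pull ((𝟙 A)⁻¹ : A ⟶ A).left c = c) {W : Over S} (a : W ⟶ A) :
    D c a a = pull a.left c ^ 2 := by
  have h1 : pull (a⁻¹ : W ⟶ A).left c = pull a.left c := by
    conv_rhs => rw [← hs]
    rw [← pull_comp, ← Over.comp_left, GrpObj.comp_inv, Category.comp_id]
  have h2 : D c a a⁻¹ = (pull a.left c ^ 2)⁻¹ := by
    rw [D, mul_inv_cancel, pull_one_pt hc, h1, one_mul, pow_two, mul_inv]
  rw [D_inv_right hc] at h2
  exact inv_injective h2

end mul

end K732.HQuad
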