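import Groth.Agent.AbDual.K732.HBas
import Groth.Agent.AbDual.K732.HLbu
import Groth.Agent.AbDual.K732.HAmp
import Groth.Agent.AgPol.K533.PolBC

/-!
# Transitivity of base change and lifts of symmetric classes over quotients of a local ring
-/

set_option autoImplicit false
set_option linter.unusedSectionVars false
universe u

open CategoryTheory Limits MonoidalCategory CartesianMonoidalCategory AlgebraicGeometry
open scoped MonObj

namespace K732.HQuo

open Groth.Agent.Grpsch.PicGrp Groth.Agent.Fga.RigGrp K732.HQuad K732.HPow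
open Groth.Agent

section tr

variable {S S' T T' : Scheme.{u}} (κ : T ⟶ S) (q : S' ⟶ S) (k : T' ⟶ S') (e : T' ⟶ T) (h : k ≫ q = e ≫ κ)

/-- The projection `X_{T'} ⟶ X_T`. -/
noncomputable def tr (X : Over S) : (Red.bc k (Red.bc q X)).left ⟶ (Red.bc κ X).left :=
  pullback.lift (pullback.fst (Red.bc q X).hom k ≫ pullback.fst X.hom q) (pullback.snd (Red.bc q X).hom k ≫ e) (by
    rw [Category.assoc, pullback.condition, Category.assoc, ← h]
    have h1 := pullback.condition (f := (Red.bc q X).hom) (g := k)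
    change _ ≫ pullback.snd X.hom q = _ at h1
    rw [reassoc_of% h1])

theorem tr_fst (X : Over S) : tr κ q k e h X ≫ pullback.fst X.hom κ =
    pullback.fst (Red.bc q X).hom k ≫ pullback.fst X.hom q := pullback.lift_fst _ _ _

theorem tr_snd (X : Over S) : tr κ q k e h X ≫ pullback.snd X.hom κ =
    pullback.snd (Red.bc q X).hom k ≫ e := pullback.lift_snd _ _ _

theorem isPullback_tr (X : Over S) : IsPullback (tr κ q k e h X) (pullback.snd (Red.bc q X).hom k)
    (pullback.snd X.hom κ) e := by
  refine IsPullback.of_right (h₁₂ := pullback.fst X.hom κ) (h₂₂ := κ) (v₁₃ := X.hom) ?_ (tr_snd κ q k e h X)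
    (IsPullback.of_hasPullback _ _)
  rw [tr_fst, ← h]
  exact (IsPullback.of_hasPullback (Red.bc q X).hom k).paste_horiz (IsPullback.of_hasPullback X.hom q)

theorem isIso_tr [IsIso e] (X : Over S) : IsIso (tr κ q k e h X) :=
  MorphismProperty.of_isPullback (P := MorphismProperty.isomorphisms Scheme) (isPullback_tr κ q k e h X).flip
    (inferInstanceAs (IsIso e))

theorem map_fst {S S' : Scheme.{u}} (q : S' ⟶ S) {X Y : Over S} (f : X ⟶ Y) :
    ((Over.pullback q).map f).left ≫ pullback.fst Y.hom q = pullback.fst X.hom q ≫ f.left :=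
  pullback.lift_fst _ _ _

theorem map_snd {S S' : Scheme.{u}} (q : S' ⟶ S) {X Y : Over S} (f : X ⟶ Y) :
    ((Over.pullback q).map f).left ≫ pullback.snd Y.hom q = pullback.snd X.hom q :=
  Over.w ((Over.pullback q).map f)

theorem tr_naturality {X Y : Over S} (f : X ⟶ Y) :
    ((Over.pullback k).map ((Over.pullback q).map f)).left ≫ tr κ q k e h Y =
      tr κ q k e h X ≫ ((Over.pullback κ).map f).left := by
  apply pullback.hom_ext
  · rw [Category.assoc, Category.assoc, map_fst, ← Category.assoc (tr κ q k e h X), tr_fst, tr_fst]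
    have h1 := map_fst k ((Over.pullback q).map f)
    rw [← Category.assoc]
    refine (congrArg (· ≫ pullback.fst Y.hom q) h1).trans ?_
    simp only [Category.assoc]
    congr 1
    exact map_fst q f
  · rw [Category.assoc, Category.assoc, map_snd, tr_snd, tr_snd, ← Category.assoc]
    congr 1
    exact map_snd k ((Over.pullback q).map f)

theorem map_inv_id {S S' : Scheme.{u}} (q : S' ⟶ S) (X : Over S) [GrpObj X] :
    (Over.pullback q).map ((𝟙 X)⁻¹ : X ⟶ X) = (𝟙 (Red.bc q X))⁻¹ := by
  have := Functor.map_inv' (Over.pullback q) (𝟙 X : X ⟶ X)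
  rw [this, (Over.pullback q).map_id]

/-- Symmetric classes stay symmetric. -/
theorem pull_inv_fst {S S' : Scheme.{u}} (q : S' ⟶ S) {X : Over S} [GrpObj X] {c : Pic X.left}
    (hc : pull ((𝟙 X)⁻¹ : X ⟶ X).left c = c) :
    pull ((𝟙 (Red.bc q X))⁻¹ : Red.bc q X ⟶ Red.bc q X).left (pull (pullback.fst X.hom q) c) =
      pull (pullback.fst X.hom q) c := by
  have h1 : pull (pullback.fst X.hom q) (pull ((𝟙 X)⁻¹ : X ⟶ X).left c) = pull (pullback.fst X.hom q) c := by
    rw [hc]
  rw [← map_inv_id]
  rw [← pull_comp, ← map_fst, pull_comp] at h1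
  exact h1

theorem pull_inv_tr {X : Over S} [GrpObj X] {c : Pic (Red.bc κ X).left}
    (hc : pull ((𝟙 (Red.bc κ X))⁻¹ : Red.bc κ X ⟶ Red.bc κ X).left c = c) :
    pull ((𝟙 (Red.bc k (Red.bc q X)))⁻¹ : Red.bc k (Red.bc q X) ⟶ Red.bc k (Red.bc q X)).left
      (pull (tr κ q k e h X) c) = pull (tr κ q k e h X) c := by
  rw [← map_inv_id, ← map_inv_id, ← pull_comp, tr_naturality, pull_comp, map_inv_id, hc]

end tr

end K732.HQuo
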