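import Groth.Agent.AbDual.K732.AV
import Groth.Agent.AbDual.K732.BC
import Groth.Agent.Sga7.H756.RevIsog
import Groth.Agent.Sga7.H760.KerBc

/-!
# Transposes of isogenies

* `isTranspose_pow` : `[n]` is the transpose of `[n]`;
* `exists_rev_transp` : over a field, the transpose of an isogeny has a quasi-inverse;
* `surjective_transp`, `isFinite_transp` over a field.
-/

set_option autoImplicit false
universe u

open CategoryTheory CategoryTheory.Limits MonoidalCategory CartesianMonoidalCategory MonObj GrpObj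
  AlgebraicGeometry

namespace K732.Isog

open Groth.Agent.Grpsch.PicGrp Groth.Agent.Fga.RigGrp K732.Cov K732.PicZero K732.RigSheaf K732.Dual
open K732.CubeSec K732.Transp K732.Prim K732.Bidual K732.BC

section pow

variable {S : Scheme.{u}} [IsLocallyNoetherian S] {A At : Over S} [GrpObj A] [GrpObj At]
  [IsProper A.hom] [Flat A.hom] [LocallyOfFinitePresentation A.hom] [GeometricallyIntegral A.hom]
  [LocallyOfFiniteType At.hom] [GeometricallyConnected At.hom]
  {φ : ∀ T : Over S, PicF.Cl (PicF.XT A.hom T) → (T ⟶ At)}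
  (hD : AbDual.IsDualAV Scheme.fppfPrecoverage A At φ)

include hD

/-- `[n]` is the transpose of `[n]`. -/
theorem isTranspose_pow (n : ℕ) : AbDual.IsTranspose ((𝟙 A : A ⟶ A) ^ n) φ φ ((𝟙 At : At ⟶ At) ^ n) := by
  induction n with
  | zero =>
    rw [pow_zero, pow_zero]
    exact isTranspose_one hD hD
  | succ n ih =>
    rw [pow_succ, pow_succ]
    exact isTranspose_mul hD hD ih isTranspose_id

end pow

/-- Geometrically integral morphisms are geometrically connected. -/
theorem geomConn_of_geomInt {A B : Scheme.{u}} (f : A ⟶ B) [hf : GeometricallyIntegral f] :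
    GeometricallyConnected f := by
  refine ⟨fun K _ y Z g h hp ↦ ?_⟩
  have h1 : IsIntegral Z := hf.geometrically_isIntegral y g h hp
  exact (inferInstance : ConnectedSpace Z)

section field

variable (K : Type u) [Field K] {X Y Xt Yt : Over (Spec (CommRingCat.of K))}
  [GrpObj X] [GrpObj Y] [GrpObj Xt] [GrpObj Yt]
  [IsProper X.hom] [GeometricallyIntegral X.hom] [IsProper Y.hom] [GeometricallyIntegral Y.hom]
  [IsProper Xt.hom] [GeometricallyIntegral Xt.hom] [IsProper Yt.hom] [GeometricallyIntegral Yt.hom]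
  {φX : ∀ T : Over (Spec (CommRingCat.of K)), PicF.Cl (PicF.XT X.hom T) → (T ⟶ Xt)}
  {φY : ∀ T : Over (Spec (CommRingCat.of K)), PicF.Cl (PicF.XT Y.hom T) → (T ⟶ Yt)}

/-- The transpose of an isogeny has a quasi-inverse. -/
theorem exists_rev_transp (hX : AbDual.IsDualAV Scheme.fppfPrecoverage X Xt φX)
    (hY : AbDual.IsDualAV Scheme.fppfPrecoverage Y Yt φY) (f : X ⟶ Y) [IsMonHom f]
    (hf : SGA7.IsIsogenyOver f) {ft : Yt ⟶ Xt} (hft : AbDual.IsTranspose f φX φY ft) :
    ∃ (n : ℕ) (gt : Xt ⟶ Yt), 1 ≤ n ∧ gt ≫ ft = 𝟙 Xt ^ n ∧ ft ≫ gt = 𝟙 Yt ^ n := by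
  have : IsNoetherianRing (CommRingCat.of K) := inferInstanceAs (IsNoetherianRing K)
  have hfl : ∀ Z : Over (Spec (CommRingCat.of K)), Flat Z.hom := fun Z ↦ by
    have : Subsingleton ↥(Spec (CommRingCat.of K)) :=
      inferInstanceAs (Subsingleton (PrimeSpectrum K))
    infer_instance
  have hlp : ∀ Z : Over (Spec (CommRingCat.of K)), LocallyOfFiniteType Z.hom →
      LocallyOfFinitePresentation Z.hom := fun Z hZ ↦ by
    infer_instance
  have i1 := hfl X
  have i2 := hfl Y
  have j1 := hlp X inferInstance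
  have j2 := hlp Y inferInstance
  have c1 : GeometricallyConnected Xt.hom := geomConn_of_geomInt Xt.hom
  have c2 : GeometricallyConnected Yt.hom := geomConn_of_geomInt Yt.hom
  obtain ⟨n, g, hn, hg, h1, h2⟩ := Groth.Agent.Sga7.H756.RevIsog.exists_rev K f hf
  obtain ⟨gt, hgt⟩ := exists_isTranspose hY hX (bijective_XTproj X.hom) g
  refine ⟨n, gt, hn, ?_, ?_⟩
  · have h3 := isTranspose_comp hft hgt
    rw [h1] at h3
    exact isTranspose_unique hX (bijective_XTproj X.hom) h3 (isTranspose_pow hX n)
  · have h3 := isTranspose_comp hgt hft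
    rw [h2] at h3
    exact isTranspose_unique hY (bijective_XTproj Y.hom) h3 (isTranspose_pow hY n)

/-- The transpose of an isogeny is finite and surjective. -/
theorem isFinite_surjective_transp (hX : AbDual.IsDualAV Scheme.fppfPrecoverage X Xt φX)
    (hY : AbDual.IsDualAV Scheme.fppfPrecoverage Y Yt φY) (f : X ⟶ Y) [IsMonHom f]
    (hf : SGA7.IsIsogenyOver f) {ft : Yt ⟶ Xt} (hft : AbDual.IsTranspose f φX φY ft) :
    IsFinite ft.left ∧ Surjective ft.left := by
  obtain ⟨n, gt, hn, h1, h2⟩ := exists_rev_transp K hX hY f hf hft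
  have k1 := Groth.Agent.Grpsch.MulFinFlat.isFinite_flat_surjective K Xt n hn
  have k2 := Groth.Agent.Grpsch.MulFinFlat.isFinite_flat_surjective K Yt n hn
  rw [← h1] at k1
  rw [← h2] at k2
  rw [Over.comp_left] at k1 k2
  constructor
  · have s1 : IsSeparated gt.left := by
      have : IsSeparated (gt.left ≫ Yt.hom) := by rw [Over.w]; infer_instance
      exact IsSeparated.of_comp gt.left Yt.hom
    have := k2.1
    exact IsFinite.of_comp ft.left gt.left
  · have := k1.2.2
    exact Surjective.of_comp gt.left ft.left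

end field

/-! ### Reduction to geometric points -/

section geom

variable {S : Scheme.{u}}

/-- The base change of a morphism of `S`-schemes is a base change. -/
theorem isPullback_map {S' : Scheme.{u}} (k : S' ⟶ S) {X Y : Over S} (f : X ⟶ Y) :
    IsPullback (pullback.fst X.hom k) ((Over.pullback k).map f).left f.left
      (pullback.fst Y.hom k) := by
  have h1 : ((Over.pullback k).map f).left ≫ pullback.snd Y.hom k = pullback.snd X.hom k :=
    Over.w ((Over.pullback k).map f)
  have h2 : f.left ≫ Y.hom = X.hom := Over.w f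
  refine IsPullback.of_bot (v₂₁ := pullback.snd Y.hom k) (v₂₂ := Y.hom) (h₃₁ := k) ?_
    (pullback.lift_fst _ _ _).symm (IsPullback.of_hasPullback Y.hom k)
  rw [h1, h2]
  exact IsPullback.of_hasPullback X.hom k

variable {X Y : Over S}

/-- The point of the geometric fibre. -/
theorem exists_geom (x : Y.left) : ∃ (Ω : Type u) (_ : Field Ω) (_ : IsAlgClosed Ω)
    (k : Spec (CommRingCat.of Ω) ⟶ S) (x' : (Red.bc k Y).left), pullback.fst Y.hom k x' = x := by
  let Ω := AlgebraicClosure (Y.left.residueField x)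
  let q : Spec (CommRingCat.of Ω) ⟶ Y.left :=
    Spec.map (CommRingCat.ofHom (algebraMap (Y.left.residueField x) Ω)) ≫
      Y.left.fromSpecResidueField x
  let o : ↥(Spec (CommRingCat.of Ω)) := IsLocalRing.closedPoint Ω
  have hq : q o = x := by
    have h1 := Scheme.range_fromSpecResidueField x
    have h2 : q o ∈ Set.range (Y.left.fromSpecResidueField x) :=
      ⟨Spec.map (CommRingCat.ofHom (algebraMap (Y.left.residueField x) Ω)) o, rfl⟩
    rw [h1] at h2
    exact h2
  refine ⟨Ω, inferInstance, inferInstance, q ≫ Y.hom,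
    (pullback.lift q (𝟙 _) (Category.id_comp _).symm : _ ⟶ pullback Y.hom (q ≫ Y.hom)) o, ?_⟩
  have h3 := Scheme.Hom.comp_apply
    (pullback.lift q (𝟙 _) (Category.id_comp _).symm : _ ⟶ pullback Y.hom (q ≫ Y.hom))
    (pullback.fst Y.hom (q ≫ Y.hom)) o
  rw [pullback.lift_fst, hq] at h3
  exact h3.symm

/-- Points of fibre products. -/
theorem exists_preimage {P A B C : Scheme.{u}} {a : P ⟶ A} {b : P ⟶ B} {f : A ⟶ C} {g : B ⟶ C}
    (h : IsPullback a b f g) (x : A) (y : B) (hxy : f x = g y) : ∃ z : P, a z = x ∧ b z = y := by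
  obtain ⟨z, hz1, hz2⟩ := Scheme.Pullback.exists_preimage_pullback x y hxy
  refine ⟨h.isoPullback.inv z, ?_, ?_⟩
  · rw [← Scheme.Hom.comp_apply, h.isoPullback_inv_fst, hz1]
  · rw [← Scheme.Hom.comp_apply, h.isoPullback_inv_snd, hz2]

theorem surjective_of_geom (f : X ⟶ Y) (h : ∀ (Ω : Type u) [Field Ω] [IsAlgClosed Ω]
    (k : Spec (CommRingCat.of Ω) ⟶ S), Surjective ((Over.pullback k).map f).left) :
    Surjective f.left := by
  refine ⟨fun x ↦ ?_⟩
  obtain ⟨Ω, _, _, k, x', rfl⟩ := exists_geom x
  obtain ⟨y', rfl⟩ := (h Ω k).surj x'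
  refine ⟨pullback.fst X.hom k y', ?_⟩
  rw [← Scheme.Hom.comp_apply, (isPullback_map k f).w]
  rfl

theorem isFinite_of_geom (f : X ⟶ Y) [IsProper f.left] (h : ∀ (Ω : Type u) [Field Ω]
    [IsAlgClosed Ω] (k : Spec (CommRingCat.of Ω) ⟶ S), IsFinite ((Over.pullback k).map f).left) :
    IsFinite f.left := by
  have : LocallyQuasiFinite f.left := by
    refine LocallyQuasiFinite.of_finite_preimage_singleton _ fun x ↦ ?_
    obtain ⟨Ω, _, _, k, x', rfl⟩ := exists_geom x
    have h1 := h Ω k
    refine ((((Over.pullback k).map f).left.finite_preimage_singleton x').image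
      (pullback.fst X.hom k)).subset fun y hy ↦ ?_
    obtain ⟨z, hz1, hz2⟩ := exists_preimage (isPullback_map k f).flip x' y hy.symm
    exact ⟨z, hz1, hz2⟩
  exact IsFinite.of_isProper_of_locallyQuasiFinite _

theorem isIsogenyOver_bc {S' : Scheme.{u}} (k : S' ⟶ S) [GrpObj Y] (f : X ⟶ Y)
    [Surjective f.left] (N : Over S) (i : N ⟶ X) (hN : AlgGrp.IsKernel i f) [IsFinite N.hom] :
    SGA7.IsIsogenyOver ((Over.pullback k).map f) := by
  constructor
  · exact MorphismProperty.of_isPullback (isPullback_map k f) inferInstance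
  · intro N' i' hN'
    have h1 := Groth.Agent.Sga7.H760.KerBc.isKernel_bc k hN
    have e : N' ≅ Red.bc k N := hN'.isoPullback ≪≫ h1.isoPullback.symm
    have h2 : IsFinite (Red.bc k N).hom := inferInstanceAs (IsFinite (pullback.snd N.hom k))
    have h3 : N'.hom = e.hom.left ≫ (Red.bc k N).hom := (Over.w e.hom).symm
    rw [h3]
    have : IsIso e.hom.left := inferInstanceAs (IsIso ((Over.forget _).map e.hom))
    infer_instance

end geom

/-! ### Abelian schemes over a locally Noetherian base -/

section general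

variable {S : Scheme.{u}} {X Y Xt Yt : Over S} [GrpObj X] [GrpObj Y] [GrpObj Xt] [GrpObj Yt]
  [IsProper X.hom] [Smooth X.hom] [GeometricallyConnected X.hom]
  [IsProper Y.hom] [Smooth Y.hom] [GeometricallyConnected Y.hom]
  [IsProper Xt.hom] [Smooth Xt.hom] [GeometricallyConnected Xt.hom]
  [IsProper Yt.hom] [Smooth Yt.hom] [GeometricallyConnected Yt.hom]
  {φX : ∀ T : Over S, PicF.Cl (PicF.XT X.hom T) → (T ⟶ Xt)}
  {φY : ∀ T : Over S, PicF.Cl (PicF.XT Y.hom T) → (T ⟶ Yt)}

/-- The transpose of an isogeny is finite and surjective. -/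
theorem isFinite_surjective (hX : AbDual.IsDualAV Scheme.fppfPrecoverage X Xt φX)
    (hY : AbDual.IsDualAV Scheme.fppfPrecoverage Y Yt φY) (f : X ⟶ Y) [IsMonHom f]
    [Surjective f.left] (N : Over S) (i : N ⟶ X) (hN : AlgGrp.IsKernel i f) [IsFinite N.hom]
    {ft : Yt ⟶ Xt} (hft : AbDual.IsTranspose f φX φY ft) :
    IsFinite ft.left ∧ Surjective ft.left := by
  have g1 := K732.AV.geomInt X
  have g2 := K732.AV.geomInt Y
  have g3 := K732.AV.geomInt Xt
  have g4 := K732.AV.geomInt Yt
  have key : ∀ (Ω : Type u) [Field Ω] [IsAlgClosed Ω] (k : Spec (CommRingCat.of Ω) ⟶ S),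
      IsFinite ((Over.pullback k).map ft).left ∧ Surjective ((Over.pullback k).map ft).left := by
    intro Ω _ _ k
    have p1 : IsProper (Red.bc k X).hom := inferInstanceAs (IsProper (pullback.snd X.hom k))
    have p2 : IsProper (Red.bc k Y).hom := inferInstanceAs (IsProper (pullback.snd Y.hom k))
    have p3 : IsProper (Red.bc k Xt).hom := inferInstanceAs (IsProper (pullback.snd Xt.hom k))
    have p4 : IsProper (Red.bc k Yt).hom := inferInstanceAs (IsProper (pullback.snd Yt.hom k))
    have q1 : GeometricallyIntegral (Red.bc k X).hom :=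
      inferInstanceAs (GeometricallyIntegral (pullback.snd X.hom k))
    have q2 : GeometricallyIntegral (Red.bc k Y).hom :=
      inferInstanceAs (GeometricallyIntegral (pullback.snd Y.hom k))
    have q3 : GeometricallyIntegral (Red.bc k Xt).hom :=
      inferInstanceAs (GeometricallyIntegral (pullback.snd Xt.hom k))
    have q4 : GeometricallyIntegral (Red.bc k Yt).hom :=
      inferInstanceAs (GeometricallyIntegral (pullback.snd Yt.hom k))
    exact isFinite_surjective_transp Ω (isDualAV_bc hX) (isDualAV_bc hY)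
      ((Over.pullback k).map f) (isIsogenyOver_bc k f N i hN) (isTranspose_bc hft)
  have p : IsProper ft.left := by
    have : IsProper (ft.left ≫ Xt.hom) := by rw [Over.w]; infer_instance
    exact IsProper.of_comp ft.left Xt.hom
  exact ⟨isFinite_of_geom ft fun Ω _ _ k ↦ (key Ω k).1,
    surjective_of_geom ft fun Ω _ _ k ↦ (key Ω k).2⟩

end general

end K732.Isog
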