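import Groth.Agent.AbDual.K732.EtKer
import Groth.Agent.AbVar.K530.GenSub
import Groth.Agent.AbVar.K512.Pts

/-!
# The homomorphism `φ_c : X ⟶ X^t` attached to a class

`k` an algebraically closed field, `X` an abelian variety with dual `Xt` through `φ`, `c : Pic X`.

* `lam φ c : X ⟶ Xt` : the morphism defined by the Mumford class;
* `isMonHom_lam`, `comp_lam_eq_one_iff`, `exists_lam_eq` (`c` ample: surjective on points);
* `isIsogenyOver_lam` (`c` ample).
-/

set_option autoImplicit false
set_option linter.unusedSectionVars false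
universe u

open CategoryTheory CategoryTheory.Limits MonoidalCategory CartesianMonoidalCategory MonObj GrpObj
  AlgebraicGeometry

namespace K732.Lam

open Groth.Agent.Grpsch.PicGrp Groth.Agent.Fga.RigGrp Groth.Agent.Grpsch.Cube K732.Cov K732.PicZero
open K732.RigSheaf K732.Dual K732.CubeSec K732.Transp K732.Prim K732.Bidual K518.Phi
open K528.MumZero (mumCl)

variable {k : Type u} [Field k]

/-- A proper scheme with finitely many rational points is finite. -/
theorem isFinite_of_pts [IsAlgClosed k] (N : Over (Spec (CommRingCat.of k))) [IsProper N.hom]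
    (h : (Set.univ : Set (𝟙_ (Over (Spec (CommRingCat.of k))) ⟶ N)).Finite) : IsFinite N.hom := by
  have hJ : JacobsonSpace N.left := LocallyOfFiniteType.jacobsonSpace N.hom
  let g : (𝟙_ (Over (Spec (CommRingCat.of k))) ⟶ N) → N.left :=
    fun x ↦ x.left (IsLocalRing.closedPoint k)
  have h1 : closedPoints N.left ⊆ g '' Set.univ := by
    intro z hz
    obtain ⟨x, hx⟩ := K512.Pts.exists_pt z hz
    exact ⟨x, trivial, hx⟩
  have h2 : (closedPoints N.left).Finite := (h.image g).subset h1
  have h3 : IsClosed (closedPoints N.left) := by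
    have h4 : closedPoints N.left = ⋃ z ∈ closedPoints N.left, {z} :=
      (Set.biUnion_of_singleton _).symm
    rw [h4]
    exact h2.isClosed_biUnion fun z hz ↦ hz
  have h5 : closedPoints N.left = Set.univ := by
    rw [← h3.closure_eq, closure_closedPoints]
  have h6 : (Set.univ : Set N.left).Finite := h5 ▸ h2
  have h7 : LocallyQuasiFinite N.hom :=
    LocallyQuasiFinite.of_finite_preimage_singleton _ fun x ↦ h6.subset (Set.subset_univ _)
  exact IsFinite.of_isProper_of_locallyQuasiFinite _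

section mum

variable {X : Over (Spec (CommRingCat.of k))} [GrpObj X] {W : Over (Spec (CommRingCat.of k))}

theorem ev_mumCl (c : Pic X.left) (a y : W ⟶ X) :
    ev a y (mumCl X c) = pl (a * y) c * (pl a c)⁻¹ * (pl y c)⁻¹ :=
  K528.MumZero.pull_lift_mumCl X c a y

theorem mumCl_mem_rg (c : Pic X.left) : mumCl X c ∈ rg X X := by
  rw [mem_rg_iff, ev_mumCl, _root_.one_mul, Groth.Agent.Grpsch.Cube.pl_one, inv_one,
    _root_.mul_one, mul_inv_cancel]

theorem mumCl_mem_pz [LocallyOfFiniteType X.hom] [QuasiCompact X.hom]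
    [GeometricallyConnected X.hom] (c : Pic X.left) : mumCl X c ∈ pz X.hom X :=
  K528.MumZero.fibZero_mumCl X c

theorem sw_mumCl [IsCommMonObj X] (c : Pic X.left) : sw X X (mumCl X c) = mumCl X c := by
  refine ext_ev fun W a y ↦ ?_
  rw [ev_sw, ev_mumCl, ev_mumCl, _root_.mul_comm y a, mul_right_comm]

variable [IsProper X.hom] [GeometricallyIntegral X.hom]

theorem ev_mumCl_mul (c : Pic X.left) (a y z : W ⟶ X) :
    ev a (y * z) (mumCl X c) = ev a y (mumCl X c) * ev a z (mumCl X c) := by
  have h := cube c a y z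
  rw [ev_mumCl, ev_mumCl, ev_mumCl, ← _root_.mul_assoc a y z]
  have h' := congrArg Additive.ofMul h
  apply Additive.ofMul.injective
  simp only [ofMul_mul, ofMul_inv] at h' ⊢
  linear_combination (norm := module) h'

end mum

variable {X Xt : Over (Spec (CommRingCat.of k))} [GrpObj X] [GrpObj Xt]
  [IsProper X.hom] [Smooth X.hom] [GeometricallyConnected X.hom]
  {φ : ∀ T : Over (Spec (CommRingCat.of k)), PicF.Cl (PicF.XT X.hom T) → (T ⟶ Xt)}
  (hD : AbDual.IsDualAV Scheme.fppfPrecoverage X Xt φ)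

variable (φ) in
/-- The morphism `φ_c : X ⟶ Xt`. -/
noncomputable def lam (c : Pic X.left) : X ⟶ Xt := cm φ (mumCl X c)

include hD

theorem comp_lam (c : Pic X.left) {T : Over (Spec (CommRingCat.of k))} (x : T ⟶ X) :
    x ≫ lam φ c = cm φ (pull (PicF.XTmap X.hom x) (mumCl X c)) := by
  rw [lam, cm_pull hD _ (mumCl_mem_pz c)]

theorem isMonHom_lam (c : Pic X.left) : IsMonHom (lam φ c) := by
  have := K732.AV.geomInt X
  refine isMonHom_of_mul _ fun W a b ↦ ?_
  rw [comp_lam hD, comp_lam hD, comp_lam hD, ← cm_mul hD (pull_XTmap_mem _ (mumCl_mem_pz c))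
    (pull_XTmap_mem _ (mumCl_mem_pz c))]
  congr 1
  refine ext_ev fun W y g ↦ ?_
  rw [map_mul, ev_XTmap, ev_XTmap, ev_XTmap, MonObj.comp_mul, ev_mumCl_mul]

theorem phi_eq_one_of_comp (c : Pic X.left) {x : 𝟙_ (Over (Spec (CommRingCat.of k))) ⟶ X}
    (h : x ≫ lam φ c = 1) : phi c x = 1 := by
  have h1 : pull (PicF.XTmap X.hom x) (mumCl X c) = 1 := by
    refine cm_inj hD (K732.AV.hF X) (pull_XTmap_mem _ (mumCl_mem_pz c)) (one_mem _)
      (pull_mem _ (mumCl_mem_rg c)) (one_mem _) ?_
    rw [← comp_lam hD, h, cm_one hD]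
  have h2 := ev_XTmap (𝟙 X) (toUnit X) x (mumCl X c)
  rw [h1, map_one, ev_mumCl] at h2
  have h3 : pl (toUnit X ≫ x) c = 1 := pl_const (T := X) x c
  rw [h3, inv_one, _root_.mul_one, K518.Phi.pl_id] at h2
  exact h2.symm

section closed

variable [IsAlgClosed k] [IsProper Xt.hom] [Smooth Xt.hom] [GeometricallyConnected Xt.hom]

/-- The class on `X` defined by a point of the dual is translation invariant. -/
theorem exists_inv (y : 𝟙_ (Over (Spec (CommRingCat.of k))) ⟶ Xt) :
    ∃ m ∈ Inv X, ∀ c : Pic X.left, ∀ x : 𝟙_ (Over (Spec (CommRingCat.of k))) ⟶ X,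
      phi c x = m → x ≫ lam φ c = y := by
  have g := K732.AV.geomInt X
  obtain ⟨c', h1, h2, h3⟩ := exists_cm hD (K732.AV.hF X) y
  refine ⟨ev (𝟙 X) (toUnit X) c', ?_, ?_⟩
  · rw [mem_Inv_iff]
    intro x
    change pull (tr x).left (ev (𝟙 X) (toUnit X) c') = _
    rw [pull_ev, Category.comp_id, toUnit_unique (tr x ≫ toUnit X) (toUnit X),
      prim hD h1 h2]
    have e : ev (toUnit X ≫ x) (toUnit X) c' = 1 := by
      have e1 : ev (toUnit X ≫ x) (toUnit X) c' =
          pull (toUnit X).left (ev x (𝟙 _) c') := by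
        rw [pull_ev, Category.comp_id]
      have e2 : ev x (𝟙 _) c' = 1 := pic_spec_local k _
      rw [e1, e2, map_one]
    rw [e, _root_.mul_one]
  · intro c x hx
    rw [comp_lam hD, ← h3]
    congr 1
    refine ext_ev fun W a g ↦ ?_
    have hg : g = a ≫ toUnit X := toUnit_unique _ _
    have e1 : ev a g c' = pull a.left (ev (𝟙 X) (toUnit X) c') := by
      rw [pull_ev, Category.comp_id, hg]
    rw [ev_XTmap, e1, ← hx, ev_mumCl]
    have e2 : pl (g ≫ x) c = 1 := by
      rw [toUnit_unique g (toUnit W)]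
      exact pl_const (T := W) x c
    rw [e2, inv_one, _root_.mul_one, phi, map_mul, map_inv]
    have e3 : a * (g ≫ x) = a ≫ tr x := by
      rw [MonObj.comp_mul, Category.comp_id, hg, Category.assoc]
    rw [e3, Groth.Agent.Grpsch.Cube.pl_comp]

/-- `φ_c` is surjective for `c` ample. -/
theorem surjective_lam {L : X.left.Modules} (hL : CohB1.IsAmple L) :
    Surjective (lam φ (mk L hL.1)).left := by
  have g := K732.AV.geomInt X
  have hq : QuasiCompact (lam φ (mk L hL.1)).left := by
    have h1 : QuasiCompact ((lam φ (mk L hL.1)).left ≫ Xt.hom) := by rw [Over.w]; infer_instance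
    exact QuasiCompact.of_comp _ Xt.hom
  refine K530.GenSub.surjective_of_pts _ fun y ↦ ?_
  obtain ⟨m, hm, h⟩ := exists_inv hD y
  obtain ⟨x, hx⟩ := K512.PhiSurj.exists_eq_of_isAmple L hL m (fun x ↦ mem_Inv_iff.1 hm x)
  exact ⟨x, h _ x hx⟩

/-- `φ_c` is an isogeny for `c` ample. -/
theorem isIsogenyOver_lam {L : X.left.Modules} (hL : CohB1.IsAmple L) :
    SGA7.IsIsogenyOver (lam φ (mk L hL.1)) := by
  have g := K732.AV.geomInt X
  refine ⟨surjective_lam hD hL, fun N i hN ↦ ?_⟩
  have h1 : IsPullback i.left (toUnit N).left (lam φ (mk L hL.1)).left η[Xt].left :=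
    IsPullback.map (Over.forget _) hN
  have h2 : IsClosedImmersion (η[Xt] : 𝟙_ (Over (Spec (CommRingCat.of k))) ⟶ Xt).left := by
    have h3 : IsClosedImmersion ((η[Xt] : 𝟙_ (Over (Spec (CommRingCat.of k))) ⟶ Xt).left ≫
        Xt.hom) := by
      rw [Over.w]
      exact inferInstanceAs (IsClosedImmersion (𝟙 (Spec (CommRingCat.of k))))
    exact IsClosedImmersion.of_comp _ Xt.hom
  have h3 : IsClosedImmersion i.left :=
    MorphismProperty.of_isPullback (P := @IsClosedImmersion) h1.flip h2
  have h4 : IsProper N.hom := by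
    rw [← Over.w i]
    infer_instance
  refine isFinite_of_pts N ?_
  have h5 := K512.PhiSurj.finite_of_isAmple (A := X) L hL
  refine Set.Finite.of_injOn (f := fun x ↦ x ≫ i) (t := {x | pl (K512.Phi.tr x) (mk L hL.1) =
    mk L hL.1}) (fun x _ ↦ ?_) (fun x _ y _ hxy ↦ ?_) h5
  · have h6 := phi_eq_one_of_comp hD (mk L hL.1) (x := x ≫ i) (by
      have := ((Groth.Agent.Sga7.H760.KerBc.isKernel_iff i _).1 hN).1
      rw [Category.assoc, this, MonObj.comp_one])
    exact mul_inv_eq_one.1 h6
  · exact hN.hom_ext hxy (toUnit_unique _ _)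

end closed

end K732.Lam
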