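import Groth.Agent.AgPol.K814.MumHom
import Groth.Agent.AbDual.K732.Isog
import Groth.Agent.Flat2H.FamOpen

/-!
# `f^t ∘ φ_c ∘ f = φ_{f^* c}`

`hom_pull` over any base.
-/

set_option autoImplicit false
set_option linter.unusedSectionVars false
universe u

open CategoryTheory CategoryTheory.Limits MonoidalCategory CartesianMonoidalCategory MonObj GrpObj
  AlgebraicGeometry

namespace K732.PullLam

open Groth.Agent.Grpsch.PicGrp Groth.Agent.Fga.RigGrp K732.PicZero K732.Prim K732.Dual K732.CubeSec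
open K528.MumZero (mumCl)
open K732.Transp K814.MumHom

variable {S : Scheme.{u}} {X Xt Y Yt : Over S} [GrpObj X] [GrpObj Xt] [GrpObj Y] [GrpObj Yt]
  [IsProper Y.hom] [Flat Y.hom] [LocallyOfFinitePresentation Y.hom] [GeometricallyIntegral Y.hom]

omit [GrpObj Xt] [GrpObj Yt] [IsProper Y.hom] [Flat Y.hom] [LocallyOfFinitePresentation Y.hom]
  [GeometricallyIntegral Y.hom] in
theorem pull_mumCl (f : X ⟶ Y) [IsMonHom f] (c : Pic Y.left) :
    pull (AbDual.bcMap f X) (pull (PicF.XTmap Y.hom f) (mumCl Y c)) = mumCl X (pull f.left c) := by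
  refine ext_ev fun W a b ↦ ?_
  rw [ev_bcMap, ev_XTmap, ev_mum, ev_mum, ← MonObj.mul_comp, Over.comp_left, Over.comp_left,
    Over.comp_left, pull_comp, pull_comp, pull_comp]

variable {φX : ∀ T : Over S, PicF.Cl (PicF.XT X.hom T) → (T ⟶ Xt)}
  {φY : ∀ T : Over S, PicF.Cl (PicF.XT Y.hom T) → (T ⟶ Yt)}
  (hY : AbDual.IsDualAV Scheme.fppfPrecoverage Y Yt φY)

include hY in
theorem hom_pull (f : X ⟶ Y) [IsMonHom f] {ft : Yt ⟶ Xt} (hft : AbDual.IsTranspose f φX φY ft)
    (c : Pic Y.left) : f ≫ hom φY c ≫ ft = hom φX (pull f.left c) := by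
  rw [← Category.assoc, comp_hom hY, hom, ← pull_mumCl]
  exact (hft.cm (pull_XTmap_mem f (mum_pz c))).symm

include hY in
/-- The pull back `f^t ∘ λ ∘ f` of a polarisation along an affine homomorphism is a polarisation. -/
theorem isPolarization_pull (hX : AbDual.IsDualAV Scheme.fppfPrecoverage X Xt φX) (f : X ⟶ Y)
    [IsMonHom f] [IsAffineHom f.left] {ft : Yt ⟶ Xt}
    (hft : AbDual.IsTranspose f φX φY ft) {lam : Y ⟶ Yt} (hlam : AgPol.IsPolarization Y Yt φY lam) :
    AgPol.IsPolarization X Xt φX (f ≫ lam ≫ ft) := by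
  have m1 := hlam.1
  have m2 : IsMonHom ft := isMonHom_of_isTranspose hX hY (bijective_XTproj Y.hom) hft
  refine ⟨inferInstance, fun Ω _ _ t ↦ ?_⟩
  obtain ⟨M, hM, hl⟩ := hlam.2 Ω t
  have p1 : IsProper (Red.bc t Y).hom := inferInstanceAs (IsProper (pullback.snd Y.hom t))
  have p2 : Flat (Red.bc t Y).hom := inferInstanceAs (Flat (pullback.snd Y.hom t))
  have p3 : LocallyOfFinitePresentation (Red.bc t Y).hom :=
    inferInstanceAs (LocallyOfFinitePresentation (pullback.snd Y.hom t))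
  have p4 : GeometricallyIntegral (Red.bc t Y).hom :=
    inferInstanceAs (GeometricallyIntegral (pullback.snd Y.hom t))
  have a1 : IsAffineHom ((Over.pullback t).map f).left :=
    MorphismProperty.of_isPullback (K732.Isog.isPullback_map t f) inferInstance
  have hM' := Groth.Agent.Flat2H.FamOpen.isAmple_pullback_of_isAffineHom ((Over.pullback t).map f).left hM
  refine ⟨_, hM', ?_⟩
  rw [isLambda_iff _ hM'.1, Functor.map_comp, Functor.map_comp]
  rw [isLambda_iff _ hM.1] at hl
  rw [hl, hom_pull (Xt := Red.bc t Xt) (Yt := Red.bc t Yt) (K732.BC.isDualAV_bc hY)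
    ((Over.pullback t).map f) (K732.BC.isTranspose_bc hft)]
  rfl

end K732.PullLam
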