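import Groth.Agent.AbDual.K732.DualField
import Groth.Agent.AbDual.K732.DegT
import Groth.Agent.AbDual.K732.Lam
import Groth.Agent.AbDual.K732.PullLam
import Groth.Agent.AgPol.K814.MumHom
import Groth.Agent.AbVar.K529.KerPhi
import Groth.Agent.Etdl.H427.RankComp
import Groth.Agent.S3037

/-!
# The rank of `K(f^* M)` for an isogeny `f` (any field)

* `isFinite_of_ker` : a homomorphism with finite kernel is finite;
* `finrank_lam` : if `K(M)` is finite then `φ_M` is finite flat surjective and its rank is the rank of `K(M)`;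
* `main` : `K(f^* M)` is finite of rank `d² · rank K(M)`, `d` the degree of the isogeny `f`.
-/

set_option autoImplicit false
set_option linter.unusedSectionVars false
universe u

open CategoryTheory CategoryTheory.Limits MonoidalCategory CartesianMonoidalCategory MonObj GrpObj
  AlgebraicGeometry

namespace K732.KLPull

open Groth.Agent.Grpsch.PicGrp Groth.Agent.Fga.RigGrp K732.Cov K732.PicZero K732.RigSheaf K732.Dual

variable {k : Type u} [Field k]

/-- A homomorphism with finite kernel is finite. -/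
theorem isFinite_of_ker {G H N : Over (Spec (CommRingCat.of k))} [GrpObj G] [GrpObj H]
    [LocallyOfFiniteType G.hom] [LocallyOfFiniteType H.hom] (u : G ⟶ H) [IsMonHom u]
    [QuasiCompact u.left] {i : N ⟶ G} (hN : AlgGrp.IsKernel i u) [IsFinite N.hom] :
    IsFinite u.left := by
  rw [Groth.Agent.S3037.result k G H u]
  have h3 : IsPullback i.left (toUnit N).left u.left
      (η[H] : 𝟙_ (Over (Spec (CommRingCat.of k))) ⟶ H).left := IsPullback.map (Over.forget _) hN
  have hsub : Subsingleton ↥(Spec (CommRingCat.of k)) :=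
    inferInstanceAs (Subsingleton (PrimeSpectrum k))
  have s : ↥(Spec (CommRingCat.of k)) := IsLocalRing.closedPoint k
  have h1 : N.hom ⁻¹' {s} = Set.univ := by
    ext x
    simpa using Subsingleton.elim _ _
  have h2 : DiscreteTopology N.left :=
    (((N.hom.fiberHomeo s).trans (Homeomorph.setCongr h1)).trans
      (Homeomorph.Set.univ _)).discreteTopology
  exact (h3.isoPullback.schemeIsoToHomeo).discreteTopology

section

variable {Y Yt : Over (Spec (CommRingCat.of k))} [GrpObj Y] [GrpObj Yt]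
  [IsProper Y.hom] [Smooth Y.hom] [GeometricallyConnected Y.hom]
  {φY : ∀ T : Over (Spec (CommRingCat.of k)), PicF.Cl (PicF.XT Y.hom T) → (T ⟶ Yt)}
  (hY : AbDual.IsDualAV Scheme.fppfPrecoverage Y Yt φY)

include hY in
/-- If `K(M)` is finite then `φ_M` is finite flat surjective of rank `rank K(M)`. -/
theorem finrank_lam {M : Y.left.Modules} (hM : PicF.IsInvertible M)
    {KM : Over (Spec (CommRingCat.of k))} {iM : KM ⟶ Y} (hKM : ThetaGrp.IsKL Y M iM)
    [IsFinite KM.hom] : IsFinite (Lam.lam φY (mk M hM)).left ∧ Flat (Lam.lam φY (mk M hM)).left ∧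
      Surjective (Lam.lam φY (mk M hM)).left ∧ ∀ (y : Yt.left) (s : ↥(Spec (CommRingCat.of k))),
        (Lam.lam φY (mk M hM)).left.finrank y = KM.hom.finrank s := by
  obtain ⟨-, t1, t2, t3, t4⟩ := K732.DualField.isAV hY
  have gY := K732.AV.geomInt Y
  have gT := K732.AV.geomInt Yt
  have hm := Lam.isMonHom_lam hY (mk M hM)
  have hk : AlgGrp.IsKernel iM (Lam.lam φY (mk M hM)) :=
    K529.KerPhi.isKernel hY hM ((K814.MumHom.isLambda_iff φY hM _).2 rfl) hKM
  have hp := K516.HomFin.isProper_left (Lam.lam φY (mk M hM))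
  have hf : IsFinite (Lam.lam φY (mk M hM)).left := isFinite_of_ker _ hk
  obtain ⟨g, hg⟩ := K516.HomFin.exists_dim Y
  have hg' : topologicalKrullDim Yt.left = g := t4.trans hg
  have hs := K516.HomFin.surjective_of_isFinite g hg hg' (Lam.lam φY (mk M hM))
  have hfl := K516.HomFin.flat_of_isFinite g hg hg' (Lam.lam φY (mk M hM))
  refine ⟨hf, hfl, hs, fun y s ↦ ?_⟩
  obtain ⟨-, -, n3⟩ := K732.DegT.finrank_kernel hk s
  have hYn : IsLocallyNoetherian Yt.left := LocallyOfFiniteType.isLocallyNoetherian Yt.hom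
  have l1 : LocallyOfFinitePresentation (Lam.lam φY (mk M hM)).left :=
    LocallyOfFinitePresentation.iff_locallyOfFiniteType.2 inferInstance
  have c1 : IsIntegral Yt.left := K524.PicZeroVan.isIntegral_left (A := Yt)
  rw [n3]
  exact K732.DegT.finrank_const _ _ _

end

/-- **The rank of `K(f^* M)`.** -/
theorem main (X Y : Over (Spec (CommRingCat.of k)))
    [GrpObj X] [IsProper X.hom] [GeometricallyIntegral X.hom]
    [GrpObj Y] [IsProper Y.hom] [GeometricallyIntegral Y.hom]
    (f : X ⟶ Y) [IsMonHom f] [IsFinite f.left] [Flat f.left] (hf : Surjective f.left)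
    (d : ℕ) (hd : ∀ y : ↥Y.left, Scheme.Hom.finrank f.left y = d)
    (M : Y.left.Modules) (hM : PicF.IsInvertible M)
    (KM : Over (Spec (CommRingCat.of k))) (iM : KM ⟶ Y) (hKM : ThetaGrp.IsKL Y M iM)
    [IsFinite KM.hom] (r : ℕ) (hr : ∀ s : ↥(Spec (CommRingCat.of k)), Scheme.Hom.finrank KM.hom s = r)
    (KL : Over (Spec (CommRingCat.of k))) (iL : KL ⟶ X)
    (hKL : ThetaGrp.IsKL X ((Scheme.Modules.pullback f.left).obj M) iL) :
    IsFinite KL.hom ∧ ∀ s : ↥(Spec (CommRingCat.of k)), Scheme.Hom.finrank KL.hom s = d ^ 2 * r := by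
  have i1 := K449.Basic.smooth X
  have i2 := K449.Basic.smooth Y
  have i3 := K732.Isog.geomConn_of_geomInt X.hom
  have i4 := K732.Isog.geomConn_of_geomInt Y.hom
  obtain ⟨Xt, _, φX, _, hX, x1, x2, x3, x4⟩ := K732.DualField.exists_dual X
  obtain ⟨Yt, _, φY, _, hY, y1, y2, y3, y4⟩ := K732.DualField.exists_dual Y
  have g1 := K732.AV.geomInt Xt
  have g2 := K732.AV.geomInt Yt
  obtain ⟨ft, hft⟩ := K732.Transp.exists_isTranspose hX hY (K732.AV.hF Y) f
  obtain ⟨t1, t2, t3, t4⟩ := K732.DegT.finrank_transp hX hY f ft hft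
  obtain ⟨l1, l2, l3, l4⟩ := finrank_lam hY hM hKM
  have hL := Groth.Agent.Fdesc.LocGen.isInvertible_pullback f.left hM
  have hcomp : f ≫ Lam.lam φY (mk M hM) ≫ ft = Lam.lam φX (mk _ hL) := by
    have h1 := K732.PullLam.hom_pull hY f hft (mk M hM)
    rw [pull_mk] at h1
    exact h1
  have hmX := Lam.isMonHom_lam hX (mk _ hL)
  have hk : AlgGrp.IsKernel iL (Lam.lam φX (mk _ hL)) :=
    K529.KerPhi.isKernel hX hL ((K814.MumHom.isLambda_iff φX hL _).2 rfl) hKL
  have hleft : (Lam.lam φX (mk _ hL)).left = f.left ≫ (Lam.lam φY (mk M hM)).left ≫ ft.left := by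
    rw [← hcomp, Over.comp_left, Over.comp_left]
  have c1 : IsFinite (Lam.lam φX (mk _ hL)).left := by
    rw [hleft]
    infer_instance
  have c2 : Flat (Lam.lam φX (mk _ hL)).left := by
    rw [hleft]
    infer_instance
  have n : ∀ s : ↥(Spec (CommRingCat.of k)), _ := fun s ↦ K732.DegT.finrank_kernel hk s
  refine ⟨(n (IsLocalRing.closedPoint k)).1, fun s ↦ ?_⟩
  obtain ⟨-, -, n3⟩ := n s
  rw [n3]
  rw [hleft, Groth.Agent.Etdl.H427.RankComp.finrank_comp f.left _ d hd,
    Groth.Agent.Etdl.H427.RankComp.finrank_comp _ ft.left r (fun y ↦ (l4 y s).trans (hr s)),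
    t4 _ ((η[Y] : 𝟙_ (Over (Spec (CommRingCat.of k))) ⟶ Y).left s), hd]
  ring

end K732.KLPull
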