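import Groth.Agent.AbDual.K732.CocX
import Groth.Agent.AbDual.K732.Prim
import Groth.Agent.Sga7.H760.KerBc

/-!
# The classes on `Y_T` killed by an isogeny `f : X ⟶ Y` and the characters of its kernel

`f : X ⟶ Y` a homomorphism with kernel `i : N ⟶ X`, `Γ(T, O) = Γ(X_T, O)` for all `T`, `f` an fppf covering.

* `uv w g` : the value of a unit at a point; `IsChar χ` : `χ(n m, t) = χ(n, t) χ(m, t)` for a unit `χ` on `N ⊗ T`;
* `KC f i T c χ` : the class `c` on `Y_T` with trivial pull back to `X_T` corresponds to the character `χ`;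
* `exists_of_cls`, `exists_of_char`, `KC.unique_char`, `KC.unique_cls`, `KC.mul`, `KC.pull`.
-/

set_option autoImplicit false
universe u

open CategoryTheory CategoryTheory.Limits MonoidalCategory CartesianMonoidalCategory MonObj GrpObj
  AlgebraicGeometry

namespace K732.KerChar

open Groth.Agent.Grpsch.PicGrp Groth.Agent.Fga.RigGrp K732.Cov K732.PicZero K732.RigSheaf K732.Dual
open K732.CubeSec K732.Transp K732.Prim K732.Coc K732.CocX

variable {S : Scheme.{u}}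

section uv

variable {P Z Z' : Over S}

/-- The value of a unit at a point. -/
noncomputable def uv (w : Γ(P.left, ⊤)ˣ) (g : Z ⟶ P) : Γ(Z.left, ⊤)ˣ :=
  Units.map g.left.appTop.hom.toMonoidHom w

theorem uv_mul (w w' : Γ(P.left, ⊤)ˣ) (g : Z ⟶ P) : uv (w * w') g = uv w g * uv w' g := map_mul _ _ _

theorem uv_comp (w : Γ(P.left, ⊤)ˣ) (h : Z' ⟶ Z) (g : Z ⟶ P) : uv w (h ≫ g) = uv (uv w g) h := by
  ext
  simp only [uv, Over.comp_left, Scheme.Hom.comp_appTop]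
  rfl

theorem uv_id (w : Γ(P.left, ⊤)ˣ) : uv w (𝟙 P) = w := by
  ext
  simp only [uv, Over.id_left, Scheme.Hom.id_appTop]
  rfl

theorem uv_inj (g : Z ⟶ P) (hg : Function.Injective g.left.appTop) {w w' : Γ(P.left, ⊤)ˣ}
    (h : uv w g = uv w' g) : w = w' :=
  Units.ext (hg (congrArg Units.val h))

theorem exists_uv (g : Z ⟶ P) (hg : Function.Bijective g.left.appTop) (w : Γ(Z.left, ⊤)ˣ) :
    ∃ w' : Γ(P.left, ⊤)ˣ, uv w' g = w := by
  obtain ⟨a, ha⟩ := hg.2 w.1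
  obtain ⟨b, hb⟩ := hg.2 w⁻¹.1
  have h1 : a * b = 1 := hg.1 (by
    rw [map_mul, ha, hb, map_one]
    exact w.mul_inv)
  exact ⟨Units.mkOfMulEqOne a b h1, Units.ext ha⟩

end uv

section

variable {X Y N : Over S} [GrpObj X] [GrpObj Y] [GrpObj N] (f : X ⟶ Y) [IsMonHom f]
  (i : N ⟶ X) [IsMonHom i] (T : Over S)

omit [GrpObj X] [GrpObj Y] [IsMonHom f] in
theorem w_of_eq {Z : Over S} {a b : Z ⟶ X} (t : Z ⟶ T) (h : a ≫ f = b ≫ f) :
    (lift a t).left ≫ AbDual.bcMap f T = (lift b t).left ≫ AbDual.bcMap f T := by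
  rw [lift_bcMap, lift_bcMap, h]

omit [GrpObj X] [GrpObj Y] [IsMonHom f] in
theorem eq_of_w {Z : Over S} {a b : Z ⟶ X} {t t' : Z ⟶ T}
    (h : (lift a t).left ≫ AbDual.bcMap f T = (lift b t').left ≫ AbDual.bcMap f T) :
    a ≫ f = b ≫ f ∧ t = t' := by
  rw [lift_bcMap, lift_bcMap] at h
  have hab : lift (a ≫ f) t = lift (b ≫ f) t' := Over.OverMorphism.ext h
  constructor
  · have := congrArg (· ≫ fst _ _) hab
    simpa using this
  · have := congrArg (· ≫ snd _ _) hab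
    simpa using this

variable {T} in
/-- The value of a unit on the overlap at a pair of points. -/
noncomputable def vp (v : Γ(pullback (AbDual.bcMap f T) (AbDual.bcMap f T), ⊤)ˣ) {Z : Over S}
    (a b : Z ⟶ X) (t : Z ⟶ T) (h : a ≫ f = b ≫ f) : Γ(Z.left, ⊤)ˣ :=
  vat v (lift a t).left (lift b t).left (w_of_eq f T t h)

variable {T} in
omit [GrpObj X] [GrpObj Y] [IsMonHom f] in
theorem uv_vp (v : Γ(pullback (AbDual.bcMap f T) (AbDual.bcMap f T), ⊤)ˣ) {Z Z' : Over S}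
    (a b : Z ⟶ X) (t : Z ⟶ T) (h : a ≫ f = b ≫ f) (g : Z' ⟶ Z) {a' b' : Z' ⟶ X} {t' : Z' ⟶ T}
    (ha : g ≫ a = a') (hb : g ≫ b = b') (ht : g ≫ t = t') (h' : a' ≫ f = b' ≫ f) :
    uv (P := Z) (vp f v a b t h) g = vp f v a' b' t' h' := by
  subst ha hb ht
  refine vat_pull v g.left _ _ _ ?_ ?_ _
  · rw [← Over.comp_left, comp_lift]
  · rw [← Over.comp_left, comp_lift]

/-- The unit `v` on the overlap is given by the function `χ` on `N ⊗ T`. -/
def Assoc {T : Over S} (v : Γ(pullback (AbDual.bcMap f T) (AbDual.bcMap f T), ⊤)ˣ)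
    (χ : Γ((N ⊗ T).left, ⊤)ˣ) : Prop :=
  ∀ (Z : Over S) (a b : Z ⟶ X) (t : Z ⟶ T) (h : a ≫ f = b ≫ f) (n : Z ⟶ N),
    n ≫ i = a⁻¹ * b → vp f v a b t h = uv χ (lift n t)

variable (N) in
/-- Characters of `N` over `T`. -/
def IsChar {T : Over S} (χ : Γ((N ⊗ T).left, ⊤)ˣ) : Prop :=
  ∀ (Z : Over S) (n m : Z ⟶ N) (t : Z ⟶ T),
    uv χ (lift (n * m) t) = uv χ (lift n t) * uv χ (lift m t)

variable {f i T}

theorem IsChar.one {χ : Γ((N ⊗ T).left, ⊤)ˣ} (h : IsChar N χ) {Z : Over S} (t : Z ⟶ T) :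
    uv χ (lift 1 t) = 1 := by
  have h1 := h Z 1 1 t
  rw [_root_.mul_one] at h1
  exact mul_eq_left.1 h1.symm

theorem IsChar.mul {χ χ' : Γ((N ⊗ T).left, ⊤)ˣ} (h : IsChar N χ) (h' : IsChar N χ') :
    IsChar N (χ * χ') := by
  intro Z n m t
  rw [uv_mul, uv_mul, uv_mul, h, h', _root_.mul_mul_mul_comm]

variable (hi : AlgGrp.IsKernel i f)

include hi

omit [GrpObj X] [GrpObj N] [IsMonHom f] [IsMonHom i] in
theorem comp_eq_one (n : T ⟶ N) : (n ≫ i) ≫ f = 1 := by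
  rw [Category.assoc, ((Groth.Agent.Sga7.H760.KerBc.isKernel_iff i f).1 hi).1, MonObj.comp_one]

theorem eq_of_comp_i {n m : T ⟶ N} (h : n ≫ i = m ≫ i) : n = m := by
  obtain ⟨y, -, hy⟩ := ((Groth.Agent.Sga7.H760.KerBc.isKernel_iff i f).1 hi).2 T (n ≫ i)
    (comp_eq_one hi n)
  rw [hy n rfl, hy m h.symm]

omit [GrpObj N] [IsMonHom i] in
theorem exists_comp_i {a b : T ⟶ X} (h : a ≫ f = b ≫ f) : ∃ n : T ⟶ N, n ≫ i = a⁻¹ * b := by
  obtain ⟨y, hy, -⟩ := ((Groth.Agent.Sga7.H760.KerBc.isKernel_iff i f).1 hi).2 T (a⁻¹ * b) (by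
    rw [MonObj.mul_comp, GrpObj.inv_comp, h, inv_mul_cancel])
  exact ⟨y, hy⟩

variable (hF : ∀ T : Over S, Function.Bijective (PicF.XTproj X.hom T).appTop)

include hF

/-- A cocycle comes from a character. -/
theorem exists_char {v : Γ(pullback (AbDual.bcMap f T) (AbDual.bcMap f T), ⊤)ˣ}
    (hv : v ∈ coc (AbDual.bcMap f T)) : ∃ χ : Γ((N ⊗ T).left, ⊤)ˣ, Assoc f i v χ ∧ IsChar N χ := by
  let Z₀ : Over S := X ⊗ (N ⊗ T)
  let x : Z₀ ⟶ X := fst _ _
  let n₀ : Z₀ ⟶ N := snd _ _ ≫ fst _ _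
  let t₀ : Z₀ ⟶ T := snd _ _ ≫ snd _ _
  have h0 : x ≫ f = (x * (n₀ ≫ i)) ≫ f := by
    rw [MonObj.mul_comp, comp_eq_one hi, _root_.mul_one]
  have hbij : Function.Bijective (snd X (N ⊗ T)).left.appTop := hF (N ⊗ T)
  obtain ⟨χ, hχ⟩ := exists_uv (snd X (N ⊗ T)) hbij (vp f v x (x * (n₀ ≫ i)) t₀ h0)
  have key : Assoc f i v χ := by
    intro Z a b t h n hn
    let l : Z ⟶ Z₀ := lift a (lift n t)
    have e1 : l ≫ x = a := lift_fst _ _
    have e2 : l ≫ n₀ = n := by simp [l, n₀]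
    have e3 : l ≫ t₀ = t := by simp [l, t₀]
    have e4 : l ≫ (x * (n₀ ≫ i)) = b := by
      rw [MonObj.comp_mul, e1, ← Category.assoc, e2, hn, mul_inv_cancel_left]
    rw [← uv_vp f v x (x * (n₀ ≫ i)) t₀ h0 l e1 e4 e3 h, ← hχ, ← uv_comp]
    congr 1
    exact lift_snd _ _
  refine ⟨χ, key, fun Z n m t ↦ ?_⟩
  have hab : (1 : Z ⟶ X) ≫ f = (n ≫ i) ≫ f := by
    rw [comp_eq_one hi, MonObj.one_comp]
  have hbc : (n ≫ i) ≫ f = ((n * m) ≫ i) ≫ f := by
    rw [comp_eq_one hi, comp_eq_one hi]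
  rw [← key Z 1 (n ≫ i) t hab n (by rw [inv_one, _root_.one_mul]),
    ← key Z (n ≫ i) ((n * m) ≫ i) t hbc m (by rw [MonObj.mul_comp, inv_mul_cancel_left]),
    ← key Z 1 ((n * m) ≫ i) t (hab.trans hbc) (n * m) (by rw [inv_one, _root_.one_mul])]
  exact (hv _ _ _ _ _ _).symm

omit hF

/-- A character gives a cocycle. -/
theorem exists_coc {χ : Γ((N ⊗ T).left, ⊤)ˣ} (hχ : IsChar N χ) :
    ∃ v ∈ coc (AbDual.bcMap f T), Assoc f i v χ := by
  -- points of `XT X T` in the language of `Over S`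
  have hpt : ∀ {Z : Scheme.{u}} (a : Z ⟶ PicF.XT X.hom T) (s : Z ⟶ S)
      (hs : a ≫ (X ⊗ T).hom = s), ∃ (x : Over.mk s ⟶ X) (t : Over.mk s ⟶ T),
        (lift x t).left = a := by
    intro Z a s hs
    let g : Over.mk s ⟶ X ⊗ T := Over.homMk a hs
    exact ⟨g ≫ fst _ _, g ≫ snd _ _, by
      rw [← comp_lift, lift_fst_snd, Category.comp_id]
      rfl⟩
  let p := AbDual.bcMap f T
  let P : Over S := Over.mk (pullback.fst p p ≫ (X ⊗ T).hom)
  have hYT : ∀ {Z : Scheme.{u}} (a : Z ⟶ PicF.XT X.hom T), a ≫ (X ⊗ T).hom =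
      (a ≫ p) ≫ (Y ⊗ T).hom := by
    intro Z a
    have h1 : (X ⊗ T).hom = PicF.XTproj X.hom T ≫ T.hom := (Over.w (snd X T)).symm
    have h2 : (Y ⊗ T).hom = PicF.XTproj Y.hom T ≫ T.hom := (Over.w (snd Y T)).symm
    rw [h1, h2, Category.assoc, bcMap_XTproj_assoc]
  obtain ⟨a₀, t₀, e1⟩ := hpt (pullback.fst p p) (pullback.fst p p ≫ (X ⊗ T).hom) rfl
  obtain ⟨b₀, t₀', e2⟩ := hpt (pullback.snd p p) (pullback.fst p p ≫ (X ⊗ T).hom) (by
    rw [hYT, hYT, pullback.condition])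
  obtain ⟨hab1, rfl⟩ := eq_of_w f T (a := a₀) (b := b₀) (t := t₀) (t' := t₀') (by
    rw [e1, e2]
    exact pullback.condition)
  obtain ⟨n₀, hn₀⟩ := exists_comp_i hi hab1
  let v : Γ(pullback p p, ⊤)ˣ := uv χ (lift n₀ t₀)
  have key : Assoc f i (T := T) v χ := by
    intro Z a b t h n hn
    let l : Z.left ⟶ pullback p p :=
      pullback.lift (lift a t).left (lift b t).left (w_of_eq f T t h)
    have hl1 : l ≫ pullback.fst p p = (lift a t).left := pullback.lift_fst _ _ _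
    have hl2 : l ≫ pullback.snd p p = (lift b t).left := pullback.lift_snd _ _ _
    let l' : Z ⟶ P := Over.homMk l (by
      change l ≫ pullback.fst p p ≫ (X ⊗ T).hom = Z.hom
      rw [← Category.assoc, hl1]
      exact Over.w (lift a t))
    have k1 : l' ≫ lift a₀ t₀ = lift a t := by
      apply Over.OverMorphism.ext
      rw [Over.comp_left, e1]
      exact hl1
    have k2 : l' ≫ lift b₀ t₀ = lift b t := by
      apply Over.OverMorphism.ext
      rw [Over.comp_left, e2]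
      exact hl2
    have k3 : l' ≫ a₀ = a := by
      have := congrArg (· ≫ fst _ _) k1
      simpa using this
    have k4 : l' ≫ t₀ = t := by
      have := congrArg (· ≫ snd _ _) k1
      simpa using this
    have k5 : l' ≫ b₀ = b := by
      have := congrArg (· ≫ fst _ _) k2
      simpa using this
    have k6 : l' ≫ n₀ = n := eq_of_comp_i hi (by
      rw [Category.assoc, hn₀, MonObj.comp_mul, GrpObj.comp_inv, k3, k5, hn])
    have k7 : vp f v a b t h = uv (P := P) (uv χ (lift n₀ t₀)) l' := rfl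
    rw [k7, ← uv_comp, comp_lift, k6, k4]
  refine ⟨v, ?_, key⟩
  intro Z a b c w w'
  obtain ⟨xa, t, ha⟩ := hpt a (a ≫ (X ⊗ T).hom) rfl
  obtain ⟨xb, tb, hb⟩ := hpt b (a ≫ (X ⊗ T).hom) (by rw [hYT, hYT, w])
  obtain ⟨xc, tc, hc⟩ := hpt c (a ≫ (X ⊗ T).hom) (by rw [hYT, hYT, w, w'])
  generalize a ≫ (X ⊗ T).hom = s at xa t ha xb tb hb xc tc hc
  subst ha hb hc
  obtain ⟨h1, rfl⟩ := eq_of_w f T w
  obtain ⟨h2, rfl⟩ := eq_of_w f T w'
  obtain ⟨n, hn⟩ := exists_comp_i hi h1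
  obtain ⟨m, hm⟩ := exists_comp_i hi h2
  have hnm : (n * m) ≫ i = xa⁻¹ * xc := by
    rw [MonObj.mul_comp, hn, hm]
    group
  have k1 := key _ xa xb t h1 n hn
  have k2 := key _ xb xc t h2 m hm
  have k3 := key _ xa xc t (h1.trans h2) (n * m) hnm
  rw [vp] at k1 k2 k3
  rw [k1, k2, k3]
  exact (hχ _ n m t).symm

end

end K732.KerChar
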