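import Groth.Agent.AbDual.K732.KerChar

/-!
# The correspondence between classes killed by `f` and characters of the kernel

`KC f i c χ` : the class `c` on `Y_T` with trivial pull back to `X_T` corresponds to the character `χ` of the kernel
`i : N ⟶ X` over `T`.

* `exists_of_cls`, `exists_of_char`, `KC.unique_char`, `KC.unique_cls`, `KC.mul`, `KC.pull`.
-/

set_option autoImplicit false
set_option linter.unusedSectionVars false
universe u

open CategoryTheory CategoryTheory.Limits MonoidalCategory CartesianMonoidalCategory MonObj GrpObj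
  AlgebraicGeometry

namespace K732.KerCor

open Groth.Agent.Grpsch.PicGrp Groth.Agent.Fga.RigGrp K732.Cov K732.PicZero K732.RigSheaf K732.Dual
open K732.CubeSec K732.Transp K732.Prim K732.Coc K732.CocX K732.KerChar

variable {S : Scheme.{u}} {X Y N : Over S} [GrpObj X] [GrpObj Y] [GrpObj N] (f : X ⟶ Y) [IsMonHom f]
  (i : N ⟶ X) [IsMonHom i] {T : Over S}

/-- The class `c` corresponds to the character `χ`. -/
def KC (c : Pic (PicF.XT Y.hom T)) (χ : Γ((N ⊗ T).left, ⊤)ˣ) : Prop :=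
  ∃ v, Rep (AbDual.bcMap f T) v c ∧ Assoc f i v χ

variable {f i}

section congr

variable {Z Y' Y : Scheme.{u}} {p : Y' ⟶ Y}

theorem vat_congr (v : Γ(pullback p p, ⊤)ˣ) {a b a' b' : Z ⟶ Y'} (ha : a = a') (hb : b = b')
    (w : a ≫ p = b ≫ p) (w' : a' ≫ p = b' ≫ p) : vat v a b w = vat v a' b' w' := by
  subst ha hb
  rfl

end congr

/-! ### Uniqueness -/

section unique

variable (hi : AlgGrp.IsKernel i f)

include hi

theorem char_unique {v : Γ(pullback (AbDual.bcMap f T) (AbDual.bcMap f T), ⊤)ˣ}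
    {χ χ' : Γ((N ⊗ T).left, ⊤)ˣ} (h : Assoc f i v χ) (h' : Assoc f i v χ') : χ = χ' := by
  have h0 : (1 : N ⊗ T ⟶ X) ≫ f = (fst N T ≫ i) ≫ f := by
    rw [comp_eq_one hi, MonObj.one_comp]
  have h1 : fst N T ≫ i = (1 : N ⊗ T ⟶ X)⁻¹ * (fst N T ≫ i) := by
    rw [inv_one, _root_.one_mul]
  have e1 := h (N ⊗ T) 1 (fst N T ≫ i) (snd N T) h0 (fst N T) h1
  have e2 := h' (N ⊗ T) 1 (fst N T ≫ i) (snd N T) h0 (fst N T) h1
  rw [lift_fst_snd, uv_id] at e1 e2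
  rw [← e1, ← e2]

omit [IsMonHom i] [GrpObj N] in
/-- The universal pair of points. -/
theorem exists_univ : ∃ (s : pullback (AbDual.bcMap f T) (AbDual.bcMap f T) ⟶ S)
    (a b : Over.mk s ⟶ X) (t : Over.mk s ⟶ T) (n : Over.mk s ⟶ N),
    (lift a t).left = pullback.fst (AbDual.bcMap f T) (AbDual.bcMap f T) ∧
    (lift b t).left = pullback.snd (AbDual.bcMap f T) (AbDual.bcMap f T) ∧
    a ≫ f = b ≫ f ∧ n ≫ i = a⁻¹ * b := by
  have hpt : ∀ {Z : Scheme.{u}} (a : Z ⟶ PicF.XT X.hom T) (s : Z ⟶ S)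
      (hs : a ≫ (X ⊗ T).hom = s), ∃ (x : Over.mk s ⟶ X) (t : Over.mk s ⟶ T),
        (lift x t).left = a := by
    intro Z a s hs
    let g : Over.mk s ⟶ X ⊗ T := Over.homMk a hs
    exact ⟨g ≫ fst _ _, g ≫ snd _ _, by
      rw [← comp_lift, lift_fst_snd, Category.comp_id]
      rfl⟩
  have hYT : ∀ {Z : Scheme.{u}} (a : Z ⟶ PicF.XT X.hom T), a ≫ (X ⊗ T).hom =
      (a ≫ AbDual.bcMap f T) ≫ (Y ⊗ T).hom := by
    intro Z a
    have h1 : (X ⊗ T).hom = PicF.XTproj X.hom T ≫ T.hom := (Over.w (snd X T)).symm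
    have h2 : (Y ⊗ T).hom = PicF.XTproj Y.hom T ≫ T.hom := (Over.w (snd Y T)).symm
    rw [h1, h2, Category.assoc, bcMap_XTproj_assoc]
  obtain ⟨a₀, t₀, e1⟩ := hpt (pullback.fst (AbDual.bcMap f T) (AbDual.bcMap f T))
    (pullback.fst _ _ ≫ (X ⊗ T).hom) rfl
  obtain ⟨b₀, t₀', e2⟩ := hpt (pullback.snd (AbDual.bcMap f T) (AbDual.bcMap f T))
    (pullback.fst (AbDual.bcMap f T) (AbDual.bcMap f T) ≫ (X ⊗ T).hom) (by
    rw [hYT, hYT, pullback.condition])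
  obtain ⟨hab1, rfl⟩ := eq_of_w f T (a := a₀) (b := b₀) (t := t₀) (t' := t₀') (by
    rw [e1, e2]
    exact pullback.condition)
  obtain ⟨n₀, hn₀⟩ := exists_comp_i hi hab1
  exact ⟨_, a₀, b₀, t₀, n₀, e1, e2, hab1, hn₀⟩

theorem unit_unique {v v' : Γ(pullback (AbDual.bcMap f T) (AbDual.bcMap f T), ⊤)ˣ}
    {χ : Γ((N ⊗ T).left, ⊤)ˣ} (h : Assoc f i v χ) (h' : Assoc f i v' χ) : v = v' := by
  obtain ⟨s, a, b, t, n, e1, e2, e3, e4⟩ := exists_univ (T := T) hi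
  have k1 := h _ a b t e3 n e4
  have k2 := h' _ a b t e3 n e4
  rw [← k2, vp, vp, vat_congr v e1 e2 _ pullback.condition,
    vat_congr v' e1 e2 _ pullback.condition, vat_fst_snd, vat_fst_snd] at k1
  exact k1

end unique

theorem assoc_mul {v v' : Γ(pullback (AbDual.bcMap f T) (AbDual.bcMap f T), ⊤)ˣ}
    {χ χ' : Γ((N ⊗ T).left, ⊤)ˣ} (h : Assoc f i v χ) (h' : Assoc f i v' χ') :
    Assoc f i (v * v') (χ * χ') := by
  intro Z a b t e n hn
  rw [uv_mul, ← h Z a b t e n hn, ← h' Z a b t e n hn]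
  exact vat_mul _ _ _ _ _

theorem assoc_one : Assoc f i (T := T) 1 (1 : Γ((N ⊗ T).left, ⊤)ˣ) := by
  intro Z a b t e n hn
  rw [vp, vat_one]
  exact (map_one _).symm

/-! ### The correspondence -/

theorem KC.mul {c c' : Pic (PicF.XT Y.hom T)} {χ χ' : Γ((N ⊗ T).left, ⊤)ˣ} (h : KC f i c χ)
    (h' : KC f i c' χ') : KC f i (c * c') (χ * χ') := by
  obtain ⟨v, h1, h2⟩ := h
  obtain ⟨v', h1', h2'⟩ := h'
  exact ⟨v * v', h1.mul h1', assoc_mul h2 h2'⟩

theorem kc_one : KC f i (1 : Pic (PicF.XT Y.hom T)) (1 : Γ((N ⊗ T).left, ⊤)ˣ) :=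
  ⟨1, rep_one, assoc_one⟩

theorem KC.pull_eq_one {c : Pic (PicF.XT Y.hom T)} {χ : Γ((N ⊗ T).left, ⊤)ˣ} (h : KC f i c χ) :
    pull (AbDual.bcMap f T) c = 1 := by
  obtain ⟨v, h1, -⟩ := h
  exact pull_eq_one_of_rep h1

theorem KC.pull {T' : Over S} (g : T' ⟶ T) {c : Pic (PicF.XT Y.hom T)} {χ : Γ((N ⊗ T).left, ⊤)ˣ}
    (h : KC f i c χ) : KC f i (Groth.Agent.Grpsch.PicGrp.pull (PicF.XTmap Y.hom g) c)
      (uv χ (N ◁ g)) := by
  obtain ⟨v, h1, h2⟩ := h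
  have w' : (pullback.fst (AbDual.bcMap f T') (AbDual.bcMap f T') ≫ PicF.XTmap X.hom g) ≫
      AbDual.bcMap f T = (pullback.snd (AbDual.bcMap f T') (AbDual.bcMap f T') ≫
        PicF.XTmap X.hom g) ≫ AbDual.bcMap f T := by
    rw [Category.assoc, Category.assoc, ← bcMap_XTmap, pullback.condition_assoc]
  refine ⟨_, h1.pull (bcMap_XTmap f g).symm w', ?_⟩
  intro Z a b t e n hn
  have k1 := vat_pull v (pullback.lift (lift a t).left (lift b t).left (w_of_eq f T' t e))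
    (pullback.fst (AbDual.bcMap f T') (AbDual.bcMap f T') ≫ PicF.XTmap X.hom g)
    (pullback.snd (AbDual.bcMap f T') (AbDual.bcMap f T') ≫ PicF.XTmap X.hom g) w'
    (a' := (lift a (t ≫ g)).left) (b' := (lift b (t ≫ g)).left)
    (by rw [pullback.lift_fst_assoc, lift_XTmap]) (by rw [pullback.lift_snd_assoc, lift_XTmap])
    (w_of_eq f T (t ≫ g) e)
  have k2 := h2 Z a b (t ≫ g) e n hn
  rw [vp, vat]
  rw [k1]
  refine k2.trans ?_
  rw [← uv_comp]
  congr 1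
  ext1 <;> simp

variable (hi : AlgGrp.IsKernel i f)
  (hF : ∀ T : Over S, Function.Bijective (PicF.XTproj X.hom T).appTop)

include hi hF

/-- A class killed by `f` comes from a character. -/
theorem exists_of_cls {c : Pic (PicF.XT Y.hom T)} (hc : pull (AbDual.bcMap f T) c = 1) :
    ∃ χ : Γ((N ⊗ T).left, ⊤)ˣ, IsChar N χ ∧ KC f i c χ := by
  obtain ⟨v, hv, h1⟩ := exists_of_pull_eq_one hc
  obtain ⟨χ, h2, h3⟩ := exists_char hi hF hv
  exact ⟨χ, h3, v, h1, h2⟩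

/-- The character is unique. -/
theorem KC.unique_char {c : Pic (PicF.XT Y.hom T)} {χ χ' : Γ((N ⊗ T).left, ⊤)ˣ} (h : KC f i c χ)
    (h' : KC f i c χ') : χ = χ' := by
  obtain ⟨v, h1, h2⟩ := h
  obtain ⟨v', h1', h2'⟩ := h'
  obtain ⟨x, hx⟩ := exists_coboundary h1 h1'
  have hb : Function.Bijective (snd X T).left.appTop := hF T
  obtain ⟨x₀, hx₀⟩ := exists_uv (snd X T) hb x
  have h3 : x = Units.map (AbDual.bcMap f T).appTop.hom.toMonoidHom
      (Units.map (PicF.XTproj Y.hom T).appTop.hom.toMonoidHom x₀) := by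
    rw [← hx₀]
    ext
    change (PicF.XTproj X.hom T).appTop.hom x₀.1 = (AbDual.bcMap f T).appTop.hom
      ((PicF.XTproj Y.hom T).appTop.hom x₀.1)
    rw [← bcMap_XTproj f T, Scheme.Hom.comp_appTop]
    rfl
  rw [h3, cob_base, _root_.mul_one] at hx
  subst hx
  exact char_unique hi h2 h2'

omit hF

variable (hp : Presieve.ofArrows (fun _ : PUnit.{u + 1} ↦ PicF.XT X.hom T)
    (fun _ ↦ AbDual.bcMap f T) ∈ Scheme.fpqcPrecoverage (PicF.XT Y.hom T))

include hp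

/-- The class is unique. -/
theorem KC.unique_cls {c c' : Pic (PicF.XT Y.hom T)} {χ : Γ((N ⊗ T).left, ⊤)ˣ} (h : KC f i c χ)
    (h' : KC f i c' χ) : c = c' := by
  obtain ⟨v, h1, h2⟩ := h
  obtain ⟨v', h1', h2'⟩ := h'
  obtain rfl := unit_unique hi h2 h2'
  exact Rep.unique hp h1 h1'

/-- A character comes from a class. -/
theorem exists_of_char {χ : Γ((N ⊗ T).left, ⊤)ˣ} (hχ : IsChar N χ) :
    ∃ c : Pic (PicF.XT Y.hom T), KC f i c χ := by
  obtain ⟨v, hv, h1⟩ := exists_coc hi hχ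
  obtain ⟨c, hc⟩ := exists_rep hp hv
  exact ⟨c, v, hc, h1⟩

end K732.KerCor
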