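import Groth.Agent.AbDual.K732.CharAlg

/-!
# Yoneda for commutative bialgebras

A relation between the points of two commutative bialgebras which is bijective, natural and multiplicative gives an
isomorphism of bialgebras.
-/

set_option autoImplicit false
universe u

open TensorProduct K732.CharAlg

namespace K732.Yon

variable {k : Type u} [Field k] {B D : Type u} [CommRing B] [Bialgebra k B] [CommRing D]
  [Bialgebra k D]

theorem nonempty_bialgEquiv
    (rel : ∀ (R : Type u) [CommRing R] [Algebra k R], (B →ₐ[k] R) → (D →ₐ[k] R) → Prop)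
    (htot : ∀ (R : Type u) [CommRing R] [Algebra k R] (b : B →ₐ[k] R), ∃ β, rel R b β)
    (htot' : ∀ (R : Type u) [CommRing R] [Algebra k R] (β : D →ₐ[k] R), ∃ b, rel R b β)
    (huniq : ∀ (R : Type u) [CommRing R] [Algebra k R] (b : B →ₐ[k] R) (β β' : D →ₐ[k] R),
      rel R b β → rel R b β' → β = β')
    (huniq' : ∀ (R : Type u) [CommRing R] [Algebra k R] (b b' : B →ₐ[k] R) (β : D →ₐ[k] R),
      rel R b β → rel R b' β → b = b')
    (hnat : ∀ (R R' : Type u) [CommRing R] [Algebra k R] [CommRing R'] [Algebra k R']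
      (g : R →ₐ[k] R') (b : B →ₐ[k] R) (β : D →ₐ[k] R), rel R b β →
        rel R' (g.comp b) (g.comp β))
    (hmul : ∀ (R : Type u) [CommRing R] [Algebra k R] (b b' : B →ₐ[k] R) (β β' : D →ₐ[k] R),
      rel R b β → rel R b' β' → rel R (cv b b') (cv β β'))
    (hone : rel k (Bialgebra.counitAlgHom k B) (Bialgebra.counitAlgHom k D)) :
    Nonempty (B ≃ₐc[k] D) := by
  obtain ⟨θ, hθ⟩ := htot B (AlgHom.id k B)
  have key : ∀ (R : Type u) [CommRing R] [Algebra k R] (b : B →ₐ[k] R), rel R b (b.comp θ) := by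
    intro R _ _ b
    have h := hnat B R b _ _ hθ
    rwa [AlgHom.comp_id] at h
  obtain ⟨b, hb⟩ := htot' D (AlgHom.id k D)
  have h1 : b.comp θ = AlgHom.id k D := huniq D b _ _ (key D b) hb
  have h2 : θ.comp b = AlgHom.id k B := by
    refine huniq' B _ _ θ ?_ hθ
    have h3 := key B (θ.comp b)
    rwa [AlgHom.comp_assoc, h1, AlgHom.comp_id] at h3
  have h3 : (Bialgebra.counitAlgHom k B).comp θ = Bialgebra.counitAlgHom k D :=
    huniq k _ _ _ (key k _) hone
  have h4 : (Bialgebra.comulAlgHom k B).comp θ =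
      (Algebra.TensorProduct.map θ θ).comp (Bialgebra.comulAlgHom k D) := by
    have e1 := hmul (B ⊗[k] B) _ _ _ _ (key (B ⊗[k] B) Algebra.TensorProduct.includeLeft)
      (key (B ⊗[k] B) Algebra.TensorProduct.includeRight)
    have e2 : cv (Algebra.TensorProduct.includeLeft : B →ₐ[k] B ⊗[k] B)
        (Algebra.TensorProduct.includeRight : B →ₐ[k] B ⊗[k] B) = Bialgebra.comulAlgHom k B := by
      have : Algebra.TensorProduct.lift (Algebra.TensorProduct.includeLeft : B →ₐ[k] B ⊗[k] B)
        (Algebra.TensorProduct.includeRight : B →ₐ[k] B ⊗[k] B) (fun _ _ ↦ .all _ _) =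
          AlgHom.id k (B ⊗[k] B) := by
        ext <;> simp
      rw [cv, this, AlgHom.id_comp]
    have e3 : Algebra.TensorProduct.lift
        ((Algebra.TensorProduct.includeLeft : B →ₐ[k] B ⊗[k] B).comp θ)
        ((Algebra.TensorProduct.includeRight : B →ₐ[k] B ⊗[k] B).comp θ) (fun _ _ ↦ .all _ _) =
          Algebra.TensorProduct.map θ θ := by
      ext <;> simp
    rw [e2] at e1
    have e4 := huniq _ _ _ _ (key _ (Bialgebra.comulAlgHom k B)) e1
    rw [e4, cv, e3]
  have hbij : Function.Bijective θ := by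
    refine ⟨fun x y hxy ↦ ?_, fun x ↦ ⟨b x, ?_⟩⟩
    · have := congrArg b hxy
      have h5 : ∀ z, b (θ z) = z := fun z ↦ DFunLike.congr_fun h1 z
      rwa [h5, h5] at this
    · exact DFunLike.congr_fun h2 x
  let Θ : D →ₐc[k] B := BialgHom.ofAlgHom θ h3 (by
    rw [← h4])
  exact ⟨(BialgEquiv.ofBijective Θ hbij).symm⟩

end K732.Yon
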