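import Groth.Agent.AbDual.K732.AZ
import Groth.Agent.AbDual.K732.Yon
import Groth.Agent.S19659

/-!
# The kernel of the transpose of an isogeny is the Cartier dual of the kernel
-/

set_option autoImplicit false
set_option linter.unusedSectionVars false
universe u

open CategoryTheory CategoryTheory.Limits MonoidalCategory CartesianMonoidalCategory MonObj GrpObj
  AlgebraicGeometry TensorProduct

namespace K732.KerDual

open Groth.Agent.Grpsch.PicGrp Groth.Agent.Fga.RigGrp K732.Cov K732.PicZero K732.RigSheaf K732.Dual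
open K732.CubeSec K732.Transp K732.Prim K732.Coc K732.CocX K732.KerChar K732.KerCor K732.CharAlg
open CoactBr Groth.Agent.S15830

section general

variable {S : Scheme.{u}} {X Y : Over S} [GrpObj X] [GrpObj Y]

theorem rg_of_pull_eq_one (f : X ⟶ Y) [IsMonHom f] {T : Over S} {c : Pic (PicF.XT Y.hom T)}
    (h : pull (AbDual.bcMap f T) c = 1) : c ∈ rg Y T := by
  have h1 := ev_bcMap f (1 : T ⟶ X) (𝟙 T) c
  rw [h, map_one, MonObj.one_comp] at h1
  rw [mem_rg_iff, ← h1]

theorem rg_pull (f : X ⟶ Y) [IsMonHom f] {T : Over S} {c : Pic (PicF.XT Y.hom T)}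
    (h : c ∈ rg Y T) : pull (AbDual.bcMap f T) c ∈ rg X T := by
  rw [mem_rg_iff, ev_bcMap, MonObj.one_comp]
  exact mem_rg_iff.1 h

theorem isPullback_bcMap (f : X ⟶ Y) (T : Over S) :
    IsPullback (pullback.fst X.hom T.hom) (AbDual.bcMap f T) f.left (pullback.fst Y.hom T.hom) := by
  have h1 : AbDual.bcMap f T ≫ pullback.snd Y.hom T.hom = pullback.snd X.hom T.hom :=
    bcMap_XTproj f T
  refine IsPullback.of_bot (v₂₁ := pullback.snd Y.hom T.hom) (v₂₂ := Y.hom) (h₃₁ := T.hom) ?_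
    (bcMap_fst f T).symm (IsPullback.of_hasPullback Y.hom T.hom)
  rw [h1, Over.w]
  exact IsPullback.of_hasPullback X.hom T.hom

theorem mem_fpqc (f : X ⟶ Y) [Flat f.left] [LocallyOfFinitePresentation f.left]
    [Surjective f.left] (T : Over S) :
    Presieve.ofArrows (fun _ : PUnit.{u + 1} ↦ PicF.XT X.hom T)
    (fun _ ↦ AbDual.bcMap f T) ∈ Scheme.fpqcPrecoverage (PicF.XT Y.hom T) := by
  have h := isPullback_bcMap f T
  have i1 : Flat (AbDual.bcMap f T) := MorphismProperty.of_isPullback (P := @Flat) h inferInstance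
  have i2 : LocallyOfFinitePresentation (AbDual.bcMap f T) :=
    MorphismProperty.of_isPullback (P := @LocallyOfFinitePresentation) h inferInstance
  have i3 : Surjective (AbDual.bcMap f T) :=
    MorphismProperty.of_isPullback (P := @Surjective) h inferInstance
  refine Scheme.fppfPrecoverage_le_fpqcPrecoverage _ ?_
  rw [Scheme.fppfPrecoverage, Scheme.ofArrows_mem_precoverage_iff]
  exact ⟨fun t ↦ ⟨⟨⟩, (AbDual.bcMap f T).surjective t⟩, fun i ↦ ⟨i1, i2⟩⟩

end general

section pt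

variable {k : Type u} [Field k] {B R : Type u} [CommRing B] [Algebra k B] [CommRing R] [Algebra k R]

theorem exists_pt (z : sp k R ⟶ sp k B) : ∃ b : B →ₐ[k] R, pt b = z := by
  obtain ⟨φ, hφ⟩ := Spec.map_surjective z.left
  have h1 : z.left ≫ Spec.map (CommRingCat.ofHom (algebraMap k B)) =
      Spec.map (CommRingCat.ofHom (algebraMap k R)) := Over.w z
  have h2 : CommRingCat.ofHom (algebraMap k B) ≫ φ = CommRingCat.ofHom (algebraMap k R) :=
    Spec.map_injective (by
      rw [Spec.map_comp, hφ]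
      exact h1)
  refine ⟨⟨φ.hom, fun r ↦ ?_⟩, ?_⟩
  · exact congrArg (fun t ↦ t.hom r) h2
  · apply Over.OverMorphism.ext
    rw [pt_left, ← hφ]
    rfl

end pt

variable {k : Type u} [Field k] {X Y Xt Yt : Over (Spec (CommRingCat.of k))}
  [GrpObj X] [GrpObj Y] [GrpObj Xt] [GrpObj Yt]
  [IsProper X.hom] [Smooth X.hom] [GeometricallyConnected X.hom]
  [IsProper Y.hom] [Smooth Y.hom] [GeometricallyConnected Y.hom]
  {φX : ∀ T : Over (Spec (CommRingCat.of k)), PicF.Cl (PicF.XT X.hom T) → (T ⟶ Xt)}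
  {φY : ∀ T : Over (Spec (CommRingCat.of k)), PicF.Cl (PicF.XT Y.hom T) → (T ⟶ Yt)}
  (hX : AbDual.IsDualAV Scheme.fppfPrecoverage X Xt φX)
  (hY : AbDual.IsDualAV Scheme.fppfPrecoverage Y Yt φY)
  (f : X ⟶ Y) [IsMonHom f] [Surjective f.left]
  (A : Type u) [CommRing A] [HopfAlgebra k A] [Coalgebra.IsCocomm k A] [FiniteDimensional k A]
  (i : sp k A ⟶ X) [IsMonHom i] (hA : AlgGrp.IsKernel i f)
  (ft : Yt ⟶ Xt) [IsMonHom ft] (hft : AbDual.IsTranspose f φX φY ft)
  (B : Type u) [CommRing B] [HopfAlgebra k B]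
  (j : sp k B ⟶ Yt) [IsMonHom j] (hB : AlgGrp.IsKernel j ft)

variable (φY) {A B} in
/-- Points of `Spec B` and of the dual of `A` correspond. -/
def Rel (R : Type u) [CommRing R] [Algebra k R] (b : B →ₐ[k] R) (β : CartDual.D k A →ₐ[k] R) :
    Prop :=
  ∃ (c : Pic (PicF.XT Y.hom (sp k R))) (χ : Γ((sp k A ⊗ sp k R).left, ⊤)ˣ), KC f i c χ ∧
    cm φY c = pt b ≫ j ∧ ∀ x, β x = Φ k A R (gl χ) x

theorem isFinite_sp : IsFinite (sp k A).hom := by
  have h : (CommRingCat.ofHom (algebraMap k A)).hom.Finite := RingHom.finite_algebraMap.2 inferInstance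
  exact (IsFinite.SpecMap_iff _).2 h

include hX hY hA hft hB

theorem exists_right (R : Type u) [CommRing R] [Algebra k R] (b : B →ₐ[k] R) :
    ∃ β : CartDual.D k A →ₐ[k] R, Rel φY f i j R b β := by
  have g1 := K732.AV.hF X
  have g2 := K732.AV.hF Y
  obtain ⟨c, h1, h2, h3⟩ := exists_cm hY g2 (pt b ≫ j)
  have h4 : pull (AbDual.bcMap f (sp k R)) c = 1 := by
    refine cm_inj hX g1 (pull_bcMap_mem f h1) (one_mem _) (rg_pull f h2) (one_mem _) ?_
    rw [hft.cm h1, h3, cm_one hX]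
    exact comp_eq_one hB (pt b)
  obtain ⟨χ, h5, h6⟩ := exists_of_cls hA g1 h4
  exact ⟨toAlg χ h5, c, χ, h6, h3, fun x ↦ toAlg_apply h5 x⟩

theorem mem_pz {R : Type u} [CommRing R] [Algebra k R] {c : Pic (PicF.XT Y.hom (sp k R))}
    (h : pull (AbDual.bcMap f (sp k R)) c = 1) : c ∈ pz Y.hom (sp k R) := by
  have g1 := K732.AV.geomInt X
  have g2 := K732.AV.geomInt Y
  have g3 := isFinite_sp (k := k) A
  exact K732.AZ.mem_pz_of_isogeny f (sp k A) i hA h

theorem exists_left (R : Type u) [CommRing R] [Algebra k R] (β : CartDual.D k A →ₐ[k] R) :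
    ∃ b : B →ₐ[k] R, Rel φY f i j R b β := by
  have g1 := K732.AV.hF X
  have g2 := K732.AV.hF Y
  have f1 : Flat f.left := (Groth.Agent.S19659.result X Y f).2 inferInstance
  have f2 : LocallyOfFinitePresentation f.left := by
    have : LocallyOfFinitePresentation (f.left ≫ Y.hom) := by rw [Over.w]; infer_instance
    exact Groth.Agent.Flat2E.Thick.locallyOfFinitePresentation_of_comp f.left Y.hom
  obtain ⟨χ, h1, h2⟩ := exists_char_of_algHom β
  obtain ⟨c, h3⟩ := exists_of_char hA (mem_fpqc f (sp k R)) h1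
  have h4 := h3.pull_eq_one
  have h5 := mem_pz hX hY f A i hA ft hft B j hB h4
  have h6 : cm φY c ≫ ft = 1 := by
    rw [← hft.cm h5, h4, cm_one hX]
  obtain ⟨z, hz, -⟩ := ((Groth.Agent.Sga7.H760.KerBc.isKernel_iff j ft).1 hB).2 _ _ h6
  obtain ⟨b, rfl⟩ := exists_pt z
  exact ⟨b, c, χ, h3, hz.symm, fun x ↦ (h2 x).symm⟩

theorem rel_unique_right (R : Type u) [CommRing R] [Algebra k R] (b : B →ₐ[k] R)
    (β β' : CartDual.D k A →ₐ[k] R) (h : Rel φY f i j R b β) (h' : Rel φY f i j R b β') :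
    β = β' := by
  have g1 := K732.AV.hF X
  have g2 := K732.AV.hF Y
  obtain ⟨c, χ, h1, h2, h3⟩ := h
  obtain ⟨c', χ', h1', h2', h3'⟩ := h'
  have h4 := h1.pull_eq_one
  have h4' := h1'.pull_eq_one
  have e : c = c' := cm_inj hY g2 (mem_pz hX hY f A i hA ft hft B j hB h4)
    (mem_pz hX hY f A i hA ft hft B j hB h4') (rg_of_pull_eq_one f h4) (rg_of_pull_eq_one f h4')
    (h2.trans h2'.symm)
  subst e
  obtain rfl := KC.unique_char hA g1 h1 h1'
  ext x
  rw [h3, h3']

theorem rel_unique_left (R : Type u) [CommRing R] [Algebra k R] (b b' : B →ₐ[k] R)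
    (β : CartDual.D k A →ₐ[k] R) (h : Rel φY f i j R b β) (h' : Rel φY f i j R b' β) :
    b = b' := by
  have f1 : Flat f.left := (Groth.Agent.S19659.result X Y f).2 inferInstance
  have f2 : LocallyOfFinitePresentation f.left := by
    have : LocallyOfFinitePresentation (f.left ≫ Y.hom) := by rw [Over.w]; infer_instance
    exact Groth.Agent.Flat2E.Thick.locallyOfFinitePresentation_of_comp f.left Y.hom
  obtain ⟨c, χ, h1, h2, h3⟩ := h
  obtain ⟨c', χ', h1', h2', h3'⟩ := h'
  have e1 : χ = χ' := gl_inj (Φ_injective k A R (by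
    ext x
    rw [← h3, ← h3']))
  subst e1
  have e2 : c = c' := KC.unique_cls hA (mem_fpqc f (sp k R)) h1 h1'
  subst e2
  exact pt_injective (eq_of_comp_i hB (h2.symm.trans h2'))

theorem rel_natural (R R' : Type u) [CommRing R] [Algebra k R] [CommRing R'] [Algebra k R']
    (g : R →ₐ[k] R') (b : B →ₐ[k] R) (β : CartDual.D k A →ₐ[k] R) (h : Rel φY f i j R b β) :
    Rel φY f i j R' (g.comp b) (g.comp β) := by
  obtain ⟨c, χ, h1, h2, h3⟩ := h
  have h4 := mem_pz hX hY f A i hA ft hft B j hB h1.pull_eq_one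
  refine ⟨_, _, h1.pull (pt g), ?_, ?_⟩
  · rw [cm_pull hY _ h4, h2, pt_comp, Category.assoc]
  · intro x
    rw [gl_pull, Φ_map, ← h3]
    rfl

theorem rel_mul (R : Type u) [CommRing R] [Algebra k R] (b b' : B →ₐ[k] R)
    (β β' : CartDual.D k A →ₐ[k] R) (h : Rel φY f i j R b β) (h' : Rel φY f i j R b' β') :
    Rel φY f i j R (cv b b') (cv β β') := by
  obtain ⟨c, χ, h1, h2, h3⟩ := h
  obtain ⟨c', χ', h1', h2', h3'⟩ := h'
  have h4 := mem_pz hX hY f A i hA ft hft B j hB h1.pull_eq_one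
  have h4' := mem_pz hX hY f A i hA ft hft B j hB h1'.pull_eq_one
  refine ⟨_, _, h1.mul h1', ?_, ?_⟩
  · rw [cm_mul hY h4 h4', h2, h2', ← MonObj.mul_comp, pt_mul_pt]
  · intro x
    rw [gl_mul, ← mul'_map_Φ k A R (gl χ) (gl χ') (Coalgebra.comul (R := k) x) x
      (fun a b ↦ CartDual.ev₂_coalgebra_comul_tmul k A x a b)]
    change Algebra.TensorProduct.lift β β' (fun _ _ ↦ .all _ _) (Coalgebra.comul (R := k) x) = _
    generalize Coalgebra.comul (R := k) x = t
    induction t using TensorProduct.induction_on with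
    | zero => simp
    | add t t' ht ht' => rw [map_add, map_add, map_add, ht, ht']
    | tmul y z =>
      rw [Algebra.TensorProduct.lift_tmul, TensorProduct.map_tmul, LinearMap.mul'_apply, h3, h3']

theorem rel_one : Rel φY f i j k (Bialgebra.counitAlgHom k B)
    (Bialgebra.counitAlgHom k (CartDual.D k A)) := by
  refine ⟨1, 1, kc_one, ?_, ?_⟩
  · rw [cm_one hY]
    have h1 := one_eq_pt (R := k) (A := B) (K := k)
    have h2 : (Algebra.ofId k k).comp (Bialgebra.counitAlgHom k B) = Bialgebra.counitAlgHom k B := by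
      ext x
      rfl
    rw [h2] at h1
    rw [← h1, MonObj.one_comp]
  · intro x
    rw [gl_one, Φ_one]
    rfl

/-- **The kernel of the transpose is the Cartier dual of the kernel.** -/
theorem nonempty_equiv : Nonempty (B ≃ₐc[k] CartDual.D k A) :=
  K732.Yon.nonempty_bialgEquiv (k := k) (B := B) (D := CartDual.D k A)
    (fun R _ _ b β ↦ Rel φY f i j R b β)
    (fun R _ _ b ↦ exists_right hX hY f A i hA ft hft B j hB R b)
    (fun R _ _ β ↦ exists_left hX hY f A i hA ft hft B j hB R β)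
    (fun R _ _ b β β' ↦ rel_unique_right hX hY f A i hA ft hft B j hB R b β β')
    (fun R _ _ b b' β ↦ rel_unique_left hX hY f A i hA ft hft B j hB R b b' β)
    (fun R R' _ _ _ _ g b β ↦ rel_natural hX hY f A i hA ft hft B j hB R R' g b β)
    (fun R _ _ b b' β β' ↦ rel_mul hX hY f A i hA ft hft B j hB R b b' β β')
    (rel_one hX hY f A i hA ft hft B j hB)

end K732.KerDual
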