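import Groth.Agent.AbDual.K732.KerCor

/-!
# Functoriality in the isogeny of the correspondence between classes killed by `f` and characters of `ker f`

`KC.map`: for a commutative square `a ≫ f = f' ≫ b` (`f : X ⟶ Y`, `f' : X' ⟶ Y'`) with `n : N' ⟶ N` the map of the
kernels, `KC f i c χ` implies `KC f' i' (b^* c) (χ ∘ n)`.

With `f = [n]`, `f' = [n m]`, `a = [m]`, `b = 𝟙` this is the compatibility of the Weil pairings for varying level.
-/

set_option autoImplicit false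
set_option linter.unusedSectionVars false
universe u

open CategoryTheory CategoryTheory.Limits MonoidalCategory CartesianMonoidalCategory MonObj GrpObj
  AlgebraicGeometry

namespace K732.KerMap

open Groth.Agent.Grpsch.PicGrp Groth.Agent.Fga.RigGrp K732.Cov K732.PicZero K732.RigSheaf K732.Dual
open K732.CubeSec K732.Transp K732.Prim K732.Coc K732.CocX K732.KerChar K732.KerCor

variable {S : Scheme.{u}} {X Y N X' Y' N' : Over S} [GrpObj X] [GrpObj Y] [GrpObj N] [GrpObj X'] [GrpObj Y']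
  [GrpObj N'] {f : X ⟶ Y} [IsMonHom f] {i : N ⟶ X} [IsMonHom i] {f' : X' ⟶ Y'} [IsMonHom f']
  {i' : N' ⟶ X'} [IsMonHom i'] {T : Over S}

theorem KC.map {a : X' ⟶ X} [IsMonHom a] {b : Y' ⟶ Y} {n : N' ⟶ N} (hab : a ≫ f = f' ≫ b)
    (hn : n ≫ i = i' ≫ a) {c : Pic (PicF.XT Y.hom T)} {χ : Γ((N ⊗ T).left, ⊤)ˣ} (h : KC f i c χ) :
    KC f' i' (pull (AbDual.bcMap b T) c) (uv χ (n ▷ T)) := by
  obtain ⟨v, h1, h2⟩ := h
  have w0 : AbDual.bcMap a T ≫ AbDual.bcMap f T = AbDual.bcMap f' T ≫ AbDual.bcMap b T := by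
    rw [← bcMap_comp, hab, bcMap_comp]
  have w' : (pullback.fst (AbDual.bcMap f' T) (AbDual.bcMap f' T) ≫ AbDual.bcMap a T) ≫
      AbDual.bcMap f T = (pullback.snd (AbDual.bcMap f' T) (AbDual.bcMap f' T) ≫
        AbDual.bcMap a T) ≫ AbDual.bcMap f T := by
    rw [Category.assoc, Category.assoc, w0, pullback.condition_assoc]
  refine ⟨_, h1.pull w0 w', ?_⟩
  intro Z x y t e m hm
  have e' : (x ≫ a) ≫ f = (y ≫ a) ≫ f := by
    rw [Category.assoc, Category.assoc, hab, reassoc_of% e]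
  have k1 := vat_pull v (pullback.lift (lift x t).left (lift y t).left (w_of_eq f' T t e))
    (pullback.fst (AbDual.bcMap f' T) (AbDual.bcMap f' T) ≫ AbDual.bcMap a T)
    (pullback.snd (AbDual.bcMap f' T) (AbDual.bcMap f' T) ≫ AbDual.bcMap a T) w'
    (a' := (lift (x ≫ a) t).left) (b' := (lift (y ≫ a) t).left)
    (by rw [pullback.lift_fst_assoc, lift_bcMap]) (by rw [pullback.lift_snd_assoc, lift_bcMap])
    (w_of_eq f T t e')
  have hm' : (m ≫ n) ≫ i = (x ≫ a)⁻¹ * (y ≫ a) := by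
    rw [Category.assoc, hn, reassoc_of% hm, MonObj.mul_comp, GrpObj.inv_comp]
  have k2 := h2 Z (x ≫ a) (y ≫ a) t e' (m ≫ n) hm'
  rw [vp, vat]
  rw [k1]
  refine k2.trans ?_
  rw [← uv_comp]
  congr 1
  ext1 <;> simp

end K732.KerMap
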