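import Groth.Agent.AbDual.K732.Dual

/-!
# From a universal rigidified class to a representation of the relative Picard functor

`exists_isRelPicK` : if `(P, ξ)` is universal for classes rigidified along a section then `P` represents the fppf
relative Picard functor, through `φ` with `(φ c)^* ξ = norm c`.
-/

set_option autoImplicit false
universe u

open CategoryTheory CategoryTheory.Limits AlgebraicGeometry

namespace K732.RelPicK

open Groth.Agent.Grpsch.PicGrp Groth.Agent.Fga.RigGrp K732.Cov K732.PicZero K732.RigSheaf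

variable {X S : Scheme.{u}} {f : X ⟶ S} {σ : S ⟶ X} {hσ : σ ≫ f = 𝟙 S} {P : Over S}
  {ξ : Pic (PicF.XT f P)} (hu : IsUniv f σ hσ P ξ)

include hu

theorem exists_isRelPicK : ∃ φ : ∀ T : Over S, PicF.Cl (PicF.XT f T) → (T ⟶ P),
    AbDual.IsRelPicK Scheme.fppfPrecoverage f P φ ∧
      ∀ (T : Over S) (c : Pic (PicF.XT f T)), pull (PicF.XTmap f (φ T (toCl c))) ξ = norm f σ hσ T c := by
  classical
  have key : ∀ (T : Over S) (c : PicF.Cl (PicF.XT f T)), ∃ g : T ⟶ P,
      ∀ d, toCl d = c → pull (PicF.XTmap f g) ξ = norm f σ hσ T d := by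
    intro T c
    by_cases hc : ∃ d, toCl d = c
    · obtain ⟨d, hdc⟩ := hc
      refine ⟨hu.hom _ (norm_mem f σ hσ T d), fun d' hdc' ↦ ?_⟩
      have : d' = d := toCl_injective (hdc'.trans hdc.symm)
      rw [this]
      exact hu.pull_hom _ _
    · exact ⟨hu.hom 1 (one_mem _), fun d hdc ↦ (hc ⟨d, hdc⟩).elim⟩
  choose φ hφ using key
  have hφ' : ∀ (T : Over S) (c : Pic (PicF.XT f T)),
      pull (PicF.XTmap f (φ T (toCl c))) ξ = norm f σ hσ T c := fun T c ↦ hφ T _ c rfl
  refine ⟨φ, ⟨?_, ?_, ?_⟩, hφ'⟩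
  · intro T T' g c hc
    obtain ⟨d, rfl⟩ := exists_toCl hc
    apply hu.hom_ext
    rw [← toCl_pull, hφ', XTmap_comp, pull_comp, hφ', pull_norm]
  · intro T g
    refine ⟨_, (zar (T := T) (fun _ ↦ ⊤) (fun _ ↦ trivial)).mem_fppf, ?_⟩
    rintro U u ⟨i⟩
    refine ⟨toCl (pull (PicF.XTmap f (AbDual.ovrHom T _ ≫ g)) ξ), isInvertibleCl_toCl _, ?_⟩
    apply hu.hom_ext
    rw [hφ']
    exact norm_of_mem _ _ _ (pull_mem _ hu.1)
  · intro T c c' hc hc' h
    obtain ⟨d, rfl⟩ := exists_toCl hc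
    obtain ⟨d', rfl⟩ := exists_toCl hc'
    have h4 : norm f σ hσ T d = norm f σ hσ T d' := by
      rw [← hφ' T d, ← hφ' T d', h]
    have h6 : d / d' = pull (PicF.XTproj f T) (pull (PicF.secT f σ hσ T) (d / d')) := by
      have h7 : norm f σ hσ T (d / d') = 1 := by rw [map_div, h4, div_self']
      rw [norm_apply, div_eq_one] at h7
      exact h7
    set n : Pic T.left := pull (PicF.secT f σ hσ T) (d / d')
    choose U hU hn using fun t ↦ Groth.Agent.Picfga.PicBridge.exists_open_pull_eq_one n t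
    refine ⟨_, (zar U hU).mem_fppf, ?_⟩
    rintro V v ⟨i⟩
    rw [← toCl_pull, ← toCl_pull]
    congr 1
    rw [← div_eq_one, ← map_div]
    refine (congrArg _ h6).trans ?_
    rw [← pull_comp, XTmap_XTproj, pull_comp]
    have h8 : pull (AbDual.ovrHom T ((zar U hU).j i).left).left n = 1 := hn i
    exact (congrArg (pull (PicF.XTproj f _)) h8).trans (map_one _)

end K732.RelPicK
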