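import Groth.Agent.AbDual.K732.FamPz
import Groth.Agent.AbDual.K732.RelPicK
import Groth.Agent.AbDual.K732.AV
import Groth.Agent.Biell.K856.PicG
import Groth.Agent.S3216
import Groth.Agent.S3226
import Groth.Agent.Sga7.H780.RigPicSh
import Groth.Agent.CalgB.ProjField
import Groth.Agent.CohqB.ProjBC
import Groth.Agent.S1841
import Groth.Agent.S2502
import Groth.Agent.GrpSch.K268.UnitSmooth

/-!
# The Picard scheme of an abelian variety and its neutral component

* `exists_picScheme` : the Picard scheme of an abelian variety over any field exists (S3226).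
* `exists_dual_of_smooth` : if it is smooth, its neutral component is a dual abelian variety.
-/

set_option autoImplicit false
set_option linter.unusedSectionVars false
universe u

open CategoryTheory CategoryTheory.Limits MonoidalCategory CartesianMonoidalCategory MonObj GrpObj
  AlgebraicGeometry

namespace K732.PicSch

open Groth.Agent
open Groth.Agent.Grpsch.PicGrp Groth.Agent.Fga.RigGrp K732.Cov K732.PicZero K732.RigSheaf K732.Dual

variable {k : Type u} [Field k] (A : Over (Spec (CommRingCat.of k))) [GrpObj A] [IsProper A.hom]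
  [Smooth A.hom] [GeometricallyConnected A.hom]

/-- Identity morphisms are geometrically connected. -/
theorem geometricallyConnected_id (Y : Scheme.{u}) : GeometricallyConnected (𝟙 Y) := by
  refine ⟨fun K _ y Z fst snd h ↦ ?_⟩
  have : IsIso snd := MorphismProperty.of_isPullback (P := MorphismProperty.isomorphisms Scheme.{u}) h
    (inferInstanceAs (IsIso (𝟙 Y)))
  exact (Scheme.homeoOfIso (asIso snd)).symm.surjective.connectedSpace
    (Scheme.homeoOfIso (asIso snd)).symm.continuous

/-- The Picard scheme of an abelian variety. -/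
theorem exists_picScheme : ∃ (P : Over (Spec (CommRingCat.of k))) (ξ : Pic (PicF.XT A.hom P)),
    IsUniv A.hom η[A].left (Over.w η[A]) P ξ ∧ PicRel.RepresentedBy A.hom P ∧
      LocallyOfFiniteType P.hom ∧ IsSeparated P.hom := by
  have gi := K732.AV.geomInt A
  obtain ⟨n, c, hc, hcf⟩ := CalgB.ProjField.exists_closedImmersion_projSpace A.hom
    (S1841.result k A)
  obtain ⟨i, hi, hif⟩ : ∃ i : A.left ⟶ CohB1.ProjSpaceOver n (Spec (CommRingCat.of k)),
      IsClosedImmersion i ∧ i ≫ CohB1.ProjSpaceOver.toBase n (Spec (CommRingCat.of k)) = A.hom := by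
    refine ⟨c ≫ (CohqB.ProjBC.projSpaceOverIso n k).inv, inferInstance, ?_⟩
    rw [Category.assoc, CohqB.ProjBC.projSpaceOverIso_inv_toBase]
    exact hcf
  have key : ∀ (q : A.left ⟶ Spec (CommRingCat.of k)) [GeometricallyIntegral q] [Flat q],
      i ≫ CohB1.ProjSpaceOver.toBase n (Spec (CommRingCat.of k)) = q →
      ∃ P : Over (Spec (CommRingCat.of k)), PicRel.RepresentedBy q P ∧
        IsSeparated P.hom ∧ LocallyOfFiniteType P.hom := by
    rintro q h1 h2 rfl
    exact S3226.result (Spec (CommRingCat.of k)) A.left n i (fun Ω _ _ s =>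
      GeometricallyIntegral.geometrically_isIntegral _ _ _ (IsPullback.of_hasPullback _ s))
  obtain ⟨P, hP, hs, hlft⟩ := key A.hom hif
  obtain ⟨ξ, hξ⟩ := Sga7.H780.RigPicSh.exists_isUniv (σ := η[A].left) (Over.w η[A])
    (fun T => K732.AV.hF A T) hP
  exact ⟨P, ξ, hξ, hP, hlft, hs⟩

/-- The neutral component of a smooth Picard scheme is a dual. -/
theorem exists_dual_of_smooth {P : Over (Spec (CommRingCat.of k))} {ξ : Pic (PicF.XT A.hom P)}
    (hu : IsUniv A.hom η[A].left (Over.w η[A]) P ξ) (hr : PicRel.RepresentedBy A.hom P)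
    [LocallyOfFiniteType P.hom] [Smooth P.hom] :
    ∃ (At : Over (Spec (CommRingCat.of k))) (_ : GrpObj At)
      (φ : ∀ T : Over (Spec (CommRingCat.of k)), PicF.Cl (PicF.XT A.hom T) → (T ⟶ At)),
      IsCommMonObj At ∧ AbDual.IsDualAV Scheme.fppfPrecoverage A At φ ∧ IsProper At.hom ∧
        Smooth At.hom ∧ GeometricallyConnected At.hom ∧
        topologicalKrullDim At.left = topologicalKrullDim P.left := by
  obtain ⟨hG, hcomm, hmul⟩ := K856.PicG.exists_grpObj hu
  obtain ⟨P0, g0, i, hi, hcl, hop, hconn, hqc, hrange⟩ := K206.Comm.exists_neutral P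
  have mi : Mono i := by
    have : Mono i.left := inferInstance
    exact Over.mono_of_mono_left i
  have hlft : LocallyOfFiniteType P0.hom := by rw [← Over.w i]; infer_instance
  have hsm : Smooth P0.hom := by rw [← Over.w i]; infer_instance
  have hprop : IsProper P0.hom := by
    rw [← Over.w i]
    refine (S3216.result A.hom P hr).2 P0.left i.left inferInstance ?_ ?_
    · rw [Over.w]; infer_instance
    · rw [Over.w]; infer_instance
  have hgc : GeometricallyConnected P0.hom := by
    have h1 : GeometricallyConnected (η[P0].left ≫ P0.hom) := by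
      rw [Over.w]
      exact geometricallyConnected_id (Spec (CommRingCat.of k))
    have h2 : Nonempty ↥(𝟙_ (Over (Spec (CommRingCat.of k)))).left :=
      inferInstanceAs (Nonempty ↥(Spec (CommRingCat.of k)))
    exact S2502.result η[P0].left P0.hom
  have he : pull (PicF.XTmap A.hom (η[P] : 𝟙_ _ ⟶ P)) ξ = 1 := by
    have h := hmul (𝟙_ (Over (Spec (CommRingCat.of k)))) 1 1
    rw [_root_.mul_one] at h
    have h' := left_eq_mul.1 h
    rwa [Hom.one_def, toUnit_unit, Category.id_comp] at h'
  have pt : ↥(𝟙_ (Over (Spec (CommRingCat.of k)))).left := IsLocalRing.closedPoint k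
  have h1 : pull (PicF.XTmap A.hom i) ξ ∈ pz A.hom P0 := by
    refine K732.FamPz.mem_pz_of_geomConn P0 _ η[P0] ?_
    rw [← pull_comp, ← XTmap_comp, IsMonHom.one_hom, he]
  have h2 : pull (PicF.XTmap A.hom i) ξ ∈ rg A P0 := pull_mem _ hu.1
  obtain ⟨φ, hφ, -, -⟩ := K732.Constr.exists_isDualAV (pull (PicF.XTmap A.hom i) ξ) h1 h2
    (fun T c hc hc' ↦ by
      have h3 : pull (PicF.XTmap A.hom (hu.hom c hc')) ξ = c := hu.pull_hom _ _
      have h4 : Set.range (hu.hom c hc').left ⊆ Set.range i.left := by
        rw [hrange pt]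
        exact K732.FamPz.range_subset hu η[P] he _ (by rw [h3]; exact hc) pt
      refine ⟨Over.homMk (IsOpenImmersion.lift i.left (hu.hom c hc').left h4) (by
        rw [← Over.w i, IsOpenImmersion.lift_fac_assoc, Over.w]), ?_, ?_⟩
      · have h5 : Over.homMk (IsOpenImmersion.lift i.left (hu.hom c hc').left h4) (by
            rw [← Over.w i, IsOpenImmersion.lift_fac_assoc, Over.w]) ≫ i = hu.hom c hc' := by
          ext1
          exact IsOpenImmersion.lift_fac _ _ _
        change pull _ (pull _ ξ) = c
        rw [← pull_comp, ← XTmap_comp, h5, h3]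
      · intro g hg
        rw [← cancel_mono i]
        apply hu.hom_ext
        have h5 : Over.homMk (IsOpenImmersion.lift i.left (hu.hom c hc').left h4) (by
            rw [← Over.w i, IsOpenImmersion.lift_fac_assoc, Over.w]) ≫ i = hu.hom c hc' := by
          ext1
          exact IsOpenImmersion.lift_fac _ _ _
        rw [h5, h3, XTmap_comp, pull_comp]
        exact hg)
    (fun T a b ↦ by
      rw [← pull_comp, ← pull_comp, ← pull_comp, ← XTmap_comp, ← XTmap_comp, ← XTmap_comp,
        MonObj.mul_comp, hmul])
  have gi := K732.AV.geomInt P0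
  have hdim : topologicalKrullDim P0.left = topologicalKrullDim P.left := by
    rw [← K268.UnitSmooth.ringKrullDim_stalk_unit P0, ← K268.UnitSmooth.ringKrullDim_stalk_unit P]
    have e1 : i.left ((η[P0] : 𝟙_ (Over (Spec (CommRingCat.of k))) ⟶ P0).left (IsLocalRing.closedPoint k)) =
        (η[P] : 𝟙_ (Over (Spec (CommRingCat.of k))) ⟶ P).left (IsLocalRing.closedPoint k) := by
      have h := congrArg (fun m : 𝟙_ (Over (Spec (CommRingCat.of k))) ⟶ P ↦
        m.left (IsLocalRing.closedPoint k)) (IsMonHom.one_hom i)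
      exact h
    rw [← e1]
    exact ringKrullDim_eq_of_ringEquiv (asIso (i.left.stalkMap _)).symm.commRingCatIsoToRingEquiv
  exact ⟨P0, g0, φ, isCommMonObj_of_isProper_of_geometricallyIntegral P0, hφ, hprop, hsm, hgc, hdim⟩

end K732.PicSch
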