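import Groth.Prelude.Def_AbDual
import Groth.Agent.Pic13.H138.AlgEquiv
import Groth.Agent.Pic13.H703.KPoints
import Groth.Agent.Fga.RigGrp
import Groth.Agent.AbDual.K732.Cov

/-!
# `Pic⁰` classes in the Picard group of `X_T`

* `az q : Subgroup (Pic Z)` for `q : Z ⟶ Spec Ω`, `Ω` algebraically closed: classes algebraically equivalent to zero;
* `pz f T : Subgroup (Pic X_T)` : classes which are algebraically equivalent to zero on all geometric fibres of
  `X_T ⟶ T`; `mem_pz_iff : IsPicZeroCl f T (toCl c) ↔ c ∈ pz f T`;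
* `pull_XTmap_mem`, `pull_mem_of_comm`, `pull_XTproj_mem`, `mem_of_cov` (fppf-local on `T`).
-/

set_option autoImplicit false
universe u

open CategoryTheory CategoryTheory.Limits AlgebraicGeometry

namespace K732.PicZero

open Groth.Agent.Grpsch.PicGrp Groth.Agent.Fga.RigGrp Groth.Agent.Pic13.H138.AlgEquiv K732.Cov

/-! ### Classes algebraically equivalent to zero -/

section az

variable {Ω : Type u} [Field Ω] [IsAlgClosed Ω] {Z Z' : Scheme.{u}}

/-- Classes algebraically equivalent to zero, for a structure morphism `q` to the spectrum of an algebraically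
closed field. -/
noncomputable def az (q : Z ⟶ Spec (CommRingCat.of Ω)) : Subgroup (Pic Z) := @alg0 Ω _ Z ⟨q⟩ _

theorem pull_mem_az {q : Z ⟶ Spec (CommRingCat.of Ω)} {q' : Z' ⟶ Spec (CommRingCat.of Ω)}
    (g : Z' ⟶ Z) (hg : g ≫ q = q') {a : Pic Z} (ha : a ∈ az q) : pull g a ∈ az q' :=
  @pull_mem_alg0 Ω _ Z ⟨q⟩ _ Z' ⟨q'⟩ g hg a ha

theorem isAlgEquivZero_iff_mem_az (q : Z ⟶ Spec (CommRingCat.of Ω)) {L : Z.Modules}
    (hL : PicF.IsInvertible L) : @Pic13.IsAlgEquivZero Ω _ Z ⟨q⟩ L ↔ mk L hL ∈ az q :=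
  @isAlgEquivZero_iff_mem Ω _ Z ⟨q⟩ _ L hL

end az

/-! ### Classes algebraically equivalent to zero on the geometric fibres -/

section pz

variable {X S : Scheme.{u}} (f : X ⟶ S)

/-- Classes on the source of `g : Y ⟶ T` algebraically equivalent to zero on the geometric fibres. -/
noncomputable def gz {Y T : Scheme.{u}} (g : Y ⟶ T) : Subgroup (Pic Y) where
  carrier := {c | ∀ (Ω : Type u) [Field Ω] [IsAlgClosed Ω] (τ : Spec (CommRingCat.of Ω) ⟶ T),
    pull (pullback.fst g τ) c ∈ az (pullback.snd g τ)}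
  one_mem' := fun Ω _ _ τ ↦ by rw [map_one]; exact one_mem _
  mul_mem' := fun ha hb Ω _ _ τ ↦ by rw [map_mul]; exact mul_mem (ha Ω τ) (hb Ω τ)
  inv_mem' := fun ha Ω _ _ τ ↦ by rw [map_inv]; exact inv_mem (ha Ω τ)

theorem mem_gz {Y T : Scheme.{u}} {g : Y ⟶ T} {c : Pic Y} : c ∈ gz g ↔
    ∀ (Ω : Type u) [Field Ω] [IsAlgClosed Ω] (τ : Spec (CommRingCat.of Ω) ⟶ T),
      pull (pullback.fst g τ) c ∈ az (pullback.snd g τ) := Iff.rfl

/-- Pull back to any scheme over an algebraically closed field mapping to a geometric fibre. -/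
theorem pull_mem_of_mem {Y T : Scheme.{u}} {g : Y ⟶ T} {c : Pic Y} (hc : c ∈ gz g)
    {Ω : Type u} [Field Ω] [IsAlgClosed Ω] (τ : Spec (CommRingCat.of Ω) ⟶ T) {Z : Scheme.{u}}
    (p : Z ⟶ Y) (q : Z ⟶ Spec (CommRingCat.of Ω)) (h : p ≫ g = q ≫ τ) : pull p c ∈ az q := by
  have h1 := pull_mem_az (pullback.lift p q h) (pullback.lift_snd p q h) (hc Ω τ)
  rwa [← pull_comp, pullback.lift_fst] at h1

/-- Functoriality for commutative squares. -/
theorem pull_mem_of_comm {Y T Y' T' : Scheme.{u}} {g : Y ⟶ T} {g' : Y' ⟶ T'} (a : Y' ⟶ Y)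
    (b : T' ⟶ T) (h : a ≫ g = g' ≫ b) {c : Pic Y} (hc : c ∈ gz g) : pull a c ∈ gz g' := by
  intro Ω _ _ τ
  rw [← pull_comp]
  refine pull_mem_of_mem hc (τ ≫ b) _ _ ?_
  rw [Category.assoc, h, ← Category.assoc, pullback.condition, Category.assoc]

/-- Classes from the base are algebraically equivalent to zero on the fibres. -/
theorem pull_base_mem {Y T : Scheme.{u}} (g : Y ⟶ T) (n : Pic T) : pull g n ∈ gz g := by
  intro Ω _ _ τ
  rw [← pull_comp, pullback.condition, pull_comp, pic_spec_local Ω (pull τ n), map_one]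
  exact one_mem _

/-- Locality for morphisms locally of finite type which are jointly surjective. -/
theorem mem_gz_of_cover {Y T : Scheme.{u}} (g : Y ⟶ T) {ι : Type*} (V : ι → Scheme.{u})
    (j : ∀ i, V i ⟶ T) [∀ i, LocallyOfFiniteType (j i)]
    (hj : ∀ t : T, ∃ (i : ι) (y : V i), j i y = t) (Y' : ι → Scheme.{u}) (g' : ∀ i, Y' i ⟶ V i)
    (a : ∀ i, Y' i ⟶ Y) (h : ∀ i, IsPullback (a i) (g' i) g (j i)) {c : Pic Y}
    (hc : ∀ i, pull (a i) c ∈ gz (g' i)) : c ∈ gz g := by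
  intro Ω _ _ τ
  obtain ⟨i, y, hy⟩ := hj (τ (IsLocalRing.closedPoint Ω))
  have hne : Nonempty ↥(pullback (j i) τ) := by
    obtain ⟨z, -, -⟩ := Scheme.Pullback.exists_preimage_pullback (f := j i) (g := τ) y _ hy
    exact ⟨z⟩
  obtain ⟨s, hs⟩ := Groth.Agent.Pic13.H703.KPoints.exists_section (pullback.snd (j i) τ)
  let τ' : Spec (CommRingCat.of Ω) ⟶ V i := s ≫ pullback.fst (j i) τ
  have hτ' : τ' ≫ j i = τ := by
    rw [Category.assoc, pullback.condition, ← Category.assoc, hs, Category.id_comp]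
  let l : pullback g τ ⟶ Y' i := (h i).lift (pullback.fst g τ) (pullback.snd g τ ≫ τ') (by
    rw [Category.assoc, hτ', pullback.condition])
  have hl1 : l ≫ a i = pullback.fst g τ := (h i).lift_fst _ _ _
  have hl2 : l ≫ g' i = pullback.snd g τ ≫ τ' := (h i).lift_snd _ _ _
  have h1 := pull_mem_of_mem (hc i) τ' l (pullback.snd g τ) hl2
  rwa [← pull_comp, hl1] at h1

/-- `Pic⁰` classes on `X_T`. -/
noncomputable abbrev pz (T : Over S) : Subgroup (Pic (PicF.XT f T)) := gz (PicF.XTproj f T)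

variable {f}

/-- The comparison with the frozen predicate. -/
theorem isPicZeroCl_iff {T : Over S} {c : Pic (PicF.XT f T)} :
    AbDual.IsPicZeroCl f T (toCl c) ↔ c ∈ pz f T := by
  constructor
  · rintro ⟨L, h1, hL, h2⟩ Ω _ _ τ
    have hc : c = mk L hL := toCl_injective (by rw [toCl_mk, h1])
    subst hc
    have hr : Set.range τ.base = {τ (IsLocalRing.closedPoint Ω)} := by
      ext t
      constructor
      · rintro ⟨p, rfl⟩
        have : p = IsLocalRing.closedPoint Ω := Subsingleton.elim (α := PrimeSpectrum Ω) _ _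
        subst this
        rfl
      · intro ht
        exact ⟨IsLocalRing.closedPoint Ω, ht.symm⟩
    have h3 := h2 _ Ω τ hr
    rw [pull_mk]
    exact (isAlgEquivZero_iff_mem_az _ _).1 h3
  · intro h
    obtain ⟨L, hL, rfl⟩ := exists_mk c
    refine ⟨L, rfl, hL, fun t Ω _ _ τ _ ↦ ?_⟩
    have h1 := h Ω τ
    rw [pull_mk] at h1
    exact (isAlgEquivZero_iff_mem_az _ _).2 h1

theorem isInvertibleCl_of_isPicZeroCl {T : Over S} {c : PicF.Cl (PicF.XT f T)}
    (h : AbDual.IsPicZeroCl f T c) : PicF.IsInvertibleCl c := by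
  obtain ⟨L, h1, hL, -⟩ := h
  exact ⟨L, h1, hL⟩

/-- A `Pic⁰` class comes from the Picard group. -/
theorem exists_pz {T : Over S} {c : PicF.Cl (PicF.XT f T)} (h : AbDual.IsPicZeroCl f T c) :
    ∃ d ∈ pz f T, toCl d = c := by
  obtain ⟨d, rfl⟩ := exists_toCl (isInvertibleCl_of_isPicZeroCl h)
  exact ⟨d, isPicZeroCl_iff.1 h, rfl⟩

theorem pull_XTmap_mem {T T' : Over S} (g : T' ⟶ T) {c : Pic (PicF.XT f T)} (hc : c ∈ pz f T) :
    pull (PicF.XTmap f g) c ∈ pz f T' :=
  pull_mem_of_comm _ g.left (XTmap_XTproj f g) hc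

theorem pull_XTproj_mem {T : Over S} (n : Pic T.left) : pull (PicF.XTproj f T) n ∈ pz f T :=
  pull_base_mem _ n

variable {A B : Over S}

@[reassoc]
theorem bcMap_XTproj (h : A ⟶ B) (T : Over S) :
    AbDual.bcMap h T ≫ PicF.XTproj B.hom T = PicF.XTproj A.hom T :=
  (pullback.lift_snd _ _ _).trans (Category.comp_id _)

@[reassoc]
theorem bcMap_fst (h : A ⟶ B) (T : Over S) :
    AbDual.bcMap h T ≫ pullback.fst B.hom T.hom = pullback.fst A.hom T.hom ≫ h.left :=
  pullback.lift_fst _ _ _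

theorem pull_bcMap_mem (h : A ⟶ B) {T : Over S} {c : Pic (PicF.XT B.hom T)} (hc : c ∈ pz B.hom T) :
    pull (AbDual.bcMap h T) c ∈ pz A.hom T :=
  pull_mem_of_comm (g := PicF.XTproj B.hom T) _ (𝟙 _)
    ((bcMap_XTproj h T).trans (Category.comp_id _).symm) hc

theorem isPullback_XTmap {T T' : Over S} (g : T' ⟶ T) :
    IsPullback (PicF.XTmap f g) (PicF.XTproj f T') (PicF.XTproj f T) g.left := by
  have h1 : IsPullback (PicF.XTmap f g ≫ pullback.fst f T.hom) (PicF.XTproj f T') f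
      (g.left ≫ T.hom) := by
    rw [XTmap_fst, Over.w]
    exact IsPullback.of_hasPullback f T'.hom
  exact IsPullback.of_right h1 (XTmap_XTproj f g) (IsPullback.of_hasPullback f T.hom)

/-- `Pic⁰` is fppf-local on the base. -/
theorem mem_of_cov {T : Over S} (𝒰 : FCov T) {c : Pic (PicF.XT f T)}
    (h : ∀ i, pull (PicF.XTmap f (𝒰.j i)) c ∈ pz f (𝒰.V i)) : c ∈ pz f T := by
  have : ∀ i, LocallyOfFiniteType (𝒰.j i).left := fun i ↦ inferInstance
  exact mem_gz_of_cover (PicF.XTproj f T) (fun i ↦ (𝒰.V i).left) (fun i ↦ (𝒰.j i).left)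
    𝒰.covers _ _ _ (fun i ↦ isPullback_XTmap (𝒰.j i)) h

end pz

end K732.PicZero
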