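import Groth.Agent.AbDual.K732.ChiPoin
import Groth.Agent.AbDual.K732.Lam
import Groth.Agent.AbVar.K506.ChiBox
import Groth.Agent.AbVar.K512.PhiSurj
import Groth.Agent.S1842
import Groth.Agent.AbVar.K529.KL

/-!
# Riemann–Roch: `χ(L)² = deg φ_L` on abelian varieties over an algebraically closed field

* `chi_zpow` : `χ(c^n) = n^g χ(c)`;
* `chi_mul_inv` : `χ(c n) = χ(c)` for `n` translation invariant;
* `chi_D` : `χ(Λ(c)) = (-1)^g χ(c)²`;
* `chi_sq` : `χ(c)² = deg φ_c`.
-/

set_option autoImplicit false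
set_option linter.unusedSectionVars false
universe u

open CategoryTheory CategoryTheory.Limits MonoidalCategory CartesianMonoidalCategory AlgebraicGeometry
open scoped MonObj

namespace K732.RR

open Groth.Agent.Grpsch Groth.Agent.Grpsch.PicGrp Groth.Agent.Grpsch.Cube
open K516.DegPoly K516.DegForm K516.Quad K524.Chi K732.EulerQ
open K506.Transl (tr phi Inv)

variable {k : Type u} [Field k]

section any

variable {A : Over (Spec (CommRingCat.of k))} [GrpObj A] [IsProper A.hom] [GeometricallyIntegral A.hom]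

theorem chi_zpow (n : ℕ) (hn : topologicalKrullDim A.left = n) (c : Pic A.left) (m : ℤ) :
    chi (c ^ m) = m ^ n * chi c := by
  have h1 := F_eq_chi n hn (c ^ m)
  have h2 : (fun _ : Fin n ↦ Additive.ofMul (c ^ m)) = fun _ ↦ m • Additive.ofMul c := rfl
  rw [h2, MultilinearMap.map_smul_univ, F_eq_chi n hn, Finset.prod_const, Finset.card_univ,
    Fintype.card_fin, smul_eq_mul] at h1
  have h4 : ((Nat.factorial n : ℕ) : ℤ) ≠ 0 := by exact_mod_cast Nat.factorial_ne_zero n
  apply mul_left_cancel₀ h4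
  rw [← h1]
  ring

theorem chi_pos (n : ℕ) (hn : topologicalKrullDim A.left = n) {L : A.left.Modules}
    (hL : CohB1.IsAmple L) : 0 < chi (mk L hL.1) := by
  have h1 := F_pos A n hn (fun _ ↦ L) (fun _ ↦ hL)
  rw [F_eq_chi n hn] at h1
  exact pos_of_mul_pos_right h1 (by positivity)

/-- `deg (f ≫ g) = deg f · deg g`. -/
theorem deg_comp {B C : Over (Spec (CommRingCat.of k))} [GrpObj B] [GrpObj C]
    [IsProper B.hom] [GeometricallyIntegral B.hom] [IsProper C.hom] [GeometricallyIntegral C.hom]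
    (n : ℕ) (hA : topologicalKrullDim A.left = n) (hB : topologicalKrullDim B.left = n)
    (hC : topologicalKrullDim C.left = n) (f : A ⟶ B) (g : B ⟶ C) [IsMonHom f] [IsMonHom g] :
    deg (f ≫ g) = deg f * deg g := by
  obtain ⟨M, hM, -⟩ := Groth.Agent.Grpsch.MulFin.exists_symm_ample C
  have h1 := chi_pull n hA hC (f ≫ g) (mk M hM.1)
  have h2 := chi_pull n hA hB f (pull g.left (mk M hM.1))
  rw [chi_pull n hB hC g] at h2
  rw [Over.comp_left, pull_comp, h2] at h1
  have h3 := chi_pos n hC hM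
  have h4 : (deg f : ℤ) * deg g = deg (f ≫ g) := by
    apply mul_right_cancel₀ h3.ne'
    rw [← h1]
    ring
  exact_mod_cast h4.symm

theorem isMonHom_two : IsMonHom (𝟙 A ^ 2 : A ⟶ A) := by
  have hc := isCommMonObj_of_isProper_of_geometricallyIntegral A
  rw [pow_two]
  exact K516.DegPoly.isMonHom_mul _ _

theorem deg_two (n : ℕ) (hn : topologicalKrullDim A.left = n) : deg (𝟙 A ^ 2 : A ⟶ A) = 2 ^ (2 * n) := by
  have h1 := Groth.Agent.S1842.result k A n hn 2 two_ne_zero
  have h2 : IsFinite (𝟙 A ^ 2 : A ⟶ A).left := h1.1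
  have hm : IsMonHom (𝟙 A ^ 2 : A ⟶ A) := isMonHom_two
  rw [← finrank_eq n hn hn (𝟙 A ^ 2 : A ⟶ A) h2 (genericPoint A.left)]
  exact h1.2.2 _

end any

section hh

variable (A : Over (Spec (CommRingCat.of k))) [GrpObj A]

/-- The homomorphism `(x, y) ↦ (x y, x y⁻¹)`. -/
noncomputable def hh : A ⊗ A ⟶ A ⊗ A := lift (fst A A * snd A A) (fst A A * (snd A A)⁻¹)

theorem hh_fst : hh A ≫ fst A A = fst A A * snd A A := lift_fst _ _
theorem hh_snd : hh A ≫ snd A A = fst A A * (snd A A)⁻¹ := lift_snd _ _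

theorem isMonHom_inv {X Y : Over (Spec (CommRingCat.of k))} [GrpObj X] [GrpObj Y] [IsCommMonObj Y]
    (f : X ⟶ Y) [IsMonHom f] : IsMonHom (f⁻¹) := by
  have h : f⁻¹ = f ≫ (𝟙 Y)⁻¹ := by rw [GrpObj.comp_inv, Category.comp_id]
  rw [h]
  have : IsMonHom ((𝟙 Y)⁻¹ : Y ⟶ Y) := by
    rw [Hom.inv_def, Category.id_comp]
    infer_instance
  infer_instance

theorem isMonHom_hh [IsCommMonObj A] : IsMonHom (hh A) := by
  have h1 : IsMonHom (fst A A * snd A A) := K516.DegPoly.isMonHom_mul _ _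
  have h2 : IsMonHom ((snd A A)⁻¹) := isMonHom_inv _
  have h3 : IsMonHom (fst A A * (snd A A)⁻¹) := K516.DegPoly.isMonHom_mul _ _
  exact inferInstanceAs (IsMonHom (lift (fst A A * snd A A) (fst A A * (snd A A)⁻¹)))

theorem hh_comp_hh [IsCommMonObj A] : hh A ≫ hh A = 𝟙 (A ⊗ A) ^ 2 := by
  apply CartesianMonoidalCategory.hom_ext
  · rw [Category.assoc, hh_fst, MonObj.comp_mul, hh_fst, hh_snd, MonObj.pow_comp, Category.id_comp]
    rw [pow_two, mul_mul_mul_comm, mul_inv_cancel, _root_.mul_one]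
  · rw [Category.assoc, hh_snd, MonObj.comp_mul, GrpObj.comp_inv, hh_fst, hh_snd, MonObj.pow_comp,
      Category.id_comp, pow_two, mul_inv, inv_inv, mul_mul_mul_comm, mul_inv_cancel, _root_.one_mul]

end hh

section closed

variable [IsAlgClosed k] {A : Over (Spec (CommRingCat.of k))} [GrpObj A] [IsProper A.hom]
  [GeometricallyIntegral A.hom]

/-- Twisting by a translation invariant class does not change `χ`. -/
theorem chi_mul_inv (c : Pic A.left) {n : Pic A.left} (hn : Inv n) : chi (c * n) = chi c := by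
  obtain ⟨M, hM, -⟩ := Groth.Agent.Grpsch.MulFin.exists_symm_ample A
  obtain ⟨x, hx⟩ := K512.PhiSurj.exists_eq_of_isAmple M hM n hn
  rw [← hx]
  exact chi_mul_phi c (mk M hM.1) x

/-- Pull backs of translation invariant classes are translation invariant. -/
theorem inv_pl {B : Over (Spec (CommRingCat.of k))} [GrpObj B] (f : B ⟶ A) [IsMonHom f]
    {n : Pic A.left} (hn : Inv n) : Inv (pl f n) := by
  intro b
  have h : tr b ≫ f = f ≫ tr (b ≫ f) := by
    rw [K506.Transl.comp_tr, tr, MonObj.mul_comp, Category.id_comp, Category.assoc]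
  rw [← pl_comp, h, pl_comp, hn]

/-- `c / [-1]^* c` is translation invariant. -/
theorem inv_div (c : Pic A.left) : Inv (c * (pl (𝟙 A)⁻¹ c)⁻¹) := by
  rw [K506.Transl.inv_iff_phi]
  intro a
  rw [K506.Transl.phi_cmul, K524.Index.phi_cinv, K506.Transl.phi_pl_inv_eq, mul_inv_cancel]

theorem chi_D (g : ℕ) (hg : topologicalKrullDim A.left = g) (c : Pic A.left) :
    chi (X := A ⊗ A) (D c (fst A A) (snd A A)) = (-1) ^ g * chi c ^ 2 := by
  have hcomm := isCommMonObj_of_isProper_of_geometricallyIntegral A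
  have i1 : IsProper (A ⊗ A).hom := K520.Prod.isProper_tensor A A
  have i2 : GeometricallyIntegral (A ⊗ A).hom := K520.Prod.geometricallyIntegral_tensor A A
  have d1 : topologicalKrullDim (A ⊗ A).left = ((g + g : ℕ) : WithBot ℕ∞) := by
    rw [K518.ProdIsog.dim_tensor, hg]
    push_cast
    rfl
  have hm := isMonHom_hh A
  -- the degree of `hh`
  have hd : deg (hh A) = 2 ^ (g + g) := by
    have h1 := deg_comp (g + g) d1 d1 d1 (hh A) (hh A)
    rw [hh_comp_hh, deg_two (g + g) d1, two_mul, pow_add] at h1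
    exact (Nat.mul_self_inj.1 h1).symm
  -- the pull back of `c ⊠ c⁻¹`
  have h2 : pl (hh A) (pl (fst A A) c * pl (snd A A) c⁻¹) =
      D c (fst A A) (snd A A) ^ (2 : ℤ) * pl (snd A A) (c * (pl (𝟙 A)⁻¹ c)⁻¹) := by
    have e1 : D c (fst A A) (snd A A)⁻¹ = (D c (fst A A) (snd A A))⁻¹ := by
      rw [eq_inv_iff_mul_eq_one, ← D_mul_right, inv_mul_cancel, D_one_right]
    have e2 : pl (snd A A)⁻¹ c = pl (snd A A) (pl (𝟙 A)⁻¹ c) := by
      rw [← pl_comp, GrpObj.comp_inv, Category.comp_id]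
    rw [map_mul, map_inv (pl (snd A A)), map_inv, ← pl_comp, ← pl_comp, hh_fst, hh_snd,
      K516.Quad.pl_mul, K516.Quad.pl_mul, e1, e2, map_mul, map_inv]
    generalize D c (fst A A) (snd A A) = x
    generalize pl (fst A A) c = y
    generalize pl (snd A A) c = z
    generalize pl (snd A A) (pl (𝟙 A)⁻¹ c) = w
    rw [zpow_two, mul_inv, mul_inv, inv_inv, ← mul_assoc (x * (y * z)) x, mul_comm (x * (y * z)) x,
      mul_assoc, mul_assoc x x]
    congr 1
    rw [mul_assoc x (y * z), mul_comm y z, mul_assoc z y, ← mul_assoc y y⁻¹, mul_inv_cancel, one_mul]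
  have h3 := chi_pull (g + g) d1 d1 (hh A) (pl (fst A A) c * pl (snd A A) c⁻¹)
  have h4 : chi (X := A ⊗ A) (pl (hh A) (pl (fst A A) c * pl (snd A A) c⁻¹)) =
      2 ^ (g + g) * chi (X := A ⊗ A) (D c (fst A A) (snd A A)) := by
    rw [h2, chi_mul_inv _ (inv_pl (snd A A) (inv_div c)), chi_zpow (g + g) d1]
  have h5 : chi (X := A ⊗ A) (pl (fst A A) c * pl (snd A A) c⁻¹) = (-1) ^ g * chi c ^ 2 := by
    rw [K506.ChiBox.chi_box hg hg d1]
    have h6 := chi_zpow g hg c (-1)
    rw [zpow_neg_one] at h6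
    rw [h6]
    ring
  have h7 : (2 : ℤ) ^ (g + g) ≠ 0 := by positivity
  apply mul_left_cancel₀ h7
  rw [← h4, ← h5]
  refine h3.trans ?_
  rw [hd]
  push_cast
  rfl

end closed

section dual

open K732.PicZero K732.Dual K732.Transp Groth.Agent.Fga.RigGrp

variable {X Xt : Over (Spec (CommRingCat.of k))} [GrpObj X] [GrpObj Xt]
  [IsProper X.hom] [Smooth X.hom] [GeometricallyConnected X.hom]
  {φ : ∀ T : Over (Spec (CommRingCat.of k)), PicF.Cl (PicF.XT X.hom T) → (T ⟶ Xt)}
  (hD : AbDual.IsDualAV Scheme.fppfPrecoverage X Xt φ)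

include hD

/-- `χ` of a family of classes classified by a homomorphism `T ⟶ Xt` (any field). -/
theorem chi_family {T : Over (Spec (CommRingCat.of k))} [GrpObj T] [IsProper T.hom]
    [GeometricallyIntegral T.hom] [IsIntegral (X ⊗ Xt).left] (g : ℕ) (hg : topologicalKrullDim X.left = g)
    (hT : topologicalKrullDim T.left = g) {ζ : Pic (PicF.XT X.hom T)} (hz : ζ ∈ pz X.hom T)
    (hr : ζ ∈ rg X T) [IsMonHom (cm φ ζ)] :
    chi (X := X ⊗ T) ζ = deg (X ◁ cm φ ζ) * (-1) ^ g := by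
  obtain ⟨-, t1, t2, t3, t4⟩ := K732.DualField.isAV hD
  have giX := K732.AV.geomInt X
  have giT := K732.AV.geomInt Xt
  obtain ⟨ξ, p1, p2, p3⟩ := exists_poinc hD (K732.AV.hF X)
  have hpull := eq_pull_poinc hD (K732.AV.hF X) p1 p2 p3 hz hr
  have hw : IsMonHom (X ◁ cm φ ζ) := inferInstance
  have gi1 : GeometricallyIntegral (X ⊗ T).hom := K520.Prod.geometricallyIntegral_tensor X T
  have gi2 : GeometricallyIntegral (X ⊗ Xt).hom := K520.Prod.geometricallyIntegral_tensor X Xt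
  have ip1 : IsProper (X ⊗ T).hom := K520.Prod.isProper_tensor X T
  have ip2 : IsProper (X ⊗ Xt).hom := K520.Prod.isProper_tensor X Xt
  have d1 : topologicalKrullDim (X ⊗ T).left = ((g + g : ℕ) : WithBot ℕ∞) := by
    rw [K518.ProdIsog.dim_tensor, hg, hT]
    push_cast
    rfl
  have d2 : topologicalKrullDim (X ⊗ Xt).left = ((g + g : ℕ) : WithBot ℕ∞) := by
    rw [K518.ProdIsog.dim_tensor, t4, hg]
    push_cast
    rfl
  have e2 : chi (X := X ⊗ Xt) ξ = (-1) ^ g := by
    obtain ⟨P, hP, rfl⟩ := exists_mk ξ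
    rw [← K732.ChiPoin.euler_poinc k X Xt φ hD P hP ⟨isPicZeroCl_iff.2 p1, p3, ?_⟩ g hg]
    · exact chi_mk (X := X ⊗ Xt) hP
    · change PicF.IsTrivialCl (PicF.pullCl _ (toCl (mk P hP)))
      rw [← toCl_pull, isTrivialCl_toCl_iff]
      exact (mem_Rg _ _ _).1 p2
  have e1 := chi_pull (g + g) d1 d2 (X ◁ cm φ ζ) ξ
  rw [e2] at e1
  rw [← e1, ← XTmap_eq]
  exact congrArg (chi (X := X ⊗ T)) hpull

/-- `deg (1 × f) = deg f`. -/
theorem deg_whiskerLeft {T : Over (Spec (CommRingCat.of k))} [GrpObj T] [IsProper T.hom]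
    [GeometricallyIntegral T.hom] [IsIntegral (X ⊗ Xt).left] (g : ℕ) (hg : topologicalKrullDim X.left = g)
    (hT : topologicalKrullDim T.left = g) (f : T ⟶ Xt) [IsMonHom f] (hf : IsFinite f.left) (d : ℕ)
    (hd : ∀ y, f.left.finrank y = d) : deg (X ◁ f) = d := by
  obtain ⟨-, t1, t2, t3, t4⟩ := K732.DualField.isAV hD
  have giX := K732.AV.geomInt X
  have giT := K732.AV.geomInt Xt
  have gi1 : GeometricallyIntegral (X ⊗ T).hom := K520.Prod.geometricallyIntegral_tensor X T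
  have gi2 : GeometricallyIntegral (X ⊗ Xt).hom := K520.Prod.geometricallyIntegral_tensor X Xt
  have ip1 : IsProper (X ⊗ T).hom := K520.Prod.isProper_tensor X T
  have ip2 : IsProper (X ⊗ Xt).hom := K520.Prod.isProper_tensor X Xt
  have d1 : topologicalKrullDim (X ⊗ T).left = ((g + g : ℕ) : WithBot ℕ∞) := by
    rw [K518.ProdIsog.dim_tensor, hg, hT]
    push_cast
    rfl
  have d2 : topologicalKrullDim (X ⊗ Xt).left = ((g + g : ℕ) : WithBot ℕ∞) := by
    rw [K518.ProdIsog.dim_tensor, t4, hg]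
    push_cast
    rfl
  have hfl : Flat f.left := K516.HomFin.flat_of_isFinite g hT (t4.trans hg) f
  have sq := Groth.Agent.Sga3C.SchemImage.isPullback_whiskerLeft_left f X
  have h1 : IsFinite (X ◁ f).left := MorphismProperty.of_isPullback (P := @IsFinite) sq.flip ‹_›
  rw [← finrank_eq (g + g) d1 d2 (X ◁ f) h1 (genericPoint (X ⊗ Xt).left)]
  rw [Scheme.Hom.finrank_of_isPullback _ _ _ _ sq.flip, hd]

section closed

variable [IsAlgClosed k]

/-- **Riemann–Roch**: `χ(c)² = deg φ_c`. -/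
theorem chi_sq (g : ℕ) (hg : topologicalKrullDim X.left = g) (c : Pic X.left)
    (hf : IsFinite (Lam.lam φ c).left) (d : ℕ) (hd : ∀ y, (Lam.lam φ c).left.finrank y = d) :
    chi c ^ 2 = d := by
  obtain ⟨-, t1, t2, t3, t4⟩ := K732.DualField.isAV hD
  have giX := K732.AV.geomInt X
  have giT := K732.AV.geomInt Xt
  have gi2 : GeometricallyIntegral (X ⊗ Xt).hom := K520.Prod.geometricallyIntegral_tensor X Xt
  have hii : IsIntegral (X ⊗ Xt).left := GeometricallyIntegral.isIntegral_of_subsingleton (X ⊗ Xt).hom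
  have hm := Lam.isMonHom_lam hD c
  have hm' : IsMonHom (cm φ (K528.MumZero.mumCl X c)) := hm
  have h1 := chi_family hD g hg hg (Lam.mumCl_mem_pz c) (Lam.mumCl_mem_rg c)
  have h2 := deg_whiskerLeft hD g hg hg (Lam.lam φ c) hf d hd
  change _ = (deg (X ◁ Lam.lam φ c) : ℤ) * _ at h1
  rw [h2] at h1
  have h3 : K528.MumZero.mumCl X c = D c (fst X X) (snd X X) := by
    have h3 := K528.MumZero.pull_lift_mumCl X c (fst X X) (snd X X)
    rw [lift_fst_snd] at h3
    have h5 : pull (𝟙 (X ⊗ X) : X ⊗ X ⟶ X ⊗ X).left (K528.MumZero.mumCl X c) =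
      K528.MumZero.mumCl X c := pull_id _
    rw [h5] at h3
    rw [h3, D, mul_inv, mul_assoc]
  have h4 : chi (X := X ⊗ X) (K528.MumZero.mumCl X c) = (-1) ^ g * chi c ^ 2 := by
    rw [h3]
    exact chi_D g hg c
  rw [h4, mul_comm ((d : ℕ) : ℤ)] at h1
  exact mul_left_cancel₀ (pow_ne_zero g (by norm_num : (-1 : ℤ) ≠ 0)) h1

omit hD in
/-- The class of a Mumford module given with an inverse of `L`. -/
theorem cl_eq_mumCl {L : X.left.Modules} (hL : PicF.IsInvertible L) {L' : X.left.Modules}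
    (hL' : Nonempty (CohB1.tensorMod L L' ≅ Coh.structureModule X.left))
    {Λ : (PicF.XT X.hom X).Modules}
    (hΛ : Nonempty (Λ ≅ CohB1.tensorMod (CohB1.tensorMod ((Scheme.Modules.pullback μ[X].left).obj L)
      ((Scheme.Modules.pullback (fst X X).left).obj L')) ((Scheme.Modules.pullback (snd X X).left).obj L'))) :
    PicF.cl Λ = toCl (K528.MumZero.mumCl X (PicGrp.mk L hL)) := by
  have i1 : PicF.IsInvertible L' := by
    obtain ⟨e⟩ := hL'
    exact Groth.Agent.Fga.IntAdd.isInvertible_of_tensor e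
  have e1 : PicGrp.mk L' i1 = (PicGrp.mk L hL)⁻¹ := by
    rw [eq_inv_iff_mul_eq_one, mul_comm, mk_mul_mk hL i1, one_def, mk_eq_iff]
    exact hL'
  obtain ⟨e⟩ := hΛ
  have j1 := Groth.Agent.Fdesc.LocGen.isInvertible_pullback (μ[X] : X ⊗ X ⟶ X).left hL
  have j2 := Groth.Agent.Fdesc.LocGen.isInvertible_pullback (fst X X).left i1
  have j3 := Groth.Agent.Fdesc.LocGen.isInvertible_pullback (snd X X).left i1
  have iΛ : PicF.IsInvertible Λ := K529.KL.isInvertible_of_iso e.symm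
    (Groth.Agent.Fdesc.LocGen.isInvertible_tensorMod (Groth.Agent.Fdesc.LocGen.isInvertible_tensorMod j1 j2) j3)
  have e2 : PicGrp.mk Λ iΛ = K528.MumZero.mumCl X (PicGrp.mk L hL) := by
    rw [K528.MumZero.mumCl, ← map_inv, ← map_inv, ← e1, pull_mk, pull_mk, pull_mk, mk_mul_mk, mk_mul_mk,
      mk_eq_iff]
    exact ⟨e⟩
  rw [← e2]
  rfl

end closed

end dual

end K732.RR
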