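import Groth.Agent.AbDual.K732.PrincPol
import Groth.Agent.AbDual.K732.RR

/-!
# Descent of an ample module to a principal one, with the isomorphism

* `exists_principal_iso`: `k` algebraically closed, `L` ample on `A` ⇒ there are an isogeny `f : A ⟶ B` and `M`
  ample on `B` with `f^* M ≅ L` and `K(M) = 1`;
* `chi_eq_one`: `M` ample with `K(M) = 1` ⇒ `χ(M) = 1`;
* `exists_chi_one`: the conclusion `f^* M ≅ L`, `χ(M) = 1`.
-/

set_option autoImplicit false
set_option linter.unusedSectionVars false
set_option linter.style.longLine false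
universe u

open CategoryTheory CategoryTheory.Limits MonoidalCategory CartesianMonoidalCategory MonObj GrpObj
  AlgebraicGeometry

namespace K732.PrincIso

open Groth.Agent.Grpsch.PicGrp Groth.Agent.Fga.RigGrp K732.Cov K732.PicZero K732.RigSheaf K732.Dual
open Groth.Agent.Sga3B.KerGrp Groth.Agent.Sga7.H760.KerBc
open Groth.Agent.Books Groth.Agent.Books.AffBridge Groth.Agent.Books.AffBridge2
open K528.MumZero (mumCl)
open ThetaGrp K999.Orth K999.Quot K732.EtKer K732.PrincPol

variable {k : Type u} [Field k] [IsAlgClosed k]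

/-- **Reduction to degree one.** -/
theorem exists_principal_iso (n : ℕ) : ∀ (A : Over (Spec (CommRingCat.of k))) [GrpObj A] [IsProper A.hom]
    [GeometricallyIntegral A.hom] (L : A.left.Modules) (_ : CohB1.IsAmple L)
    (K : Over (Spec (CommRingCat.of k))) (iK : K ⟶ A) (_ : IsKL A L iK) [IsFinite K.hom]
    (s : ↥(Spec (CommRingCat.of k))) (_ : K.hom.finrank s ≤ n),
    ∃ (B : Over (Spec (CommRingCat.of k))) (_ : GrpObj B) (_ : IsProper B.hom)
      (_ : GeometricallyIntegral B.hom) (f : A ⟶ B) (M : B.left.Modules), IsMonHom f ∧ IsFinite f.left ∧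
      Surjective f.left ∧ CohB1.IsAmple M ∧ Nonempty ((Scheme.Modules.pullback f.left).obj M ≅ L) ∧ ∀ (T : Over (Spec (CommRingCat.of k))) (x : T ⟶ B),
        IsMumfordTriv B M x → x = 1 := by
  induction n with
  | zero =>
    intro A _ _ _ L hL K iK hK _ s hs
    have h2 := one_le_finrank_KL hL.1 hK s
    omega
  | succ n ih =>
    intro A _ _ _ L hL K iK hK _ s hs
    have hcomm : IsCommMonObj A := isCommMonObj_of_isProper_of_geometricallyIntegral A
    by_cases hne : iK = 1
    · refine ⟨A, inferInstance, inferInstance, inferInstance, 𝟙 A, L, inferInstance, ?_, ?_, hL, ?_, ?_⟩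
      · exact inferInstanceAs (IsFinite (𝟙 A.left))
      · exact inferInstanceAs (Surjective (𝟙 A.left))
      · exact ⟨(Scheme.Modules.pullbackId A.left).app L⟩
      · intro T x hx
        obtain ⟨y, rfl⟩ := (hK.univ T x).1 hx
        rw [hne, MonObj.comp_one]
    · obtain ⟨R, gR, i, hi1, hi2, hi3, hi4, hi5⟩ := K999.MaxIso.exists_isotropic hL.1 hK hne
      have hHf : IsFinite R.hom := isFinite_of_le hL.1 hK i hi3
      obtain ⟨B, hB1, hB2, hB3, hB4, f, hf1, hf2, hf3, hf4, M, hM, m, D, iD, hDf, C, iC, hCf, g, hmf, hker,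
        hD, hg, hC, hd, hr⟩ := exists_quot hL.1 hK i hi3 hi4
      -- `M` is ample
      obtain ⟨e, -⟩ := K999.VIso.exists_iso_pmor m
      rw [hmf] at e
      have hMa : CohB1.IsAmple M := by
        exact isAmple_of_pullback f hM (Groth.Agent.Flat2H.FamDict.isAmple_of_iso e.symm hL)
      -- the ranks
      have h1 : 2 ≤ R.hom.finrank s := by
        by_contra hcon
        have h2 := K999.NonDeg.finrank_pos (P := R) s
        have h3 : ∀ s', R.hom.finrank s' = 1 := by
          intro s'
          have hsub : Subsingleton ↥(Spec (CommRingCat.of k)) := inferInstanceAs (Subsingleton (PrimeSpectrum k))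
          rw [Subsingleton.elim s' s]
          omega
        apply hi5
        have h4 := K999.NonDeg.eq_one_of_finrank i h3 (𝟙 R)
        rwa [Category.id_comp] at h4
      have h2 : C.hom.finrank s ≤ K.hom.finrank s := by
        obtain ⟨h3, -⟩ := (hC iC).mp ⟨𝟙 C, Category.id_comp _⟩
        obtain ⟨z, hz⟩ := (hK.univ C iC).mp h3
        have hclK := hK.closed
        have hclC : IsClosedImmersion iC.left := by
          have := hD.closed
          have hgl : IsPullback g.left iC.left iD.left f.left := hg.map (Over.forget _)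
          exact MorphismProperty.of_isPullback hgl inferInstance
        have hz' : IsClosedImmersion (z.left ≫ iK.left) := by
          rw [← Over.comp_left, hz]
          exact hclC
        have hz2 : IsClosedImmersion z.left := IsClosedImmersion.of_comp_isClosedImmersion z.left iK.left
        exact finrank_le z s
      have h3 := hr s
      have h4 : 1 ≤ D.hom.finrank s := one_le_finrank_KL hM hD s
      have h5 : D.hom.finrank s ≤ n := by
        have h6 : 2 * D.hom.finrank s ≤ R.hom.finrank s * D.hom.finrank s := Nat.mul_le_mul_right _ h1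
        omega
      obtain ⟨B', g1, g2, g3, f', M', k1, k2, k3, k4, ⟨k6⟩, k5⟩ := ih B M hMa D iD hD s h5
      refine ⟨B', g1, g2, g3, f ≫ f', M', inferInstance, ?_, ?_, k4, ?_, k5⟩
      · rw [Over.comp_left]
        infer_instance
      · rw [Over.comp_left]
        infer_instance
      · exact ⟨((Scheme.Modules.pullbackComp f.left f'.left).app M').symm ≪≫
          (Scheme.Modules.pullback f.left).mapIso k6 ≪≫ e⟩

/-- An ample module with trivial `K(M)` has Euler characteristic one. -/
theorem chi_eq_one {B : Over (Spec (CommRingCat.of k))} [GrpObj B] [IsProper B.hom]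
    [GeometricallyIntegral B.hom] {M : B.left.Modules} (hM : CohB1.IsAmple M)
    (h : ∀ (T : Over (Spec (CommRingCat.of k))) (x : T ⟶ B), IsMumfordTriv B M x → x = 1) :
    K524.Chi.chi (X := B) (Groth.Agent.Grpsch.PicGrp.mk M hM.1) = 1 := by
  have b3 : Smooth B.hom := K449.Basic.smooth B
  have b4 := K732.Isog.geomConn_of_geomInt B.hom
  obtain ⟨g, hg⟩ := K516.HomFin.exists_dim B
  obtain ⟨Bt, gBt, φ, q1, hD, q2, q3, q4, q5⟩ := K732.DualField.exists_dual (A := B)
  have hiso := isIso_lam hD hM h
  have h1 := K732.RR.chi_sq hD g hg (Groth.Agent.Grpsch.PicGrp.mk M hM.1) inferInstance 1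
    (fun y ↦ by rw [Scheme.Hom.finrank_eq_one_of_isIso]; rfl)
  have h2 := K732.RR.chi_pos (A := B) g hg hM
  push_cast at h1
  exact (pow_eq_one_iff_of_nonneg h2.le two_ne_zero).1 h1

/-- **Every ample line bundle on an abelian variety over an algebraically closed field is the pull-back under an
isogeny of an ample line bundle of Euler characteristic one.** -/
theorem exists_chi_one (A : Over (Spec (CommRingCat.of k))) [GrpObj A] [IsProper A.hom]
    [GeometricallyIntegral A.hom] (L : A.left.Modules) (hL : CohB1.IsAmple L) :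
    ∃ (B : Over (Spec (CommRingCat.of k))) (_ : GrpObj B) (_ : IsProper B.hom)
      (_ : GeometricallyIntegral B.hom) (f : A ⟶ B) (M : B.left.Modules), IsMonHom f ∧ IsFinite f.left ∧
      Surjective f.left ∧ Nonempty ((Scheme.Modules.pullback f.left).obj M ≅ L) ∧
      (∀ (T : Over (Spec (CommRingCat.of k))) (x : T ⟶ B), IsMumfordTriv B M x → x = 1) ∧
      ∃ hM : CohB1.IsAmple M, K524.Chi.chi (X := B) (Groth.Agent.Grpsch.PicGrp.mk M hM.1) = 1 := by
  obtain ⟨K, iK, hK, hKf⟩ := exists_isKL A hL
  obtain ⟨s⟩ : Nonempty ↥(Spec (CommRingCat.of k)) := inferInstanceAs (Nonempty (PrimeSpectrum k))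
  obtain ⟨B, gB, b1, b2, f, M, h1, h2, h3, hM, h5, h4⟩ := exists_principal_iso _ A L hL K iK hK s le_rfl
  exact ⟨B, gB, b1, b2, f, M, h1, h2, h3, h5, h4, hM, chi_eq_one hM h4⟩

end K732.PrincIso
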